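import Mathlib
import Cfsg.Prelude.Def_Local

set_option autoImplicit false

namespace Cfsg.Agent.Helper30

open Cfsg

section basic

variable {G : Type*} [Group G]

theorem card_sup_dvd_mul' [Finite G] (K H : Subgroup G) [K.Normal] :
    Nat.card ↥(K ⊔ H) ∣ Nat.card K * Nat.card H := by
  have h1 : Nat.card K * K.relIndex (K ⊔ H) = Nat.card ↥(K ⊔ H) := by
    have := Subgroup.relIndex_mul_relIndex ⊥ K (K ⊔ H) bot_le le_sup_left
    simpa [Subgroup.relIndex_bot_left] using this
  rw [← h1, Subgroup.relIndex_sup_left]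
  exact Nat.mul_dvd_mul_left _ (Subgroup.relIndex_dvd_card K H)

/-- A join of normal subgroups of order coprime to `p` is normal of order coprime to `p`. -/
theorem coprime_card_sSup [Finite G] (p : ℕ)
    (S : Set (Subgroup G)) (hS : ∀ N ∈ S, N.Normal ∧ (Nat.card N).Coprime p) :
    (sSup S).Normal ∧ (Nat.card ↥(sSup S)).Coprime p := by
  have hfin : S.Finite := Set.toFinite S
  induction S, hfin using Set.Finite.induction_on with
  | empty =>
    simp only [sSup_empty]
    refine ⟨inferInstance, ?_⟩
    simp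
  | insert _ _ ih =>
    rename_i a s has hsfin
    rw [sSup_insert]
    have ha := hS a (Set.mem_insert _ _)
    have hs := ih (fun N hN => hS N (Set.mem_insert_of_mem _ hN))
    have := ha.1
    have := hs.1
    refine ⟨inferInstance, ?_⟩
    exact Nat.Coprime.coprime_dvd_left (card_sup_dvd_mul' a (sSup s)) (Nat.Coprime.mul_left ha.2 hs.2)

theorem pPrimeCore_coprime [Finite G] (p : ℕ) : (Nat.card ↥(pPrimeCore p G)).Coprime p :=
  (coprime_card_sSup p _ (fun _ hN => hN)).2

theorem le_pPrimeCore {p : ℕ} {N : Subgroup G} (hN : N.Normal) (h : (Nat.card N).Coprime p) :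
    N ≤ pPrimeCore p G :=
  le_sSup ⟨hN, h⟩

theorem pPrimeCore_map_le {A : Type*} {B : Type*} [Group A] [Group B] (p : ℕ) (f : A ≃* B) :
    (pPrimeCore p A).map f.toMonoidHom ≤ pPrimeCore p B := by
  unfold pPrimeCore
  rw [sSup_eq_iSup', Subgroup.map_iSup]
  apply iSup_le
  rintro ⟨N, hN⟩
  apply le_sSup
  refine ⟨?_, ?_⟩
  · exact Subgroup.Normal.map hN.1 _ f.surjective
  · have : Nat.card ↥(N.map f.toMonoidHom) = Nat.card ↥N :=
      Nat.card_congr (N.equivMapOfInjective f.toMonoidHom f.injective).symm.toEquiv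
    rw [this]; exact hN.2

/-- The `p'`-core is carried to the `p'`-core by an isomorphism. -/
theorem pPrimeCore_map_mulEquiv {H : Type*} [Group H] (p : ℕ) (e : G ≃* H) :
    (pPrimeCore p G).map e.toMonoidHom = pPrimeCore p H := by
  apply le_antisymm (pPrimeCore_map_le p e)
  have h2 := pPrimeCore_map_le p e.symm
  intro x hx
  refine ⟨e.symm x, h2 ⟨x, hx, rfl⟩, ?_⟩
  simp

instance pPrimeCore_characteristic (p : ℕ) : (pPrimeCore p G).Characteristic := by
  rw [Subgroup.characteristic_iff_map_eq]
  intro ϕ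
  exact pPrimeCore_map_mulEquiv p ϕ

/-- `O_{p'}(G / O_{p'}(G)) = 1` for finite `G`. -/
theorem pPrimeCore_quotient_eq_bot [Finite G] (p : ℕ) :
    pPrimeCore p (G ⧸ pPrimeCore p G) = ⊥ := by
  rw [eq_bot_iff]
  have hco := pPrimeCore_coprime (G := G ⧸ pPrimeCore p G) p
  set N := (pPrimeCore p (G ⧸ pPrimeCore p G)).comap (QuotientGroup.mk' (pPrimeCore p G)) with hN
  have hNn : N.Normal := Subgroup.Normal.comap inferInstance _
  have hle : pPrimeCore p G ≤ N := by
    intro x hx
    rw [hN, Subgroup.mem_comap]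
    have : (QuotientGroup.mk' (pPrimeCore p G)) x = 1 := by
      rw [QuotientGroup.mk'_apply, QuotientGroup.eq_one_iff]; exact hx
    rw [this]; exact Subgroup.one_mem _
  -- the order of N
  have hcard : Nat.card ↥N = Nat.card ↥(pPrimeCore p G) * Nat.card ↥(pPrimeCore p (G ⧸ pPrimeCore p G)) := by
    have hsurj : Function.Surjective (QuotientGroup.mk' (pPrimeCore p G)) := QuotientGroup.mk'_surjective _
    have h1 : N.map (QuotientGroup.mk' (pPrimeCore p G)) = pPrimeCore p (G ⧸ pPrimeCore p G) := by
      rw [hN, Subgroup.map_comap_eq_self_of_surjective hsurj]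
    -- restrict the quotient map to N
    let f : ↥N →* ↥(pPrimeCore p (G ⧸ pPrimeCore p G)) :=
      ((QuotientGroup.mk' (pPrimeCore p G)).comp N.subtype).codRestrict _ (fun x => x.2)
    have hf : Function.Surjective f := by
      rintro ⟨y, hy⟩
      obtain ⟨x, rfl⟩ := hsurj y
      exact ⟨⟨x, hy⟩, rfl⟩
    have hker : Nat.card f.ker = Nat.card ↥(pPrimeCore p G) := by
      have hk : f.ker = (pPrimeCore p G).subgroupOf N := by
        ext ⟨x, hx⟩
        rw [MonoidHom.mem_ker, Subgroup.mem_subgroupOf]
        constructor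
        · intro h
          have h' := congrArg Subtype.val h
          simp only [f, Subgroup.coe_one] at h'
          exact (QuotientGroup.eq_one_iff _).mp h'
        · intro h
          apply Subtype.ext
          simp only [f, Subgroup.coe_one]
          exact (QuotientGroup.eq_one_iff _).mpr h
      rw [hk]
      exact Nat.card_congr (Subgroup.subgroupOfEquivOfLe hle).toEquiv
    have := Subgroup.card_eq_card_quotient_mul_card_subgroup f.ker
    rw [this, hker, mul_comm]
    congr 1
    exact Nat.card_congr (QuotientGroup.quotientKerEquivOfSurjective f hf).toEquiv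
  have hNco : (Nat.card ↥N).Coprime p := by
    rw [hcard]
    exact Nat.Coprime.mul_left (pPrimeCore_coprime p) hco
  have hNle : N ≤ pPrimeCore p G := le_pPrimeCore hNn hNco
  intro y hy
  obtain ⟨x, rfl⟩ := QuotientGroup.mk'_surjective (pPrimeCore p G) y
  have hx : x ∈ N := hy
  rw [Subgroup.mem_bot, QuotientGroup.mk'_apply, QuotientGroup.eq_one_iff]
  exact hNle hx

/-- Conjugation by an element of the normalizer, as an automorphism of the subgroup. -/
def conjAut (B : Subgroup G) (d : G) (hd : d ∈ Subgroup.normalizer (B : Set G)) : MulAut ↥B where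
  toFun b := ⟨d * b * d⁻¹, (Subgroup.mem_normalizer_iff.mp hd b).mp b.2⟩
  invFun b := ⟨d⁻¹ * b * d, (Subgroup.mem_normalizer_iff''.mp hd b).mp b.2⟩
  left_inv b := by
    apply Subtype.ext
    simp [mul_assoc]
  right_inv b := by
    apply Subtype.ext
    simp [mul_assoc]
  map_mul' x y := by
    apply Subtype.ext
    simp [mul_assoc]

theorem conjAut_apply (B : Subgroup G) (d : G) (hd : d ∈ Subgroup.normalizer (B : Set G)) (b : ↥B) :
    ((conjAut B d hd b : ↥B) : G) = d * b * d⁻¹ := rfl

/-- A characteristic subgroup of a subgroup `H` (given as a family compatible with automorphisms)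
is normalized by the normalizer of `H`. Here specialised to the `p'`-core. -/
theorem conj_mem_pPrimeCore_map (p : ℕ) (H : Subgroup G) (k : G)
    (hk : k ∈ Subgroup.normalizer (H : Set G)) (x : G)
    (hx : x ∈ (pPrimeCore p ↥H).map H.subtype) :
    k * x * k⁻¹ ∈ (pPrimeCore p ↥H).map H.subtype := by
  obtain ⟨y, hy, rfl⟩ := hx
  refine ⟨conjAut H k hk y, ?_, rfl⟩
  have := pPrimeCore_map_mulEquiv p (conjAut H k hk)
  rw [← this]
  exact ⟨y, hy, rfl⟩

/-- The `p'`-core of a subnormal subgroup lies in the `p'`-core of the group. -/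
theorem pPrimeCore_subnormal_map_le [Finite G] (p : ℕ) {K : Subgroup G} (hK : K.IsSubnormal) :
    (pPrimeCore p ↥K).map K.subtype ≤ pPrimeCore p G := by
  induction hK with
  | top =>
    have := pPrimeCore_map_le p (Subgroup.topEquiv : (⊤ : Subgroup G) ≃* G)
    exact this
  | step H K hle hKsub hN ih =>
    set OH : Subgroup G := (pPrimeCore p ↥H).map H.subtype with hOH
    have hOHH : OH ≤ H := by
      rintro x ⟨y, _, rfl⟩
      exact y.2
    have hOHK : OH ≤ K := hOHH.trans hle
    have hKN : K ≤ Subgroup.normalizer (H : Set G) :=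
      (Subgroup.normal_subgroupOf_iff_le_normalizer hle).mp hN
    have hnorm : (OH.subgroupOf K).Normal := by
      rw [Subgroup.normal_subgroupOf_iff_le_normalizer hOHK]
      intro k hk
      rw [Subgroup.mem_normalizer_iff]
      intro x
      constructor
      · intro hx
        exact conj_mem_pPrimeCore_map p H k (hKN hk) x hx
      · intro hx
        have := conj_mem_pPrimeCore_map p H k⁻¹ ((Subgroup.normalizer (H : Set G)).inv_mem (hKN hk)) _ hx
        have e : k⁻¹ * (k * x * k⁻¹) * k⁻¹⁻¹ = x := by group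
        rw [e] at this
        exact this
    have hcop : (Nat.card ↥(OH.subgroupOf K)).Coprime p := by
      have h1 : Nat.card ↥(OH.subgroupOf K) = Nat.card ↥OH :=
        Nat.card_congr (Subgroup.subgroupOfEquivOfLe hOHK).toEquiv
      have h2 : Nat.card ↥OH = Nat.card ↥(pPrimeCore p ↥H) :=
        Nat.card_congr ((pPrimeCore p ↥H).equivMapOfInjective H.subtype H.subtype_injective).symm.toEquiv
      rw [h1, h2]
      exact pPrimeCore_coprime p
    have hle2 : OH.subgroupOf K ≤ pPrimeCore p ↥K := le_pPrimeCore hnorm hcop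
    have hOHeq : OH = (OH.subgroupOf K).map K.subtype := by
      rw [Subgroup.map_subgroupOf_eq_of_le hOHK]
    rw [hOHeq]
    exact (Subgroup.map_mono hle2).trans ih

/-- A subnormal subgroup of order coprime to `p` lies in the `p'`-core. -/
theorem subnormal_le_pPrimeCore [Finite G] (p : ℕ) {H : Subgroup G} (hH : H.IsSubnormal)
    (hco : (Nat.card ↥H).Coprime p) : H ≤ pPrimeCore p G := by
  have htop : (⊤ : Subgroup ↥H) ≤ pPrimeCore p ↥H := by
    apply le_pPrimeCore inferInstance
    rw [Subgroup.card_top]; exact hco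
  have h1 : (⊤ : Subgroup ↥H).map H.subtype ≤ pPrimeCore p G :=
    (Subgroup.map_mono htop).trans (pPrimeCore_subnormal_map_le p hH)
  rw [← MonoidHom.range_eq_map, Subgroup.range_subtype] at h1
  exact h1

/-- If `O_{p'}(K) = 1` then the centre of the finite group `K` is a `p`-group. -/
theorem isPGroup_center_of_pPrimeCore_eq_bot [Finite G] (p : ℕ) (hp : p.Prime)
    (h : pPrimeCore p G = ⊥) : IsPGroup p ↥(Subgroup.center G) := by
  rintro ⟨z, hz⟩
  have hpos : orderOf z ≠ 0 := (orderOf_pos z).ne'
  obtain ⟨a, m, hm, hzm⟩ := Nat.exists_eq_pow_mul_and_not_dvd hpos p hp.ne_one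
  refine ⟨a, ?_⟩
  apply Subtype.ext
  rw [Subgroup.coe_pow, Subgroup.coe_one]
  show z ^ p ^ a = 1
  set w := z ^ p ^ a with hw
  have hwo : orderOf w = m := by
    rw [hw, orderOf_pow' z (pow_ne_zero a hp.ne_zero), hzm, Nat.gcd_eq_right (dvd_mul_right _ _)]
    exact Nat.mul_div_cancel_left m (pow_pos hp.pos a)
  have hwc : w ∈ Subgroup.center G := (Subgroup.center G).pow_mem hz _
  have hnorm : (Subgroup.zpowers w).Normal := by
    constructor
    intro x hx g
    have hxc : x ∈ Subgroup.center G := by
      obtain ⟨n, rfl⟩ := hx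
      exact (Subgroup.center G).zpow_mem hwc n
    have : g * x * g⁻¹ = x := by
      rw [Subgroup.mem_center_iff] at hxc
      rw [hxc g]; simp
    rw [this]; exact hx
  have hco : (Nat.card ↥(Subgroup.zpowers w)).Coprime p := by
    rw [Nat.card_zpowers, hwo]
    exact ((Nat.Prime.coprime_iff_not_dvd hp).mpr hm).symm
  have := le_pPrimeCore hnorm hco
  rw [h] at this
  have hw1 := this (Subgroup.mem_zpowers w)
  exact (Subgroup.mem_bot).mp hw1

end basic

end Cfsg.Agent.Helper30
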