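import Mathlib
import Cfsg.Agent.Lib.Helper24.Coprime

set_option autoImplicit false

namespace Cfsg.Agent.Helper30

open Subgroup

variable {G : Type*} [Group G]

/-- If `X` normalizes `H₁` and `H₂`, it normalizes `⁅H₁, H₂⁆`. -/
theorem le_normalizer_commutator (X H₁ H₂ : Subgroup G)
    (h₁ : X ≤ normalizer (H₁ : Set G)) (h₂ : X ≤ normalizer (H₂ : Set G)) :
    X ≤ normalizer ((⁅H₁, H₂⁆ : Subgroup G) : Set G) := by
  intro x hx
  rw [Subgroup.mem_normalizer_iff_map_conj_eq, Subgroup.map_commutator]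
  have e₁ := Subgroup.mem_normalizer_iff_map_conj_eq.mp (h₁ hx)
  have e₂ := Subgroup.mem_normalizer_iff_map_conj_eq.mp (h₂ hx)
  rw [e₁, e₂]

/-- A `p`-group `A` acting on a nontrivial `p`-group `Q` (inside a finite group):
`⁅Q, A⁆ < Q`. -/
theorem commutator_lt_of_isPGroup [Finite G] {p : ℕ} [Fact p.Prime]
    (Q A : Subgroup G) (hQ : IsPGroup p Q) (hA : IsPGroup p A)
    (hAQ : A ≤ normalizer (Q : Set G)) (hne : Q ≠ ⊥) : ⁅Q, A⁆ < Q := by
  have hle : ⁅Q, A⁆ ≤ Q := Helper24.commutator_le_of_le_normalizer Q A hAQ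
  refine lt_of_le_of_ne hle ?_
  intro heq
  have hH : IsPGroup p (Q ⊔ A : Subgroup G) := by
    rw [sup_comm]; exact IsPGroup.to_sup_of_normal_right' hA hQ hAQ
  have : Group.IsNilpotent (Q ⊔ A : Subgroup G) := hH.isNilpotent
  obtain ⟨n, hn⟩ := (Subgroup.isNilpotent_iff_lowerCentralSeries (Q ⊔ A)).mp inferInstance
  have key : ∀ n, Q ≤ (Q ⊔ A).lowerCentralSeries n := by
    intro n
    induction n with
    | zero => exact le_sup_left
    | succ n ih =>
      rw [Subgroup.lowerCentralSeries_succ]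
      calc Q = ⁅Q, A⁆ := heq.symm
        _ ≤ _ := Subgroup.commutator_mono ih le_sup_right
  exact hne (le_bot_iff.mp (hn ▸ key n))

/-- **Thompson's `A × B` lemma** (internal form).  Inside a finite group, let `A` be a
`p`-subgroup and `B` a `p'`-subgroup with `⁅A, B⁆ = 1`, both normalizing the `p`-subgroup `Q`.
If `C_Q(A) ≤ C(B)` then `B` centralizes `Q`. -/
theorem thompson_AxB [Finite G] {p : ℕ} [Fact p.Prime]
    (A B : Subgroup G) (hA : IsPGroup p A) (hB : (Nat.card B).Coprime p) (hAB : ⁅A, B⁆ = ⊥)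
    (Q : Subgroup G) (hQ : IsPGroup p Q)
    (hAQ : A ≤ normalizer (Q : Set G)) (hBQ : B ≤ normalizer (Q : Set G))
    (hC : Q ⊓ centralizer (A : Set G) ≤ centralizer (B : Set G)) : ⁅Q, B⁆ = ⊥ := by
  have main : ∀ (n : ℕ) (Q : Subgroup G), Nat.card Q = n → IsPGroup p Q →
      A ≤ normalizer (Q : Set G) → B ≤ normalizer (Q : Set G) →
      Q ⊓ centralizer (A : Set G) ≤ centralizer (B : Set G) → ⁅Q, B⁆ = ⊥ := by
    intro n
    induction n using Nat.strong_induction_on with
    | _ n ih =>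
      intro Q hn hQ hAQ hBQ hC
      by_cases hne : Q = ⊥
      · rw [hne]; exact Subgroup.commutator_bot_left B
      · have hlt : ⁅Q, A⁆ < Q := commutator_lt_of_isPGroup Q A hQ hA hAQ hne
        have hcardlt : Nat.card (⁅Q, A⁆ : Subgroup G) < n := by
          rw [← hn]
          exact lt_of_le_of_ne (Subgroup.card_le_of_le hlt.le)
            (fun h => hlt.ne (Subgroup.eq_of_le_of_card_ge hlt.le h.ge))
        -- `B` normalizes `A` since it centralizes it
        have hBA : B ≤ normalizer (A : Set G) := by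
          have : B ≤ centralizer (A : Set G) := by
            rw [Subgroup.commutator_eq_bot_iff_le_centralizer] at hAB
            rw [Subgroup.le_centralizer_iff] 
            exact hAB
          exact this.trans (Subgroup.centralizer_le_normalizer _)
        have h1 : ⁅⁅Q, A⁆, B⁆ = ⊥ := by
          refine ih _ hcardlt ⁅Q, A⁆ rfl (hQ.to_le hlt.le)
            (Subgroup.normalizer_commutator_ge_right Q A)
            (le_normalizer_commutator B Q A hBQ hBA) ?_
          exact (inf_le_inf_right _ hlt.le).trans hC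
        have h2 : ⁅⁅A, B⁆, Q⁆ = ⊥ := by rw [hAB]; exact Subgroup.commutator_bot_left Q
        have h3 : ⁅⁅B, Q⁆, A⁆ = ⊥ := Subgroup.commutator_commutator_eq_bot_of_rotate h1 h2
        -- so `⁅Q,B⁆ ≤ C_Q(A) ≤ C(B)`
        have hQBle : ⁅Q, B⁆ ≤ Q := Helper24.commutator_le_of_le_normalizer Q B hBQ
        have h4 : ⁅Q, B⁆ ≤ centralizer (A : Set G) := by
          rw [Subgroup.commutator_comm Q B]
          exact Subgroup.commutator_eq_bot_iff_le_centralizer.mp h3
        have h5 : ⁅⁅Q, B⁆, B⁆ = ⊥ :=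
          Subgroup.commutator_eq_bot_iff_le_centralizer.mpr ((le_inf hQBle h4).trans hC)
        obtain ⟨k, hk⟩ := IsPGroup.iff_card.mp hQ
        have hcop : (Nat.card B).Coprime (Nat.card Q) := by
          rw [hk]; exact Nat.Coprime.pow_right k hB
        exact Helper24.commutator_eq_bot_of_coprime Q B hBQ hcop h5
  exact main _ Q rfl hQ hAQ hBQ hC

end Cfsg.Agent.Helper30
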