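import Mathlib

set_option autoImplicit false

/-!
# Groups generated by their `p'`-elements (helper30)

* `pprimeGen p H` : the subgroup generated by the elements of order prime to `p` (`O^p(H)`).
* `isPGroup_quotient_of_pprime_mem` : if a normal subgroup `M` contains all `p'`-elements, then
  `H ⧸ M` is a `p`-group.
* `pprimeGen_eq_top_of_surjective` : if `H` maps onto a perfect group with kernel of order prime
  to `p`, then `H` is generated by its `p'`-elements.
* `range_le_of_pprime_mem` : to show the image of such `H` lies in a subgroup `M`, it suffices to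
  check `p'`-elements.
-/

namespace Cfsg.Agent.Helper30

open Subgroup

/-- `O^p(H)`: the subgroup generated by the elements of order prime to `p`. -/
def pprimeGen (p : ℕ) (H : Type*) [Group H] : Subgroup H :=
  Subgroup.closure {h : H | (orderOf h).Coprime p}

theorem mem_pprimeGen {p : ℕ} {H : Type*} [Group H] {h : H} (hh : (orderOf h).Coprime p) :
    h ∈ pprimeGen p H := Subgroup.subset_closure hh

instance pprimeGen_characteristic (p : ℕ) (H : Type*) [Group H] :
    (pprimeGen p H).Characteristic := by
  rw [Subgroup.characteristic_iff_map_le]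
  intro φ
  rw [pprimeGen, MonoidHom.map_closure]
  apply Subgroup.closure_mono
  rintro _ ⟨h, hh, rfl⟩
  show (orderOf (φ h)).Coprime p
  rw [MulEquiv.orderOf_eq]; exact hh

/-- If the normal subgroup `M` contains every `p'`-element, then `H ⧸ M` is a `p`-group. -/
theorem isPGroup_quotient_of_pprime_mem {H : Type*} [Group H] [Finite H] (p : ℕ) [hp : Fact p.Prime]
    (M : Subgroup H) [M.Normal] (hM : ∀ h : H, (orderOf h).Coprime p → h ∈ M) :
    IsPGroup p (H ⧸ M) := by
  intro g
  obtain ⟨h, rfl⟩ := QuotientGroup.mk_surjective g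
  have hpos : 0 < orderOf h := orderOf_pos h
  obtain ⟨a, m, hm, hn⟩ := Nat.exists_eq_pow_mul_and_not_dvd hpos.ne' p hp.out.ne_one
  refine ⟨a, ?_⟩
  have hmem : h ^ p ^ a ∈ M := by
    apply hM
    have hdvd : orderOf (h ^ p ^ a) ∣ m := by
      apply orderOf_dvd_of_pow_eq_one
      rw [← pow_mul, ← hn, pow_orderOf_eq_one]
    have hcop : m.Coprime p := ((Nat.Prime.coprime_iff_not_dvd hp.out).mpr hm).symm
    exact Nat.Coprime.coprime_dvd_left hdvd hcop
  rw [← QuotientGroup.mk_pow]
  exact (QuotientGroup.eq_one_iff _).mpr hmem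

/-- A `p`-group quotient `H ⧸ M` of a finite group `H` which maps onto a perfect group with kernel
inside `M` is trivial. -/
theorem eq_top_of_isPGroup_quotient_of_perfect {H E : Type*} [Group H] [Finite H] [Group E]
    (p : ℕ) [Fact p.Prime] (M : Subgroup H) [M.Normal] (hM : IsPGroup p (H ⧸ M))
    (f : H →* E) (hf : Function.Surjective f) [hE : Group.IsPerfect E] (hker : f.ker ≤ M) :
    M = ⊤ := by
  have hperf : Group.IsPerfect (H ⧸ M) := by
    rw [Group.isPerfect_def, eq_top_iff]
    rintro g -
    obtain ⟨h, rfl⟩ := QuotientGroup.mk_surjective g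
    have h1 : f h ∈ commutator E := by rw [hE.commutator_eq_top]; trivial
    have h2 : commutator E = (commutator H).map f := by
      rw [commutator_def, commutator_def, Subgroup.map_commutator, ← MonoidHom.range_eq_map,
        MonoidHom.range_eq_top.mpr hf]
    rw [h2] at h1
    obtain ⟨c, hc, hch⟩ := h1
    have h3 : c⁻¹ * h ∈ M := hker (by rw [MonoidHom.mem_ker, map_mul, map_inv, hch]; simp)
    have h4 : (QuotientGroup.mk h : H ⧸ M) = QuotientGroup.mk c := by
      rw [eq_comm, QuotientGroup.eq]; exact h3
    rw [h4]
    have h5 : (commutator H).map (QuotientGroup.mk' M) ≤ commutator (H ⧸ M) := by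
      rw [commutator_def, Subgroup.map_commutator]; exact Subgroup.commutator_mono le_top le_top
    exact h5 ⟨c, hc, rfl⟩
  have hnil : Group.IsNilpotent (H ⧸ M) := hM.isNilpotent
  by_contra hne
  have hnt : Nontrivial (H ⧸ M) := by
    by_contra hnn
    rw [not_nontrivial_iff_subsingleton] at hnn
    exact hne (QuotientGroup.subgroup_eq_top_of_subsingleton M hnn)
  exact Group.IsPerfect.not_isNilpotent (G := H ⧸ M) hnil

/-- If the finite group `H` maps onto a perfect group with kernel of order prime to `p`,
then `H` is generated by its `p'`-elements. -/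
theorem pprimeGen_eq_top_of_surjective {H E : Type*} [Group H] [Finite H] [Group E]
    (p : ℕ) [Fact p.Prime] (f : H →* E) (hf : Function.Surjective f) [Group.IsPerfect E]
    (hker : (Nat.card f.ker).Coprime p) : pprimeGen p H = ⊤ := by
  have hM : IsPGroup p (H ⧸ pprimeGen p H) :=
    isPGroup_quotient_of_pprime_mem p _ (fun h hh => mem_pprimeGen hh)
  apply eq_top_of_isPGroup_quotient_of_perfect p _ hM f hf
  intro k hk
  apply mem_pprimeGen
  have h1 : orderOf (⟨k, hk⟩ : f.ker) ∣ Nat.card f.ker := orderOf_dvd_natCard _
  have h2 : orderOf (⟨k, hk⟩ : f.ker) = orderOf k := by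
    rw [← Subgroup.orderOf_coe]
  rw [h2] at h1
  exact Nat.Coprime.coprime_dvd_left h1 hker

/-- A finite perfect group is generated by its `p'`-elements. -/
theorem pprimeGen_eq_top_of_perfect {H : Type*} [Group H] [Finite H]
    (p : ℕ) [Fact p.Prime] [Group.IsPerfect H] : pprimeGen p H = ⊤ := by
  apply pprimeGen_eq_top_of_surjective p (MonoidHom.id H) Function.surjective_id
  have : (MonoidHom.id H).ker = ⊥ := (MonoidHom.ker_eq_bot_iff _).mpr Function.injective_id
  rw [this, Subgroup.card_bot]
  exact Nat.coprime_one_left p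

/-- If `H` is generated by its `p'`-elements, the image of `H` under `g` lies in `M` as soon as the
images of the `p'`-elements do. -/
theorem range_le_of_pprime_mem {H G : Type*} [Group H] [Group G] (p : ℕ)
    (hgen : pprimeGen p H = ⊤) (g : H →* G) (M : Subgroup G)
    (hM : ∀ h : H, (orderOf h).Coprime p → g h ∈ M) : g.range ≤ M := by
  rw [MonoidHom.range_eq_map, ← hgen, pprimeGen, MonoidHom.map_closure, Subgroup.closure_le]
  rintro _ ⟨h, hh, rfl⟩
  exact hM h hh

end Cfsg.Agent.Helper30
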