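import Mathlib
import Cfsg.Agent.Lib.Helper30.AxB
import Cfsg.Agent.Lib.Helper30.PPrimeGen
import Cfsg.Agent.Lib.Helper30.Cores
import Cfsg.Agent.Lib.Helper21.Components
import Cfsg.Agent.Lib.Helper70.Fitting

set_option autoImplicit false

/-!
# `O_{p',E}(N_G(P))` centralizes `O_p(G)` (helper30)

* `mem_centralizer_pCore_of_pprime` : a `p'`-element of `N_G(P)` centralizing `P` and
  `N_{O_p(G)}(P)` centralizes `O_p(G)` (Thompson `A × B`).
* `layer_isPerfect`, `layer_commutator_eq_bot_of_solvable_normal`.
* `pPrimeLayer_commutator_pCore` : the preimage of `E(Y / O_{p'}(Y))` centralizes `O_p(Y)`.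
* `pPrimeLayer_normalizer_le_centralizer_pCore` : statement S1266.
-/

namespace Cfsg.Agent.Helper30

open Subgroup Cfsg

/-- A `p'`-element centralizing the `p`-subgroup `P` and `N_{O_p(G)}(P)` centralizes `O_p(G)`. -/
theorem mem_centralizer_pCore_of_pprime {G : Type*} [Group G] [Finite G] (p : ℕ) [Fact p.Prime]
    (P : Subgroup G) (hP : IsPGroup p P) (k : G) (hk : (orderOf k).Coprime p)
    (hkP : k ∈ centralizer (P : Set G))
    (hkR : k ∈ centralizer ((pCore p G ⊓ normalizer (P : Set G) : Subgroup G) : Set G)) :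
    k ∈ centralizer (pCore p G : Set G) := by
  have : (pCore p G).Normal := Helper70.pCore_normal p G
  have hB : (Nat.card (zpowers k)).Coprime p := by rw [Nat.card_zpowers]; exact hk
  have hzP : zpowers k ≤ centralizer (P : Set G) := Subgroup.zpowers_le.mpr hkP
  have hAB : ⁅P, zpowers k⁆ = ⊥ := by
    rw [Subgroup.commutator_eq_bot_iff_le_centralizer, Subgroup.le_centralizer_iff]
    exact hzP
  have hnorm : normalizer ((pCore p G : Subgroup G) : Set G) = ⊤ := Subgroup.normalizer_eq_top _
  have hC : pCore p G ⊓ centralizer (P : Set G) ≤ centralizer (zpowers k : Set G) := by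
    intro x hx
    have hx' : x ∈ pCore p G ⊓ normalizer (P : Set G) :=
      Subgroup.mem_inf.mpr ⟨(Subgroup.mem_inf.mp hx).1,
        Subgroup.centralizer_le_normalizer _ (Subgroup.mem_inf.mp hx).2⟩
    have hkx : k * x = x * k := ((Subgroup.mem_centralizer_iff.mp hkR) x hx').symm
    have hz : zpowers k ≤ centralizer ({x} : Set G) := by
      rw [Subgroup.zpowers_le, Subgroup.mem_centralizer_iff]
      intro y hy
      rw [Set.mem_singleton_iff] at hy
      rw [hy]; exact hkx.symm
    rw [Subgroup.mem_centralizer_iff]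
    intro y hy
    exact ((Subgroup.mem_centralizer_iff.mp (hz hy)) x rfl).symm
  have hmain := thompson_AxB P (zpowers k) hP hB hAB (pCore p G) Helper70.pCore_isPGroup
    (by rw [hnorm]; exact le_top) (by rw [hnorm]; exact le_top) hC
  rw [Subgroup.commutator_eq_bot_iff_le_centralizer, Subgroup.le_centralizer_iff] at hmain
  exact hmain (Subgroup.mem_zpowers k)

/-- The layer is a perfect group. -/
instance layer_isPerfect (X : Type*) [Group X] : Group.IsPerfect ↥(layer X) := by
  rw [Subgroup.isPerfect_iff]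
  apply le_antisymm
  · rw [Subgroup.commutator_le]
    intro a ha b hb
    exact (layer X).mul_mem ((layer X).mul_mem ((layer X).mul_mem ha hb) ((layer X).inv_mem ha))
      ((layer X).inv_mem hb)
  · apply sSup_le
    intro L hL
    have hLp : Group.IsPerfect ↥L := hL.2.1
    have h1 : ⁅L, L⁆ = L := Subgroup.isPerfect_iff.mp hLp
    calc L = ⁅L, L⁆ := h1.symm
      _ ≤ ⁅layer X, layer X⁆ := Subgroup.commutator_mono (le_sSup hL) (le_sSup hL)

/-- The layer centralizes every solvable normal subgroup. -/
theorem layer_commutator_eq_bot_of_solvable_normal {X : Type*} [Group X] (R : Subgroup X)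
    [hR : R.Normal] (hsolv : Group.IsSolvable ↥R) : ⁅layer X, R⁆ = ⊥ := by
  rw [Subgroup.commutator_eq_bot_iff_le_centralizer]
  apply sSup_le
  intro L hL
  rw [← Subgroup.commutator_eq_bot_iff_le_centralizer]
  apply Helper21.component_commutator_eq_bot_of_solvable L R hL hsolv
  rw [Subgroup.normalizer_eq_top]; exact le_top

/-- In a finite group `Y`, the preimage of `E(Y / O_{p'}(Y))` centralizes `O_p(Y)`. -/
theorem pPrimeLayer_commutator_pCore {Y : Type*} [Group Y] [Finite Y] (p : ℕ) [Fact p.Prime] :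
    ⁅(layer (Y ⧸ pPrimeCore p Y)).comap (QuotientGroup.mk' (pPrimeCore p Y)), pCore p Y⁆ = ⊥ := by
  have : (pCore p Y).Normal := Helper70.pCore_normal p Y
  set π := QuotientGroup.mk' (pPrimeCore p Y) with hπ
  have hπs : Function.Surjective π := QuotientGroup.mk'_surjective _
  set K := (layer (Y ⧸ pPrimeCore p Y)).comap π with hK
  set R := pCore p Y with hR
  have hRp : IsPGroup p R := Helper70.pCore_isPGroup
  have : (R.map π).Normal := Subgroup.Normal.map inferInstance π hπs
  have hRbar : IsPGroup p (R.map π) := hRp.map π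
  have hsolv : Group.IsSolvable ↥(R.map π) := by
    have : Group.IsNilpotent ↥(R.map π) := hRbar.isNilpotent
    infer_instance
  have h1 : ⁅layer (Y ⧸ pPrimeCore p Y), R.map π⁆ = ⊥ :=
    layer_commutator_eq_bot_of_solvable_normal (R.map π) hsolv
  have h2 : (⁅K, R⁆).map π = ⊥ := by
    rw [Subgroup.map_commutator, eq_bot_iff, ← h1]
    exact Subgroup.commutator_mono (Subgroup.map_comap_le _ _) le_rfl
  have h3 : ⁅K, R⁆ ≤ pPrimeCore p Y := by
    have := (Subgroup.map_eq_bot_iff _).mp h2
    rwa [hπ, QuotientGroup.ker_mk'] at this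
  have h4 : ⁅K, R⁆ ≤ R := Subgroup.commutator_le_right K R
  have h5 : pPrimeCore p Y ⊓ R = ⊥ := by
    apply Disjoint.eq_bot
    apply Subgroup.disjoint_of_coprime_natCard
    obtain ⟨k, hk⟩ := IsPGroup.iff_card.mp hRp
    rw [hk]
    exact Nat.Coprime.pow_right k (pPrimeCore_coprime p)
  rw [eq_bot_iff, ← h5]
  exact le_inf h3 h4

/-- A `p'`-element of `N = N_G(P)` (`P` a `p`-subgroup) centralizing `O_p(N)` centralizes
`O_p(G)`. -/
theorem coe_mem_centralizer_pCore_of_pprime {G : Type*} [Group G] [Finite G] (p : ℕ)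
    [Fact p.Prime] (P : Subgroup G) (hP : IsPGroup p ↥P) (y : ↥(normalizer (P : Set G)))
    (hy : (orderOf y).Coprime p)
    (hcen : y ∈ centralizer ((pCore p ↥(normalizer (P : Set G)) :
      Subgroup ↥(normalizer (P : Set G))) : Set ↥(normalizer (P : Set G)))) :
    (y : G) ∈ centralizer (pCore p G : Set G) := by
  have : (pCore p G).Normal := Helper70.pCore_normal p G
  -- elements of normal `p`-subgroups of `N` commute with `y`
  have key : ∀ (S : Subgroup G), (S.subgroupOf (normalizer (P : Set G))).Normal → IsPGroup p S →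
      ∀ x ∈ S, x ∈ normalizer (P : Set G) → x * (y : G) = (y : G) * x := by
    intro S hSn hSp x hxS hxN
    have := hSn
    have h1 : S.subgroupOf (normalizer (P : Set G)) ≤ pCore p ↥(normalizer (P : Set G)) :=
      Helper70.le_pCore _ hSp.comap_subtype
    have h2 : (⟨x, hxN⟩ : ↥(normalizer (P : Set G))) ∈ pCore p ↥(normalizer (P : Set G)) :=
      h1 (Subgroup.mem_subgroupOf.mpr hxS)
    have h3 := (Subgroup.mem_centralizer_iff.mp hcen) ⟨x, hxN⟩ h2
    exact congrArg Subtype.val h3
  apply mem_centralizer_pCore_of_pprime p P hP (y : G)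
  · rw [Subgroup.orderOf_coe]; exact hy
  · rw [Subgroup.mem_centralizer_iff]
    intro x hx
    exact key P Subgroup.normal_in_normalizer hP x hx (Subgroup.le_normalizer hx)
  · rw [Subgroup.mem_centralizer_iff]
    intro x hx
    exact key (pCore p G) inferInstance Helper70.pCore_isPGroup x (Subgroup.mem_inf.mp hx).1
      (Subgroup.mem_inf.mp hx).2

/-- A subgroup `K` of `N = N_G(P)` generated by its `p'`-elements and centralizing `O_p(N)`
centralizes `O_p(G)`. -/
theorem map_le_centralizer_pCore_of_pprimeGen {G : Type*} [Group G] [Finite G] (p : ℕ)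
    [Fact p.Prime] (P : Subgroup G) (hP : IsPGroup p ↥P)
    (K : Subgroup ↥(normalizer (P : Set G))) (hgen : pprimeGen p ↥K = ⊤)
    (hcen : K ≤ centralizer ((pCore p ↥(normalizer (P : Set G)) :
      Subgroup ↥(normalizer (P : Set G))) : Set ↥(normalizer (P : Set G)))) :
    K.map (normalizer (P : Set G)).subtype ≤ centralizer (pCore p G : Set G) := by
  let g : ↥K →* G := (normalizer (P : Set G)).subtype.comp K.subtype
  have hrange : K.map (normalizer (P : Set G)).subtype = g.range := by
    ext x
    constructor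
    · rintro ⟨y, hy, rfl⟩
      exact ⟨⟨y, hy⟩, rfl⟩
    · rintro ⟨y, rfl⟩
      exact ⟨(y : ↥(normalizer (P : Set G))), y.2, rfl⟩
  rw [hrange]
  apply range_le_of_pprime_mem p hgen g
  intro h hh
  apply coe_mem_centralizer_pCore_of_pprime p P hP (h : ↥(normalizer (P : Set G))) _ (hcen h.2)
  rw [Subgroup.orderOf_coe]; exact hh

/-- **S1266**: for a `p`-subgroup `P` of the finite group `G` and `N = N_G(P)`, the preimage in
`N` of `E(N / O_{p'}(N))` centralizes `O_p(G)`. -/
theorem pPrimeLayer_normalizer_le_centralizer_pCore {G : Type*} [Group G] [Finite G] (p : ℕ)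
    [Fact p.Prime] (P : Subgroup G) (hP : IsPGroup p ↥P) :
    (((layer (↥(normalizer (P : Set G)) ⧸ pPrimeCore p ↥(normalizer (P : Set G)))).comap
      (QuotientGroup.mk' (pPrimeCore p ↥(normalizer (P : Set G))))).map
        (normalizer (P : Set G)).subtype) ≤ centralizer (pCore p G : Set G) := by
  set N := normalizer (P : Set G) with hN
  set π := QuotientGroup.mk' (pPrimeCore p ↥N) with hπ
  have hπs : Function.Surjective π := QuotientGroup.mk'_surjective _
  set K := (layer (↥N ⧸ pPrimeCore p ↥N)).comap π with hK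
  -- `K` is generated by `p'`-elements
  let f : ↥K →* ↥(layer (↥N ⧸ pPrimeCore p ↥N)) := π.subgroupComap _
  have hf : Function.Surjective f := MonoidHom.subgroupComap_surjective_of_surjective π _ hπs
  have hker : (Nat.card f.ker).Coprime p := by
    have h1 : f.ker.map K.subtype ≤ pPrimeCore p ↥N := by
      rintro _ ⟨k, hk, rfl⟩
      have h2 : f k = 1 := hk
      have h3 : π (k : ↥N) = 1 := congrArg Subtype.val h2
      rwa [hπ, QuotientGroup.mk'_apply, QuotientGroup.eq_one_iff] at h3
    have h2 : Nat.card f.ker = Nat.card (f.ker.map K.subtype) :=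
      Nat.card_congr (f.ker.equivMapOfInjective K.subtype K.subtype_injective).toEquiv
    rw [h2]
    exact Nat.Coprime.coprime_dvd_left (Subgroup.card_dvd_of_le h1) (pPrimeCore_coprime p)
  have hgen : pprimeGen p ↥K = ⊤ := pprimeGen_eq_top_of_surjective p f hf hker
  have hcomm : ⁅K, pCore p ↥N⁆ = ⊥ := pPrimeLayer_commutator_pCore (Y := ↥N) p
  rw [Subgroup.commutator_eq_bot_iff_le_centralizer] at hcomm
  exact map_le_centralizer_pCore_of_pprimeGen p P hP K hgen hcomm

end Cfsg.Agent.Helper30
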