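import Mathlib

set_option autoImplicit false

/-!
# Burnside's transfer theorem in the form `P ∩ N_G(P)' ≠ 1` for nonabelian simple groups
-/

namespace Cfsg.Agent.Helper30.BGFus

open scoped commutatorElement

variable {G : Type*} [Group G] [Finite G]

/-- In a nonabelian finite simple group, a nontrivial Sylow `p`-subgroup `P` meets the derived
subgroup of its normalizer nontrivially (otherwise `P ≤ Z(N_G(P))` and Burnside's transfer theorem
gives a normal `p`-complement). -/
theorem sylow_inf_commutator_normalizer_ne_bot [IsSimpleGroup G] (hna : ¬ IsMulCommutative G)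
    {p : ℕ} [Fact p.Prime] (P : Sylow p G) (hP : (P : Subgroup G) ≠ ⊥) :
    (P : Subgroup G) ⊓ ⁅Subgroup.normalizer ((P : Subgroup G) : Set G),
      Subgroup.normalizer ((P : Subgroup G) : Set G)⁆ ≠ ⊥ := by
  intro h
  have hNC : Subgroup.normalizer ((P : Subgroup G) : Set G) ≤
      Subgroup.centralizer ((P : Subgroup G) : Set G) := by
    intro n hn
    rw [Subgroup.mem_centralizer_iff]
    intro x hx
    have h1 : ⁅x, n⁆ ∈ (P : Subgroup G) ⊓ ⁅Subgroup.normalizer ((P : Subgroup G) : Set G),
        Subgroup.normalizer ((P : Subgroup G) : Set G)⁆ := by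
      refine ⟨?_, Subgroup.commutator_mem_commutator (Subgroup.le_normalizer hx) hn⟩
      have h2 : n * x⁻¹ * n⁻¹ ∈ (P : Subgroup G) :=
        (Subgroup.mem_normalizer_iff.1 hn x⁻¹).1 (Subgroup.inv_mem _ hx)
      have e : ⁅x, n⁆ = x * (n * x⁻¹ * n⁻¹) := by rw [commutatorElement_def]; group
      rw [e]; exact Subgroup.mul_mem _ hx h2
    rw [h, Subgroup.mem_bot, commutatorElement_eq_one_iff_mul_comm] at h1
    exact h1
  have hc := MonoidHom.ker_transferSylow_isComplement' P hNC
  have hn : (MonoidHom.transferSylow P hNC).ker.Normal := inferInstance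
  rcases hn.eq_bot_or_eq_top with h1 | h1
  · rw [h1, Subgroup.isComplement'_bot_left] at hc
    have hpG : IsPGroup p G := by
      have h2 : IsPGroup p (⊤ : Subgroup G) := hc ▸ P.isPGroup'
      exact h2.of_equiv Subgroup.topEquiv
    have hnil : Group.IsNilpotent G := hpG.isNilpotent
    have hsol : Group.IsSolvable G := inferInstance
    exact hna ⟨⟨fun a b => IsSimpleGroup.comm_iff_isSolvable.2 hsol a b⟩⟩
  · rw [h1, Subgroup.isComplement'_top_left] at hc
    exact hP hc

end Cfsg.Agent.Helper30.BGFus
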