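import Mathlib
import Cfsg.Prelude.Def_Transfer
import Cfsg.Agent.Lib.Helper29.CoprimeHyp
import Cfsg.Agent.Lib.Helper29.DeltaSystem

set_option autoImplicit false

/-!
# Coprime generation by centralizers of hyperplanes, in the shape used for B-G Lemma 9.5
-/

namespace Cfsg.Agent.Helper30.BGFus

open Cfsg

variable {G : Type*} [Group G] [Finite G]

/-- If the elementary abelian group `A3` of order `p ^ 3` normalizes the `p'`-group `T0` and
`T0` is not contained in `C0`, then some subgroup `B ≤ A3` of order `p ^ 2` has `C_{T0}(B)` not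
contained in `C0`. -/
theorem exists_hyperplane_centralizer_not_le {p : ℕ} [Fact p.Prime] (A3 T0 C0 : Subgroup G)
    (hA3 : Cfsg.IsElementaryAbelian p A3) (hc : Nat.card A3 = p ^ 3)
    (hcop : (Nat.card T0).Coprime p) (hN : A3 ≤ Subgroup.normalizer (T0 : Set G))
    (hC0 : ¬ T0 ≤ C0) :
    ∃ B : Subgroup G, B ≤ A3 ∧ Nat.card B = p ^ 2 ∧
      ¬ (T0 ⊓ Subgroup.centralizer (B : Set G) ≤ C0) := by
  have hpp : p.Prime := Fact.out
  have hAc : ∀ x ∈ A3, ∀ y ∈ A3, x * y = y * x := fun x hx y hy =>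
    congrArg Subtype.val (hA3.1.is_comm.comm ⟨x, hx⟩ ⟨y, hy⟩)
  have hAp : ∀ x ∈ A3, x ^ p = 1 := hA3.2
  have hA1 : A3 ≠ ⊥ := by
    intro h
    rw [h, Subgroup.card_bot] at hc
    have : 1 < p ^ 3 := Nat.one_lt_pow (by norm_num) hpp.one_lt
    omega
  have hgen := Cfsg.Agent.Helper29.le_iSup_covBy A3 T0 hAc hAp hA1 hN hcop
  by_contra hno
  push Not at hno
  apply hC0
  refine hgen.trans (iSup_le ?_)
  rintro ⟨B, hB⟩
  apply hno B hB.le
  have h1 := Cfsg.Agent.Helper29.card_covBy_mul hAc hAp hB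
  rw [hc] at h1
  have h2 : Nat.card B * p = p ^ 2 * p := by rw [h1]; ring
  exact Nat.eq_of_mul_eq_mul_right hpp.pos h2

end Cfsg.Agent.Helper30.BGFus
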