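import Mathlib
import Cfsg.Agent.Lib.Helper30.PLayer
import Cfsg.Agent.Lib.Helper22.Components

set_option autoImplicit false

/-!
# `E(N_G(P)) = E(G)` for `P ≤ O_p(G)` (helper30)
-/

namespace Cfsg.Agent.Helper30

open Subgroup Cfsg

/-- A finite `p`-group is solvable. -/
theorem isSolvable_of_isPGroup {H : Type*} [Group H] [Finite H] {p : ℕ} [Fact p.Prime]
    (h : IsPGroup p H) : Group.IsSolvable H := by
  have : Group.IsNilpotent H := h.isNilpotent
  infer_instance

/-- A component `L` of `N = N_G(P)` (`P` a `p`-subgroup) centralizes `O_p(G)`. -/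
theorem component_normalizer_map_le_centralizer_pCore {G : Type*} [Group G] [Finite G] (p : ℕ)
    [Fact p.Prime] (P : Subgroup G) (hP : IsPGroup p ↥P)
    (L : Subgroup ↥(normalizer (P : Set G))) (hL : IsComponent L) :
    L.map (normalizer (P : Set G)).subtype ≤ centralizer (pCore p G : Set G) := by
  have hperf : Group.IsPerfect ↥L := hL.2.1
  have hgen : pprimeGen p ↥L = ⊤ := pprimeGen_eq_top_of_perfect p
  have hRn : (pCore p ↥(normalizer (P : Set G))).Normal := Helper70.pCore_normal p _
  have hRsolv : Group.IsSolvable ↥(pCore p ↥(normalizer (P : Set G))) :=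
    isSolvable_of_isPGroup (p := p) Helper70.pCore_isPGroup
  have hcen : L ≤ centralizer ((pCore p ↥(normalizer (P : Set G)) :
      Subgroup ↥(normalizer (P : Set G))) : Set ↥(normalizer (P : Set G))) := by
    rw [← Subgroup.commutator_eq_bot_iff_le_centralizer]
    apply Helper21.component_commutator_eq_bot_of_solvable L _ hL hRsolv
    have htop := Subgroup.normalizer_eq_top (H := pCore p ↥(normalizer (P : Set G)))
    exact le_of_le_of_eq le_top htop.symm
  exact map_le_centralizer_pCore_of_pprimeGen p P hP L hgen hcen

/-- **S1267**: `E(N_G(P)) = E(G)` for `P ≤ O_p(G)`. -/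
theorem layer_normalizer_map_eq {G : Type*} [Group G] [Finite G] (p : ℕ) [Fact p.Prime]
    (P : Subgroup G) (hP : P ≤ pCore p G) :
    (layer ↥(normalizer (P : Set G))).map (normalizer (P : Set G)).subtype = layer G := by
  have hQn : (pCore p G).Normal := Helper70.pCore_normal p G
  have hQp : IsPGroup p (pCore p G) := Helper70.pCore_isPGroup
  have hPp : IsPGroup p P := hQp.to_le hP
  have hQsolv : Group.IsSolvable ↥(pCore p G) := isSolvable_of_isPGroup hQp
  have hCQ : centralizer (pCore p G : Set G) ≤ normalizer (P : Set G) :=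
    (Subgroup.centralizer_le hP).trans (Subgroup.centralizer_le_normalizer _)
  apply le_antisymm
  · -- components of `N` are components of `G`
    rw [Subgroup.map_le_iff_le_comap]
    apply sSup_le
    intro L hL
    rw [← Subgroup.map_le_iff_le_comap]
    apply le_sSup
    show IsComponent (L.map (normalizer (P : Set G)).subtype)
    have hLC : L.map (normalizer (P : Set G)).subtype ≤ centralizer (pCore p G : Set G) :=
      component_normalizer_map_le_centralizer_pCore p P hPp L hL
    refine ⟨?_, Helper21.isQuasisimple_of_mulEquiv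
      (L.equivMapOfInjective _ (Subgroup.subtype_injective _)) hL.2⟩
    -- subnormality, through the normal subgroup `C_G(O_p(G)) ≤ N`
    have hCn : (centralizer (pCore p G : Set G)).Normal := inferInstance
    have h1 : (L.comap (Subgroup.inclusion hCQ)).IsSubnormal := hL.1.comap _
    have h2 := h1.trans' hCn.isSubnormal
    have h3 : (L.comap (Subgroup.inclusion hCQ)).map (centralizer (pCore p G : Set G)).subtype =
        L.map (normalizer (P : Set G)).subtype := by
      ext x
      constructor
      · rintro ⟨y, hy, rfl⟩
        exact ⟨Subgroup.inclusion hCQ y, hy, rfl⟩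
      · rintro ⟨y, hy, rfl⟩
        have hyC : (y : G) ∈ centralizer (pCore p G : Set G) := hLC ⟨y, hy, rfl⟩
        refine ⟨⟨(y : G), hyC⟩, ?_, rfl⟩
        show Subgroup.inclusion hCQ ⟨(y : G), hyC⟩ ∈ L
        have : Subgroup.inclusion hCQ ⟨(y : G), hyC⟩ = y := Subtype.ext rfl
        rw [this]; exact hy
    rw [← h3]; exact h2
  · apply sSup_le
    intro L hL
    have hLQ : ⁅L, pCore p G⁆ = ⊥ := by
      apply Helper21.component_commutator_eq_bot_of_solvable L _ hL hQsolv
      rw [Subgroup.normalizer_eq_top]; exact le_top
    rw [Subgroup.commutator_eq_bot_iff_le_centralizer] at hLQ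
    have hLN : L ≤ normalizer (P : Set G) := hLQ.trans hCQ
    have hcomp : IsComponent (L.subgroupOf (normalizer (P : Set G))) :=
      Helper22.IsComponent.subgroupOf hL hLN
    have hmap : L = (L.subgroupOf (normalizer (P : Set G))).map
        (normalizer (P : Set G)).subtype := by
      rw [Subgroup.subgroupOf_map_subtype]; exact (inf_eq_left.mpr hLN).symm
    rw [hmap]
    exact Subgroup.map_mono (le_sSup hcomp)

end Cfsg.Agent.Helper30
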