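import Mathlib
import Cfsg.Agent.Lib.Helper30.LayerNormalizer
import Cfsg.Agent.Lib.Helper21.FStar
import Cfsg.Agent.Lib.Helper21.PGen

set_option autoImplicit false

/-!
# Groups of characteristic `p`: `F*(Y) = O_p(Y)` (helper30)

* `generalizedFittingSubgroup_eq_pCore_of` : `O_{p'}(Y) = 1` and `E(Y) = 1` give `F*(Y) = O_p(Y)`.
* `generalizedFittingSubgroup_normalizer_eq_pCore` : **S1268**, `F*(G) = O_p(G)` implies
  `F*(N_G(P)) = O_p(N_G(P))` for every `p`-subgroup `P`.
-/

namespace Cfsg.Agent.Helper30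

open Subgroup Cfsg

/-- A subgroup that is both a `p`-group and of order prime to `p` is trivial. -/
theorem eq_bot_of_isPGroup_of_coprime {Y : Type*} [Group Y] [Finite Y] {p : ℕ} [hp : Fact p.Prime]
    (H : Subgroup Y) (h1 : IsPGroup p H) (h2 : (Nat.card H).Coprime p) : H = ⊥ := by
  obtain ⟨k, hk⟩ := IsPGroup.iff_card.mp h1
  rw [← Subgroup.card_eq_one]
  rcases Nat.eq_zero_or_pos k with h0 | hpos
  · rw [hk, h0, pow_zero]
  · exfalso
    rw [hk] at h2
    have : p ∣ 1 := by
      have h3 : p ∣ Nat.gcd (p ^ k) p := Nat.dvd_gcd (dvd_pow_self p hpos.ne') dvd_rfl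
      rwa [Nat.Coprime.gcd_eq_one h2] at h3
    exact hp.out.one_lt.ne' (Nat.dvd_one.mp this)

/-- A perfect subgroup which is a `p`-group is trivial. -/
theorem eq_bot_of_isPGroup_of_perfect {Y : Type*} [Group Y] [Finite Y] {p : ℕ} [Fact p.Prime]
    (H : Subgroup Y) (h1 : IsPGroup p H) [h2 : Group.IsPerfect ↥H] : H = ⊥ := by
  by_contra hne
  have hnt : Nontrivial ↥H := (Subgroup.nontrivial_iff_ne_bot H).mpr hne
  have hnil : Group.IsNilpotent ↥H := h1.isNilpotent
  exact Group.IsPerfect.not_isNilpotent (G := ↥H) hnil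

/-- If `O_{p'}(Y) = 1` and `E(Y) = 1` then `F*(Y) = O_p(Y)`. -/
theorem generalizedFittingSubgroup_eq_pCore_of {Y : Type*} [Group Y] [Finite Y] (p : ℕ)
    [Fact p.Prime] (hO : pPrimeCore p Y = ⊥) (hE : layer Y = ⊥) :
    generalizedFittingSubgroup Y = pCore p Y := by
  unfold generalizedFittingSubgroup
  rw [hE, bot_sup_eq]
  apply le_antisymm
  · rw [Helper70.fittingSubgroup_eq_coreJoin]
    unfold Helper70.coreJoin
    apply iSup_le
    intro q
    by_cases hqp : (q : ℕ) = p
    · rw [hqp]
    · have hq : Fact (q : ℕ).Prime := ⟨Nat.prime_of_mem_primeFactors q.2⟩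
      have hqn : (pCore (q : ℕ) Y).Normal := Helper70.pCore_normal _ Y
      have hqg : IsPGroup (q : ℕ) (pCore (q : ℕ) Y) := Helper70.pCore_isPGroup
      obtain ⟨k, hk⟩ := IsPGroup.iff_card.mp hqg
      have hco : (Nat.card (pCore (q : ℕ) Y)).Coprime p := by
        rw [hk]
        apply Nat.Coprime.pow_left
        exact (Nat.coprime_primes hq.out (Fact.out : p.Prime)).mpr hqp
      have := le_pPrimeCore hqn hco
      rw [hO] at this
      exact this.trans bot_le
  · exact Helper70.pCore_le_fittingSubgroup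

/-- **S1268**: if `F*(G) = O_p(G)` then `F*(N) = O_p(N)` for the normalizer `N` of any
`p`-subgroup of `G`. -/
theorem generalizedFittingSubgroup_normalizer_eq_pCore {G : Type*} [Group G] [Finite G] (p : ℕ)
    [Fact p.Prime] (h : generalizedFittingSubgroup G = pCore p G) (P : Subgroup G)
    (hP : IsPGroup p ↥P) :
    generalizedFittingSubgroup ↥(normalizer (P : Set G)) = pCore p ↥(normalizer (P : Set G)) := by
  have hπs : Function.Surjective (QuotientGroup.mk' (pPrimeCore p ↥(normalizer (P : Set G)))) :=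
    QuotientGroup.mk'_surjective _
  -- `K = O_{p',E}(N)` is a `p`-group
  have hK1 := pPrimeLayer_normalizer_le_centralizer_pCore p P hP
  have hK2 : ((layer (↥(normalizer (P : Set G)) ⧸ pPrimeCore p ↥(normalizer (P : Set G)))).comap
      (QuotientGroup.mk' (pPrimeCore p ↥(normalizer (P : Set G))))).map
        (normalizer (P : Set G)).subtype ≤ pCore p G := by
    refine hK1.trans ?_
    rw [← h]
    exact Helper21.centralizer_generalizedFittingSubgroup_le
  have hKp : IsPGroup p ((layer (↥(normalizer (P : Set G)) ⧸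
      pPrimeCore p ↥(normalizer (P : Set G)))).comap
      (QuotientGroup.mk' (pPrimeCore p ↥(normalizer (P : Set G))))) := by
    have h1 : IsPGroup p (((layer (↥(normalizer (P : Set G)) ⧸
      pPrimeCore p ↥(normalizer (P : Set G)))).comap
      (QuotientGroup.mk' (pPrimeCore p ↥(normalizer (P : Set G))))).map
        (normalizer (P : Set G)).subtype) := (Helper70.pCore_isPGroup (G := G)).to_le hK2
    exact h1.of_equiv (Subgroup.equivMapOfInjective _ _ (Subgroup.subtype_injective _)).symm
  apply generalizedFittingSubgroup_eq_pCore_of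
  · -- `O_{p'}(N) ≤ K`
    have hle : pPrimeCore p ↥(normalizer (P : Set G)) ≤
        (layer (↥(normalizer (P : Set G)) ⧸ pPrimeCore p ↥(normalizer (P : Set G)))).comap
        (QuotientGroup.mk' (pPrimeCore p ↥(normalizer (P : Set G)))) := by
      intro x hx
      rw [Subgroup.mem_comap, QuotientGroup.mk'_apply, (QuotientGroup.eq_one_iff x).mpr hx]
      exact Subgroup.one_mem _
    exact eq_bot_of_isPGroup_of_coprime _ (hKp.to_le hle) (pPrimeCore_coprime p)
  · -- `E(N) ≤ K`
    have hle : layer ↥(normalizer (P : Set G)) ≤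
        (layer (↥(normalizer (P : Set G)) ⧸ pPrimeCore p ↥(normalizer (P : Set G)))).comap
        (QuotientGroup.mk' (pPrimeCore p ↥(normalizer (P : Set G)))) := by
      rw [← Subgroup.map_le_iff_le_comap]
      exact Helper21.layer_map_le _ hπs
    exact eq_bot_of_isPGroup_of_perfect _ (hKp.to_le hle)

end Cfsg.Agent.Helper30
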