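import Mathlib
import Cfsg.Agent.Lib.Helper30.FStarLocal
import Cfsg.Agent.Lib.Helper29.Fitting

set_option autoImplicit false

/-!
# Groups of characteristic `p` (helper30)

`IsCharP p Y` : `F*(Y) = O_p(Y)`.

* `IsCharP.of_mulEquiv`, `IsCharP.centralizer_le` (`C_Y(O_p(Y)) ≤ O_p(Y)`),
* `generalizedFittingSubgroup_map_subtype_le` : `F*(D) ≤ F*(Y)` for `D` normal in `Y`,
* `IsCharP.of_normal` : normal subgroups of groups of characteristic `p` have characteristic `p`,
* `IsCharP.normalizer` : S1268,
* `centralizer_pCore_le_of_isCharP` : if `C_Y(O_p(Y))` has characteristic `p` then it lies in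
  `O_p(Y)`.
-/

namespace Cfsg.Agent.Helper30

open Subgroup Cfsg

theorem pCore_map_le {A B : Type*} [Group A] [Group B] (p : ℕ) (e : A ≃* B) :
    (pCore p A).map (e : A →* B) ≤ pCore p B := by
  unfold pCore
  rw [sSup_eq_iSup', Subgroup.map_iSup]
  apply iSup_le
  rintro ⟨N, hN⟩
  apply le_sSup
  exact ⟨Subgroup.Normal.map hN.1 _ e.surjective, hN.2.map _⟩

/-- The `p`-core is carried to the `p`-core by an isomorphism. -/
theorem pCore_map_mulEquiv {A B : Type*} [Group A] [Group B] (p : ℕ) (e : A ≃* B) :
    (pCore p A).map (e : A →* B) = pCore p B := by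
  apply le_antisymm (pCore_map_le p e)
  have h2 := pCore_map_le p e.symm
  intro x hx
  refine ⟨e.symm x, h2 ⟨x, hx, rfl⟩, ?_⟩
  simp

/-- `Y` has characteristic `p`: `F*(Y) = O_p(Y)`. -/
def IsCharP (p : ℕ) (Y : Type*) [Group Y] : Prop :=
  generalizedFittingSubgroup Y = pCore p Y

theorem IsCharP.of_mulEquiv {A B : Type*} [Group A] [Group B] {p : ℕ} (e : A ≃* B)
    (h : IsCharP p A) : IsCharP p B := by
  unfold IsCharP at h ⊢
  rw [← Helper29.generalizedFittingSubgroup_map_mulEquiv e, ← pCore_map_mulEquiv p e, h]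

/-- In a group of characteristic `p`, `C_Y(O_p(Y)) ≤ O_p(Y)`. -/
theorem IsCharP.centralizer_le {Y : Type*} [Group Y] [Finite Y] {p : ℕ} (h : IsCharP p Y) :
    centralizer (pCore p Y : Set Y) ≤ pCore p Y := by
  unfold IsCharP at h
  rw [← h]
  exact Helper21.centralizer_generalizedFittingSubgroup_le

/-- `F*(D) ≤ F*(Y)` for a normal subgroup `D` of the finite group `Y`. -/
theorem generalizedFittingSubgroup_map_subtype_le {Y : Type*} [Group Y] [Finite Y]
    (D : Subgroup Y) [hD : D.Normal] :
    (generalizedFittingSubgroup ↥D).map D.subtype ≤ generalizedFittingSubgroup Y := by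
  unfold generalizedFittingSubgroup
  rw [Subgroup.map_sup]
  apply sup_le_sup
  · rw [Subgroup.map_le_iff_le_comap]
    apply sSup_le
    intro L hL
    rw [← Subgroup.map_le_iff_le_comap]
    exact le_sSup (Helper22.IsComponent.of_subnormal hD.isSubnormal hL)
  · apply Helper62.subnormal_nilpotent_le_fitting
    · exact (Helper70.fittingSubgroup_normal ↥D).isSubnormal.trans' hD.isSubnormal
    · have : Group.IsNilpotent ↥(fittingSubgroup ↥D) := Helper70.fittingSubgroup_isNilpotent ↥D
      exact Group.nilpotent_of_mulEquiv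
        ((fittingSubgroup ↥D).equivMapOfInjective D.subtype D.subtype_injective)

/-- A normal subgroup of a finite group of characteristic `p` has characteristic `p`. -/
theorem IsCharP.of_normal {Y : Type*} [Group Y] [Finite Y] {p : ℕ} [Fact p.Prime]
    (h : IsCharP p Y) (D : Subgroup Y) [D.Normal] : IsCharP p ↥D := by
  unfold IsCharP at h ⊢
  have h1 : (generalizedFittingSubgroup ↥D).map D.subtype ≤ pCore p Y := by
    rw [← h]; exact generalizedFittingSubgroup_map_subtype_le D
  have h2 : IsPGroup p ((generalizedFittingSubgroup ↥D).map D.subtype) :=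
    (Helper70.pCore_isPGroup (G := Y)).to_le h1
  have h3 : IsPGroup p (generalizedFittingSubgroup ↥D) :=
    h2.of_equiv (Subgroup.equivMapOfInjective _ _ D.subtype_injective).symm
  have hn : (generalizedFittingSubgroup ↥D).Normal := Helper29.generalizedFittingSubgroup_normal
  apply le_antisymm
  · exact Helper70.le_pCore _ h3
  · exact Helper70.pCore_le_fittingSubgroup.trans le_sup_right

/-- **S1268** in terms of `IsCharP`. -/
theorem IsCharP.normalizer {G : Type*} [Group G] [Finite G] {p : ℕ} [Fact p.Prime]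
    (h : IsCharP p G) (P : Subgroup G) (hP : IsPGroup p ↥P) :
    IsCharP p ↥(normalizer (P : Set G)) :=
  generalizedFittingSubgroup_normalizer_eq_pCore p h P hP

/-- If `O_{p'}(Y) = 1` and `Y` has no components then `Y` has characteristic `p`. -/
theorem isCharP_of_no_component {Y : Type*} [Group Y] [Finite Y] (p : ℕ) [Fact p.Prime]
    (hO : pPrimeCore p Y = ⊥) (hno : ∀ K : Subgroup Y, ¬ IsComponent K) : IsCharP p Y := by
  apply generalizedFittingSubgroup_eq_pCore_of p hO
  unfold layer
  rw [sSup_eq_bot]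
  intro K hK
  exact absurd hK (hno K)

/-- If `D = C_Y(O_p(Y))` has characteristic `p`, then `D ≤ O_p(Y)`. -/
theorem centralizer_pCore_le_of_isCharP {Y : Type*} [Group Y] [Finite Y] {p : ℕ} [Fact p.Prime]
    (hD : IsCharP p ↥(centralizer (pCore p Y : Set Y))) :
    centralizer (pCore p Y : Set Y) ≤ pCore p Y := by
  have hQn : (pCore p Y).Normal := Helper70.pCore_normal p Y
  have hDn : (centralizer (pCore p Y : Set Y)).Normal := inferInstance
  have hRn : (pCore p ↥(centralizer (pCore p Y : Set Y))).Normal := Helper70.pCore_normal p _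
  -- `R = O_p(D)` maps into `O_p(Y)`
  have h1 : (pCore p ↥(centralizer (pCore p Y : Set Y))).map
      (centralizer (pCore p Y : Set Y)).subtype ≤ pCore p Y := by
    apply Helper62.subnormal_pGroup_le_pCore
    · exact hRn.isSubnormal.trans' hDn.isSubnormal
    · exact (Helper70.pCore_isPGroup).map _
  -- hence `R` is central in `D`
  have h2 : centralizer ((pCore p ↥(centralizer (pCore p Y : Set Y)) :
      Subgroup ↥(centralizer (pCore p Y : Set Y))) : Set ↥(centralizer (pCore p Y : Set Y))) = ⊤ := by
    rw [eq_top_iff]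
    intro d _
    rw [Subgroup.mem_centralizer_iff]
    intro r hr
    have hrQ : (r : Y) ∈ pCore p Y := h1 ⟨r, hr, rfl⟩
    have := (Subgroup.mem_centralizer_iff.mp d.2) (r : Y) hrQ
    exact Subtype.ext this
  have h3 := hD.centralizer_le
  rw [h2] at h3
  intro d hd
  have : (⟨d, hd⟩ : ↥(centralizer (pCore p Y : Set Y))) ∈
      pCore p ↥(centralizer (pCore p Y : Set Y)) := h3 (Subgroup.mem_top _)
  exact h1 ⟨⟨d, hd⟩, this, rfl⟩

end Cfsg.Agent.Helper30
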