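import Mathlib
import Cfsg.Prelude.Def_Local
import Cfsg.Prelude.Def_FusionSystem
import Cfsg.Agent.Lib.Helper24.PLength
import Cfsg.Agent.Lib.Helper55.Cores
import Cfsg.Agent.Lib.Helper84.GrpFus
import Cfsg.Agent.Lib.Helper84.GrpSylow
import Cfsg.Agent.Lib.Helper85.Realized
import Cfsg.Agent.Lib.Helper85.AlperinInd
import Cfsg.Agent.Lib.Helper87.FusionAlperin

set_option autoImplicit false

/-!
# Strong control of fusion by the Sylow normalizer when all `p`-local subgroups have `p`-length one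

If every normalizer `N_G(R)` of a nontrivial subgroup `R` of the Sylow `p`-subgroup `P` has `p`-length
at most one, then `N_G(P)` controls strong fusion in `P` (Alperin's fusion theorem plus the Frattini
argument in a group of `p`-length one).
-/

namespace Cfsg.Agent.Helper30.BGFus

open Cfsg Cfsg.FusionSystem

/-- In a group of `p`-length one, conjugation by any element on a normal `p`-subgroup agrees with
conjugation by an element of the normalizer of a given Sylow `p`-subgroup. -/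
theorem exists_normalizer_conj_eq {L : Type*} [Group L] [Finite L] (p : ℕ) [Fact p.Prime]
    (hpl : PLengthLE p 1 L) (S : Sylow p L) (R : Subgroup L) [hRn : R.Normal] (hR : IsPGroup p R)
    (n : L) :
    ∃ m ∈ Subgroup.normalizer ((S : Subgroup L) : Set L), ∀ x ∈ R, n * x * n⁻¹ = m * x * m⁻¹ := by
  obtain ⟨hcop, -, hsup, -, -⟩ := Cfsg.Agent.Helper24.plength_one_structure p hpl S
  have hKn : (pPrimeCore p L).Normal := inferInstance
  have hn : n ∈ Subgroup.normalizer ((S : Subgroup L) : Set L) ⊔ pPrimeCore p L := by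
    rw [hsup]; trivial
  obtain ⟨m, hm, k, hk, rfl⟩ := Subgroup.mem_sup_of_normal_right.1 hn
  have hbot : pPrimeCore p L ⊓ R = ⊥ := by
    apply Disjoint.eq_bot
    apply Subgroup.disjoint_of_coprime_natCard
    obtain ⟨j, hj⟩ := hR.exists_card_eq
    rw [hj]
    exact Nat.Coprime.pow_right j hcop
  refine ⟨m, hm, fun x hx => ?_⟩
  have hkx : k * x * k⁻¹ * x⁻¹ ∈ pPrimeCore p L ⊓ R := by
    refine ⟨?_, ?_⟩
    · have h1 : x * k⁻¹ * x⁻¹ ∈ pPrimeCore p L := hKn.conj_mem _ (Subgroup.inv_mem _ hk) x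
      have h2 := Subgroup.mul_mem _ hk h1
      have h3 : k * (x * k⁻¹ * x⁻¹) = k * x * k⁻¹ * x⁻¹ := by group
      rwa [h3] at h2
    · exact R.mul_mem (hRn.conj_mem _ hx k) (R.inv_mem hx)
  rw [hbot, Subgroup.mem_bot] at hkx
  have hkx' : k * x * k⁻¹ = x := by
    have := congrArg (· * x) hkx
    simpa using this
  calc m * k * x * (m * k)⁻¹ = m * (k * x * k⁻¹) * m⁻¹ := by group
    _ = m * x * m⁻¹ := by rw [hkx']

/-- **Control of strong fusion.** If all normalizers of nontrivial subgroups of the Sylow `p`-subgroup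
`P` have `p`-length at most one, every conjugation map between subgroups of `P` is induced by an
element of `N_G(P)`. -/
theorem controls_strong_fusion {G : Type*} [Group G] [Finite G] {p : ℕ} [Fact p.Prime]
    (P : Sylow p G)
    (hloc : ∀ R : Subgroup G, R ≤ (P : Subgroup G) → R ≠ ⊥ →
      PLengthLE p 1 ↥(Subgroup.normalizer (R : Set G)))
    {Q : Subgroup G} (hQ : Q ≤ (P : Subgroup G)) (g : G)
    (hg : ∀ x ∈ Q, g * x * g⁻¹ ∈ (P : Subgroup G)) :
    ∃ y ∈ Subgroup.normalizer ((P : Subgroup G) : Set G), ∀ x ∈ Q, g * x * g⁻¹ = y * x * y⁻¹ := by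
  classical
  set F := groupFusionSystem (P : Subgroup G) with hF
  have hS : IsPGroup p (P : Subgroup G) := P.isPGroup'
  have hsat : F.IsSaturated p := Cfsg.Agent.Helper84.gfs_saturated P
  let C : Subgroup G → (G → G) → Prop := fun R f =>
    ∃ y ∈ Subgroup.normalizer ((P : Subgroup G) : Set G), ∀ x ∈ R, f x = y * x * y⁻¹
  have hC : Cfsg.Agent.Helper87.AlperinClosed F C :=
    { congr := fun {R f f'} h hff => by
        obtain ⟨y, hy, h1⟩ := h
        exact ⟨y, hy, fun x hx => by rw [← hff x hx]; exact h1 x hx⟩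
      restrict := fun {R R' f} _ h hle => by
        obtain ⟨y, hy, h1⟩ := h
        exact ⟨y, hy, fun x hx => h1 x (hle hx)⟩
      comp := fun {R R' f f'} _ _ hmap h1 h2 => by
        obtain ⟨y1, hy1, e1⟩ := h1
        obtain ⟨y2, hy2, e2⟩ := h2
        refine ⟨y2 * y1, Subgroup.mul_mem _ hy2 hy1, fun x hx => ?_⟩
        show f' (f x) = _
        rw [e2 _ (hmap x hx), e1 x hx]
        group }
  refine Cfsg.Agent.Helper85.alperin_ind hS hsat C hC ?_ Q (fun x => g * x * g⁻¹)
    (Cfsg.Agent.Helper85.gfs_mor_iff.2 ⟨hQ, hg, g, fun x _ => rfl⟩)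
  intro R hfn IH α hα
  obtain ⟨hRP, hαP, n, hn⟩ := Cfsg.Agent.Helper85.gfs_mor_iff.1 hα.1
  have hnR : n ∈ Subgroup.normalizer (R : Set G) := by
    rw [Subgroup.mem_normalizer_iff]
    intro h
    constructor
    · intro hh
      rw [← hn h hh]
      exact hα.map_mem hh
    · intro hh
      obtain ⟨x, hx, hxe⟩ := hα.surj hh
      rw [hn x hx] at hxe
      have : x = h := mul_left_cancel (mul_right_cancel hxe)
      rw [← this]; exact hx
  by_cases hRbot : R = ⊥
  · refine ⟨1, Subgroup.one_mem _, fun x hx => ?_⟩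
    rw [hRbot, Subgroup.mem_bot] at hx
    rw [hn x (by rw [hx]; exact R.one_mem), hx]
    group
  by_cases hRP' : R = (P : Subgroup G)
  · refine ⟨n, ?_, hn⟩
    rw [← hRP']; exact hnR
  -- main case: `⊥ < R < P`
  have hpl := hloc R hRP hRbot
  have hsyl : Cfsg.Agent.Helper84.IsSylIn p (normalizerIn (P : Subgroup G) R)
      (Subgroup.normalizer (R : Set G)) :=
    (Cfsg.Agent.Helper84.gfs_fullyNormalized_iff P R hRP).1 hfn
  obtain ⟨S₁, hS₁⟩ := hsyl.exists_sylow
  have hRn : (R.subgroupOf (Subgroup.normalizer (R : Set G))).Normal :=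
    Subgroup.normal_in_normalizer
  have hRp : IsPGroup p (R.subgroupOf (Subgroup.normalizer (R : Set G))) :=
    Cfsg.Agent.Helper84.isPGroup_subgroupOf _ (hS.to_le hRP)
  obtain ⟨m, hm, hmx⟩ := exists_normalizer_conj_eq p hpl S₁
    (R.subgroupOf (Subgroup.normalizer (R : Set G))) hRp ⟨n, hnR⟩
  have hmN : ∀ x ∈ normalizerIn (P : Subgroup G) R,
      (m : G) * x * (m : G)⁻¹ ∈ normalizerIn (P : Subgroup G) R := by
    intro x hx
    have hxL : x ∈ Subgroup.normalizer (R : Set G) := hsyl.1 hx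
    have h1 : (⟨x, hxL⟩ : Subgroup.normalizer (R : Set G)) ∈ (S₁ : Subgroup _) := by
      rw [hS₁, Subgroup.mem_subgroupOf]; exact hx
    have h2 := (Subgroup.mem_normalizer_iff.1 hm ⟨x, hxL⟩).1 h1
    rw [hS₁, Subgroup.mem_subgroupOf] at h2
    exact h2
  have hmor : Cfsg.Agent.Helper87.Mor F (normalizerIn (P : Subgroup G) R)
      (fun x => (m : G) * x * (m : G)⁻¹) :=
    Cfsg.Agent.Helper85.gfs_mor_iff.2 ⟨inf_le_left, fun x hx => (hmN x hx).1, m, fun x _ => rfl⟩
  obtain ⟨t, ht, htR⟩ := Cfsg.Agent.Helper87.exists_normalizer_not_mem hS hRP hRP'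
  have hlt : Nat.card R < Nat.card (normalizerIn (P : Subgroup G) R) :=
    Cfsg.Agent.Helper87.card_lt_of_not_mem (Cfsg.Agent.Helper87.le_normalizerIn hRP)
      inf_le_left ht htR
  obtain ⟨y, hy, hyx⟩ := IH _ _ hmor hlt
  refine ⟨y, hy, fun x hx => ?_⟩
  rw [hn x hx, ← hyx x (Cfsg.Agent.Helper87.le_normalizerIn hRP hx)]
  have := hmx ⟨x, Subgroup.le_normalizer hx⟩ (Subgroup.mem_subgroupOf.2 hx)
  exact congrArg Subtype.val this

end Cfsg.Agent.Helper30.BGFus
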