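import Mathlib
import Cfsg.Agent.Lib.Helper30.BGFusA

set_option autoImplicit false

/-!
# Consequences of control of strong fusion by `N_G(P)`

Bender–Glauberman, Lemma 10.6(b)–(e) style consequences, stated for a finite group `G` and a
Sylow `p`-subgroup `P` under the hypothesis `hloc` that all normalizers of nontrivial subgroups of `P`
have `p`-length at most one.
-/

namespace Cfsg.Agent.Helper30.BGFus

open Cfsg Cfsg.FusionSystem
open scoped commutatorElement

section general

variable {G : Type*} [Group G]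

theorem map_conj_eq_of_mem_normalizer {H : Subgroup G} {n : G}
    (hn : n ∈ Subgroup.normalizer (H : Set G)) : H.map (MulAut.conj n).toMonoidHom = H := by
  ext z
  constructor
  · rintro ⟨q, hq, rfl⟩
    exact (Subgroup.mem_normalizer_iff.1 hn q).1 hq
  · intro hz
    refine ⟨n⁻¹ * z * n, ?_, ?_⟩
    · have := (Subgroup.mem_normalizer_iff.1 (Subgroup.inv_mem _ hn) z).1 hz
      simpa using this
    · simp [MulAut.conj_apply, mul_assoc]

theorem left_le_normalizer_commutator' (K H : Subgroup G) :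
    K ≤ Subgroup.normalizer ((⁅K, H⁆ : Subgroup G) : Set G) := by
  intro a ha
  have key : ∀ b ∈ K, ∀ z ∈ ⁅K, H⁆, b * z * b⁻¹ ∈ ⁅K, H⁆ := by
    intro b hb z hz
    induction hz using Subgroup.closure_induction with
    | mem w hw =>
      obtain ⟨x, hx, v, hv, rfl⟩ := hw
      have e : b * ⁅x, v⁆ * b⁻¹ = ⁅b * x, v⁆ * ⁅b, v⁆⁻¹ := by
        simp only [commutatorElement_def]; group
      rw [e]
      exact Subgroup.mul_mem _ (Subgroup.commutator_mem_commutator (K.mul_mem hb hx) hv)
        (Subgroup.inv_mem _ (Subgroup.commutator_mem_commutator hb hv))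
    | one => simp
    | mul y z _ _ hy hz =>
      have e : b * (y * z) * b⁻¹ = (b * y * b⁻¹) * (b * z * b⁻¹) := by group
      rw [e]; exact Subgroup.mul_mem _ hy hz
    | inv y _ hy =>
      have e : b * y⁻¹ * b⁻¹ = (b * y * b⁻¹)⁻¹ := by group
      rw [e]; exact Subgroup.inv_mem _ hy
  rw [Subgroup.mem_normalizer_iff]
  intro z
  constructor
  · exact key a ha z
  · intro hz
    have := key a⁻¹ (K.inv_mem ha) _ hz
    have e : a⁻¹ * (a * z * a⁻¹) * a⁻¹⁻¹ = z := by group
    rwa [e] at this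

/-- A normal subgroup of a solvable group that together with the derived subgroup generates
everything is everything. -/
theorem eq_top_of_commutator_sup_eq_top {H : Type*} [Group H] [Group.IsSolvable H] (D : Subgroup H)
    [D.Normal] (h : commutator H ⊔ D = ⊤) : D = ⊤ := by
  by_contra hD
  have hnt : Nontrivial (H ⧸ D) := by
    rw [← not_subsingleton_iff_nontrivial]
    intro hs
    exact hD (QuotientGroup.subgroup_eq_top_of_subsingleton D hs)
  have hlt := Group.IsSolvable.commutator_lt_top_of_nontrivial (G := H ⧸ D)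
  have hsurj : (QuotientGroup.mk' D).range = ⊤ :=
    MonoidHom.range_eq_top.2 (QuotientGroup.mk'_surjective D)
  have h1 : commutator (H ⧸ D) = (commutator H).map (QuotientGroup.mk' D) := by
    rw [commutator_def, commutator_def, Subgroup.map_commutator, ← MonoidHom.range_eq_map, hsurj]
  have h2 : (commutator H ⊔ D).map (QuotientGroup.mk' D) = ⊤ := by
    rw [h, ← MonoidHom.range_eq_map, hsurj]
  rw [Subgroup.map_sup, QuotientGroup.map_mk'_self, sup_bot_eq, ← h1] at h2
  exact (ne_of_lt hlt) h2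

/-- subgroup-of-`G` version: `P` solvable, `D ≤ P` normalized by `P`, `P ≤ P' D` implies `P ≤ D`. -/
theorem le_of_le_commutator_sup {P D : Subgroup G} [Group.IsSolvable P] (hDP : D ≤ P)
    (hn : P ≤ Subgroup.normalizer (D : Set G)) (h : P ≤ ⁅P, P⁆ ⊔ D) : P ≤ D := by
  have hnorm : (D.subgroupOf P).Normal := (Subgroup.normal_subgroupOf_iff_le_normalizer hDP).2 hn
  have hcomm : (⁅P, P⁆ : Subgroup G).subgroupOf P = commutator P := by
    have h1 : (commutator P).map P.subtype = ⁅P, P⁆ := by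
      rw [commutator_def, Subgroup.map_commutator, ← MonoidHom.range_eq_map, Subgroup.range_subtype]
    rw [← h1]
    exact Subgroup.comap_map_eq_self_of_injective P.subtype_injective _
  have hcP : (⁅P, P⁆ : Subgroup G) ≤ P := Subgroup.commutator_le_self P
  have htop : commutator P ⊔ D.subgroupOf P = ⊤ := by
    rw [← hcomm, ← Subgroup.subgroupOf_sup hcP hDP, Subgroup.subgroupOf_eq_top]
    exact h
  have := eq_top_of_commutator_sup_eq_top (D.subgroupOf P) htop
  rwa [Subgroup.subgroupOf_eq_top] at this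

end general

section fusion

variable {G : Type*} [Group G] [Finite G] {p : ℕ} [Fact p.Prime] (P : Sylow p G)

/-- (c): conjugates of `Q ≤ P` inside `P` are `N_G(P)`-conjugates. -/
theorem exists_normalizer_map_conj_eq
    (hloc : ∀ R : Subgroup G, R ≤ (P : Subgroup G) → R ≠ ⊥ →
      PLengthLE p 1 ↥(Subgroup.normalizer (R : Set G)))
    (Q : Subgroup G) (x : G) (hQ : Q ≤ (P : Subgroup G))
    (hx : Q.map (MulAut.conj x).toMonoidHom ≤ (P : Subgroup G)) :
    ∃ y ∈ Subgroup.normalizer ((P : Subgroup G) : Set G),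
      Q.map (MulAut.conj x).toMonoidHom = Q.map (MulAut.conj y).toMonoidHom := by
  obtain ⟨y, hy, hyx⟩ := controls_strong_fusion P hloc hQ x
    (fun q hq => hx ⟨q, hq, rfl⟩)
  refine ⟨y, hy, ?_⟩
  ext z
  constructor
  · rintro ⟨q, hq, rfl⟩
    exact ⟨q, hq, by simp only [MulEquiv.coe_toMonoidHom, MulAut.conj_apply]; exact (hyx q hq).symm⟩
  · rintro ⟨q, hq, rfl⟩
    exact ⟨q, hq, by simp only [MulEquiv.coe_toMonoidHom, MulAut.conj_apply]; exact hyx q hq⟩

/-- (d): `N_P(Q)` is a Sylow `p`-subgroup of `N_G(Q)` for every `Q ≤ P`. -/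
theorem normalizerIn_isSylIn
    (hloc : ∀ R : Subgroup G, R ≤ (P : Subgroup G) → R ≠ ⊥ →
      PLengthLE p 1 ↥(Subgroup.normalizer (R : Set G)))
    (Q : Subgroup G) (hQ : Q ≤ (P : Subgroup G)) :
    Cfsg.Agent.Helper84.IsSylIn p (normalizerIn (P : Subgroup G) Q)
      (Subgroup.normalizer (Q : Set G)) := by
  obtain ⟨g, hgS, hg⟩ := Cfsg.Agent.Helper84.exists_conj_normalizer_sylow P Q hQ
  obtain ⟨y, hy, hyQ⟩ := exists_normalizer_map_conj_eq P hloc Q g hQ hgS
  rw [hyQ] at hg
  have h1 := hg.map_conj y⁻¹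
  rw [← Cfsg.Agent.Helper84.normalizer_map_conj, Cfsg.Agent.Helper84.map_conj_map_conj_inv,
    Cfsg.Agent.Helper84.normalizerIn_map_conj, Cfsg.Agent.Helper84.map_conj_map_conj_inv,
    map_conj_eq_of_mem_normalizer (Subgroup.inv_mem _ hy)] at h1
  exact h1

/-- weak closure: a subgroup `Q ≤ P` normalized by `N_G(P)` is weakly closed in `P`. -/
theorem conj_mem_of_normalizer_le
    (hloc : ∀ R : Subgroup G, R ≤ (P : Subgroup G) → R ≠ ⊥ →
      PLengthLE p 1 ↥(Subgroup.normalizer (R : Set G)))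
    (Q : Subgroup G) (hQ : Q ≤ (P : Subgroup G))
    (hN : Subgroup.normalizer ((P : Subgroup G) : Set G) ≤ Subgroup.normalizer (Q : Set G))
    (x : G) (hx : ∀ q ∈ Q, x * q * x⁻¹ ∈ (P : Subgroup G)) : x ∈ Subgroup.normalizer (Q : Set G) := by
  have : Finite (Q : Set G) := Subtype.finite
  apply Subgroup.mem_normalizer_fintype
  intro q hq
  obtain ⟨y, hy, hyx⟩ := controls_strong_fusion P hloc hQ x hx
  rw [hyx q hq]
  exact (Subgroup.mem_normalizer_iff.1 (hN hy) q).1 hq

/-- (e): a subgroup `Q ≤ P ∩ R` (with `R` a `p`-subgroup) normalized by `N_G(P)` is normalized by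
`N_G(R)`. -/
theorem normalizer_le_normalizer_of_le
    (hloc : ∀ R : Subgroup G, R ≤ (P : Subgroup G) → R ≠ ⊥ →
      PLengthLE p 1 ↥(Subgroup.normalizer (R : Set G)))
    (R Q : Subgroup G) (hR : IsPGroup p R) (hQ : Q ≤ (P : Subgroup G) ⊓ R)
    (hN : Subgroup.normalizer ((P : Subgroup G) : Set G) ≤ Subgroup.normalizer (Q : Set G)) :
    Subgroup.normalizer (R : Set G) ≤ Subgroup.normalizer (Q : Set G) := by
  have hQP : Q ≤ (P : Subgroup G) := hQ.trans inf_le_left
  have hQR : Q ≤ R := hQ.trans inf_le_right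
  obtain ⟨k, -, hk⟩ := (Cfsg.Agent.Helper84.sylow_isSylIn_top P).exists_conj_ge le_top hR
  have hkR : ∀ r ∈ R, k⁻¹ * r * k ∈ (P : Subgroup G) := by
    intro r hr
    obtain ⟨s, hs, rfl⟩ := hk hr
    have e : k⁻¹ * ((MulAut.conj k).toMonoidHom s) * k = s := by
      simp [MulAut.conj_apply, mul_assoc]
    rw [e]; exact hs
  have hk1 : k⁻¹ ∈ Subgroup.normalizer (Q : Set G) := by
    apply conj_mem_of_normalizer_le P hloc Q hQP hN
    intro q hq
    have := hkR q (hQR hq)
    simpa using this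
  intro n hn
  have hk2 : k⁻¹ * n ∈ Subgroup.normalizer (Q : Set G) := by
    apply conj_mem_of_normalizer_le P hloc Q hQP hN
    intro q hq
    have h1 : n * q * n⁻¹ ∈ R := (Subgroup.mem_normalizer_iff.1 hn q).1 (hQR hq)
    have := hkR _ h1
    have e : k⁻¹ * n * q * (k⁻¹ * n)⁻¹ = k⁻¹ * (n * q * n⁻¹) * k := by group
    rw [e]; exact this
  have := Subgroup.mul_mem _ (Subgroup.inv_mem _ hk1) hk2
  simpa using this

/-- If `G` is perfect, `P ≤ [P, N_G(P)]` (focal subgroup theorem plus control of fusion). -/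
theorem sylow_le_commutator_normalizer
    (hloc : ∀ R : Subgroup G, R ≤ (P : Subgroup G) → R ≠ ⊥ →
      PLengthLE p 1 ↥(Subgroup.normalizer (R : Set G)))
    (hperf : commutator G = ⊤) :
    (P : Subgroup G) ≤ ⁅(P : Subgroup G), Subgroup.normalizer ((P : Subgroup G) : Set G)⁆ := by
  have hfoc := Subgroup.commutator_inf_eq_focalSubgroup P
  rw [hperf, top_inf_eq] at hfoc
  refine hfoc.le.trans ?_
  rw [Subgroup.focalSubgroup_def, Subgroup.closure_le]
  rintro g ⟨hg, x, hx, u, rfl⟩
  have hux : u * x * u⁻¹ ∈ (P : Subgroup G) := by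
    have h1 := Subgroup.mul_mem _ (Subgroup.inv_mem _ hx) hg
    have e : x⁻¹ * ⁅x, u⁆ = (u * x * u⁻¹)⁻¹ := by
      rw [commutatorElement_def]; group
    rw [e] at h1
    simpa using Subgroup.inv_mem _ h1
  obtain ⟨y, hy, hyx⟩ := controls_strong_fusion P hloc (Q := Subgroup.zpowers x)
    (by rw [Subgroup.zpowers_le]; exact hx) u (by
      intro q hq
      obtain ⟨k, rfl⟩ := Subgroup.mem_zpowers_iff.1 hq
      have e : u * x ^ k * u⁻¹ = (u * x * u⁻¹) ^ k := by simp [conj_zpow]
      rw [e]; exact Subgroup.zpow_mem _ hux k)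
  have h2 := hyx x (Subgroup.mem_zpowers x)
  have e : ⁅x, u⁆ = ⁅x, y⁆ := by
    rw [commutatorElement_def, commutatorElement_def]
    calc x * u * x⁻¹ * u⁻¹ = x * (u * x * u⁻¹)⁻¹ := by group
      _ = x * (y * x * y⁻¹)⁻¹ := by rw [h2]
      _ = x * y * x⁻¹ * y⁻¹ := by group
  rw [SetLike.mem_coe, e]
  exact Subgroup.commutator_mem_commutator hx hy

/-- If `G` is perfect and `N_G(P) = P V`, then `P = [P, V]`. -/
theorem sylow_eq_commutator_compl
    (hloc : ∀ R : Subgroup G, R ≤ (P : Subgroup G) → R ≠ ⊥ →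
      PLengthLE p 1 ↥(Subgroup.normalizer (R : Set G)))
    (hperf : commutator G = ⊤) (V : Subgroup G)
    (hVN : V ≤ Subgroup.normalizer ((P : Subgroup G) : Set G))
    (hfac : ∀ m ∈ Subgroup.normalizer ((P : Subgroup G) : Set G),
      ∃ a ∈ (P : Subgroup G), ∃ b ∈ V, m = a * b) :
    (P : Subgroup G) = ⁅(P : Subgroup G), V⁆ := by
  have hDP : ⁅(P : Subgroup G), V⁆ ≤ (P : Subgroup G) := by
    rw [Subgroup.commutator_le]
    intro x hx v hv
    have h1 : v * x⁻¹ * v⁻¹ ∈ (P : Subgroup G) :=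
      (Subgroup.mem_normalizer_iff.1 (hVN hv) x⁻¹).1 (Subgroup.inv_mem _ hx)
    have e : ⁅x, v⁆ = x * (v * x⁻¹ * v⁻¹) := by rw [commutatorElement_def]; group
    rw [e]; exact Subgroup.mul_mem _ hx h1
  have hnD := left_le_normalizer_commutator' (P : Subgroup G) V
  have h1 := sylow_le_commutator_normalizer P hloc hperf
  have h2 : ⁅(P : Subgroup G), Subgroup.normalizer ((P : Subgroup G) : Set G)⁆ ≤
      ⁅(P : Subgroup G), (P : Subgroup G)⁆ ⊔ ⁅(P : Subgroup G), V⁆ := by
    rw [Subgroup.commutator_le]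
    intro x hx m hm
    obtain ⟨a, ha, b, hb, rfl⟩ := hfac m hm
    have e : ⁅x, a * b⁆ = ⁅x, a⁆ * (a * ⁅x, b⁆ * a⁻¹) := by
      simp only [commutatorElement_def]; group
    rw [e]
    apply Subgroup.mul_mem
    · exact (le_sup_left : _ ≤ ⁅(P : Subgroup G), (P : Subgroup G)⁆ ⊔ ⁅(P : Subgroup G), V⁆)
        (Subgroup.commutator_mem_commutator hx ha)
    · apply (le_sup_right : _ ≤ ⁅(P : Subgroup G), (P : Subgroup G)⁆ ⊔ ⁅(P : Subgroup G), V⁆)
      exact (Subgroup.mem_normalizer_iff.1 (hnD ha) _).1 (Subgroup.commutator_mem_commutator hx hb)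
  have hsolv : Group.IsSolvable (P : Subgroup G) := by
    have : Group.IsNilpotent (P : Subgroup G) := P.isPGroup'.isNilpotent
    infer_instance
  exact le_antisymm (le_of_le_commutator_sup hDP hnD (h1.trans h2)) hDP

end fusion

end Cfsg.Agent.Helper30.BGFus
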