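import Mathlib
import Cfsg.Agent.Lib.Helper93.RU0
import Cfsg.Agent.Lib.Helper34.RUB3
import Cfsg.Agent.Lib.Helper12.RW0

set_option autoImplicit false

/-! RW server (helper12, S2279), pieces (SPQ) `span_Q` and (SPP) `span_P`: the binomial entries of `(1+N)^d` and a
triangular spanning lemma. -/

namespace Cfsg.Agent.Helper30.RW

open Matrix Cfsg.Agent.Helper93.RU Cfsg.Agent.Helper12.RW

variable {F : Type*} [Field F] {m : ℕ}

/-- entries of `(1 + N)^d`: binomial coefficients above the diagonal -/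
theorem h30_one_add_Nmat_pow_apply (d : ℕ) (i j : Fin (m + 3)) :
    ((1 + Nmat m F) ^ d) i j =
      if i.val ≤ j.val then (Nat.choose d (j.val - i.val) : F) else 0 := by
  have e : (1 + Nmat m F) = Nmat m F + 1 := add_comm _ _
  rw [e, (Commute.one_right (Nmat m F)).add_pow d, Matrix.sum_apply]
  have hterm : ∀ k ∈ Finset.range (d + 1),
      (Nmat m F ^ k * 1 ^ (d - k) * ((Nat.choose d k : ℕ) : Matrix (Fin (m + 3)) (Fin (m + 3)) F)) i j
        = if i.val + k = j.val then (Nat.choose d k : F) else 0 := by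
    intro k _
    rw [one_pow, mul_one, ← nsmul_eq_mul', Matrix.smul_apply, Cfsg.Agent.Helper34.RU.h34_Nmat_pow_apply,
      nsmul_eq_mul]
    split_ifs <;> simp
  rw [Finset.sum_congr rfl hterm]
  by_cases hij : i.val ≤ j.val
  · rw [if_pos hij]
    by_cases hd : j.val - i.val ∈ Finset.range (d + 1)
    · rw [Finset.sum_eq_single_of_mem (j.val - i.val) hd]
      · rw [if_pos (by omega)]
      · intro b _ hb
        rw [if_neg (by omega)]
    · rw [Finset.sum_eq_zero]
      · rw [Nat.choose_eq_zero_of_lt (by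
          rw [Finset.mem_range] at hd; omega)]
        simp
      · intro b hb
        rw [Finset.mem_range] at hb hd
        rw [if_neg (by omega)]
  · rw [if_neg hij]
    apply Finset.sum_eq_zero
    intro b _
    rw [if_neg (by omega)]

/-- entries of `u^d`, `d : ℕ` -/
theorem h30_uEl_zpow_apply (d : ℕ) (i j : Fin (m + 3)) :
    ((uEl m F) ^ (d : ℤ)).1 i j =
      if i.val ≤ j.val then (Nat.choose d (j.val - i.val) : F) else 0 := by
  rw [zpow_natCast, Matrix.SpecialLinearGroup.coe_pow, Cfsg.Agent.Helper34.RU.h34_uEl_val,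
    h30_one_add_Nmat_pow_apply]

/-- `Q_{-j} = e_0ᵀ u^j = Σ_i C(j,i) e_iᵀ` -/
theorem h30_Qv_neg_apply (j : ℕ) (i : Fin (m + 3)) :
    Qv m F (-(j : ℤ)) i = (Nat.choose j i.val : F) := by
  unfold Qv eV
  rw [neg_neg, Matrix.single_one_vecMul]
  show ((uEl m F) ^ (j : ℤ)).1 0 i = _
  rw [h30_uEl_zpow_apply]
  simp

/-- `P_k = u^k e_{n-1} = Σ_i C(k, n-1-i) e_i` -/
theorem h30_Pv_apply (k : ℕ) (i : Fin (m + 3)) :
    Pv m F (k : ℤ) i = (Nat.choose k (m + 2 - i.val) : F) := by
  unfold Pv eV
  rw [Matrix.mulVec_single_one]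
  show ((uEl m F) ^ (k : ℤ)).1 i (lastI m) = _
  rw [h30_uEl_zpow_apply]
  have hi : i.val ≤ (lastI m).val := by
    have := i.isLt
    show i.val ≤ m + 2
    omega
  rw [if_pos hi]
  rfl

/-- triangular spanning lemma: vectors `w 0, .., w (r-1)` with `w j` supported on levels `≤ j` and equal to `1`
on level `j` span all vectors supported on levels `< r`. -/
theorem h30_tri {n : ℕ} (lvl : Fin n → ℕ) (hinj : Function.Injective lvl) (w : ℕ → Fin n → F) :
    ∀ r : ℕ, (∀ j < r, ∀ i, j < lvl i → w j i = 0) → (∀ j < r, ∀ i, lvl i = j → w j i = 1) →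
      ∀ ψ : Fin n → F, (∀ i, r ≤ lvl i → ψ i = 0) →
        ∃ a : ℕ → F, ψ = ∑ j ∈ Finset.range r, a j • w j := by
  intro r
  induction r with
  | zero =>
    intro _ _ ψ hψ
    refine ⟨fun _ => 0, ?_⟩
    funext i
    simp [hψ i (Nat.zero_le _)]
  | succ r ih =>
    intro h0 h1 ψ hψ
    have h0' : ∀ j < r, ∀ i, j < lvl i → w j i = 0 := fun j hj => h0 j (Nat.lt_succ_of_lt hj)
    have h1' : ∀ j < r, ∀ i, lvl i = j → w j i = 1 := fun j hj => h1 j (Nat.lt_succ_of_lt hj)
    by_cases hex : ∃ i0, lvl i0 = r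
    · obtain ⟨i0, hi0⟩ := hex
      have hψ' : ∀ i, r ≤ lvl i → (ψ - ψ i0 • w r) i = 0 := by
        intro i hi
        rcases Nat.eq_or_lt_of_le hi with h | h
        · have : i = i0 := hinj (by rw [hi0, ← h])
          subst this
          rw [Pi.sub_apply, Pi.smul_apply, h1 r (Nat.lt_succ_self r) i hi0, smul_eq_mul, mul_one, sub_self]
        · rw [Pi.sub_apply, Pi.smul_apply, hψ i h, h0 r (Nat.lt_succ_self r) i h, smul_zero, sub_zero]
      obtain ⟨a, ha⟩ := ih h0' h1' _ hψ'
      refine ⟨fun j => if j = r then ψ i0 else a j, ?_⟩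
      rw [Finset.sum_range_succ]
      dsimp only
      rw [if_pos rfl]
      have hs : ∑ j ∈ Finset.range r, (if j = r then ψ i0 else a j) • w j
          = ∑ j ∈ Finset.range r, a j • w j := by
        apply Finset.sum_congr rfl
        intro j hj
        rw [if_neg (ne_of_lt (Finset.mem_range.mp hj))]
      rw [hs, ← ha, sub_add_cancel]
    · have hψ' : ∀ i, r ≤ lvl i → ψ i = 0 := by
        intro i hi
        rcases Nat.eq_or_lt_of_le hi with h | h
        · exact absurd ⟨i, h.symm⟩ hex
        · exact hψ i h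
      obtain ⟨a, ha⟩ := ih h0' h1' ψ hψ'
      refine ⟨fun j => if j = r then 0 else a j, ?_⟩
      rw [Finset.sum_range_succ]
      dsimp only
      rw [if_pos rfl, zero_smul, add_zero]
      have hs : ∑ j ∈ Finset.range r, (if j = r then (0 : F) else a j) • w j
          = ∑ j ∈ Finset.range r, a j • w j := by
        apply Finset.sum_congr rfl
        intro j hj
        rw [if_neg (ne_of_lt (Finset.mem_range.mp hj))]
      rw [hs, ← ha]

/-- (SPQ) the functionals `Q_0, Q_{-1}, .., Q_{-(m+1)}` span the annihilator of `e_{n-1}`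
(`Qv (-j) = e_0ᵀ u^j = Σ_i C(j,i) e_iᵀ`, triangular) -/
theorem span_Q (ψ : Fin (m + 3) → F) (h : ψ ⬝ᵥ eV (lastI m) = 0) :
    ∃ a : Fin (m + 2) → F, ψ = ∑ j : Fin (m + 2), a j • Qv m F (-(j.val : ℤ)) := by
  have hlast : ψ (lastI m) = 0 := by
    have := h
    unfold eV at this
    rwa [dotProduct_single_one] at this
  obtain ⟨a, ha⟩ := h30_tri (F := F) (fun i : Fin (m + 3) => i.val) Fin.val_injective
    (fun j => Qv m F (-(j : ℤ))) (m + 2)
    (by
      intro j _ i hji
      rw [h30_Qv_neg_apply, Nat.choose_eq_zero_of_lt hji]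
      simp)
    (by
      intro j _ i hij
      rw [h30_Qv_neg_apply]
      have hij' : i.val = j := hij
      rw [hij', Nat.choose_self]
      simp)
    ψ
    (by
      intro i hi
      have : i = lastI m := by
        apply Fin.ext
        have := i.isLt
        show i.val = m + 2
        have hi' : m + 2 ≤ i.val := hi
        omega
      rw [this, hlast])
  refine ⟨fun j => a j.val, ?_⟩
  rw [ha, Finset.sum_range]

/-- (SPP) the vectors `P_0, .., P_{m+2}` span everything (`Pv k = Σ_i C(k,i) e_{n-1-i}`) -/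
theorem span_P (x : Fin (m + 3) → F) :
    ∃ a : Fin (m + 3) → F, x = ∑ k : Fin (m + 3), a k • Pv m F (k.val : ℤ) := by
  have hinj : Function.Injective (fun i : Fin (m + 3) => m + 2 - i.val) := by
    intro i j hij
    apply Fin.ext
    have hi := i.isLt
    have hj := j.isLt
    have : m + 2 - i.val = m + 2 - j.val := hij
    omega
  obtain ⟨a, ha⟩ := h30_tri (F := F) (fun i : Fin (m + 3) => m + 2 - i.val) hinj
    (fun k => Pv m F (k : ℤ)) (m + 3)
    (by
      intro k _ i hki
      rw [h30_Pv_apply, Nat.choose_eq_zero_of_lt hki]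
      simp)
    (by
      intro k _ i hik
      rw [h30_Pv_apply]
      have hik' : m + 2 - i.val = k := hik
      rw [hik', Nat.choose_self]
      simp)
    x
    (by
      intro i hi
      have := i.isLt
      have hi' : m + 3 ≤ m + 2 - i.val := hi
      omega)
  refine ⟨fun k => a k.val, ?_⟩
  rw [ha, Finset.sum_range]

end Cfsg.Agent.Helper30.RW
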