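import Mathlib

set_option autoImplicit false

/-! RW server (helper12, S2279), piece (LUC): pure `Nat`, Lucas' theorem. -/

namespace Cfsg.Agent.Helper30.RW

/-- Lucas: `C(N, p^a) ≡ N / p^a (mod p)`. -/
theorem h30_choose_pow_modEq (p : ℕ) [Fact p.Prime] (a : ℕ) :
    ∀ N : ℕ, Nat.choose N (p ^ a) ≡ N / p ^ a [MOD p] := by
  induction a with
  | zero => intro N; simp [Nat.ModEq.refl]
  | succ a ih =>
    intro N
    have hp : 0 < p := (Fact.out : p.Prime).pos
    have h1 : Nat.choose N (p ^ (a + 1)) ≡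
        Nat.choose (N % p) (p ^ (a + 1) % p) * Nat.choose (N / p) (p ^ (a + 1) / p) [MOD p] :=
      Choose.choose_modEq_choose_mod_mul_choose_div_nat
    have h2 : p ^ (a + 1) % p = 0 := by
      rw [pow_succ]; exact Nat.mul_mod_left _ _
    have h3 : p ^ (a + 1) / p = p ^ a := by
      rw [pow_succ]; exact Nat.mul_div_cancel _ hp
    rw [h2, h3, Nat.choose_zero_right, one_mul] at h1
    refine h1.trans ((ih (N / p)).trans ?_)
    rw [Nat.div_div_eq_div_mul, pow_succ, mul_comm]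

/-- (LUC) Kummer / Lucas: no carry when adding `n - 1` and `p^a` in base `p` if `p^a ∥ n`. -/
theorem luc (p : ℕ) [Fact p.Prime] (n a : ℕ) (hn : 0 < n) (h1 : p ^ a ∣ n) (h2 : ¬ p ^ (a + 1) ∣ n) :
    ¬ p ∣ Nat.choose (n - 1 + p ^ a) (p ^ a) := by
  have hp : 0 < p := (Fact.out : p.Prime).pos
  have hpa : 0 < p ^ a := pow_pos hp a
  obtain ⟨s, rfl⟩ := h1
  have hs : 0 < s := by
    rcases Nat.eq_zero_or_pos s with h | h
    · subst h; simp at hn
    · exact h
  have hps : ¬ p ∣ s := by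
    intro hd
    apply h2
    rw [pow_succ]
    exact Nat.mul_dvd_mul_left _ hd
  -- `(p^a * s - 1 + p^a) / p^a = s`
  have hdiv : (p ^ a * s - 1 + p ^ a) / p ^ a = s := by
    obtain ⟨s', rfl⟩ : ∃ s', s = s' + 1 := ⟨s - 1, by omega⟩
    have e : p ^ a * (s' + 1) - 1 + p ^ a = (p ^ a - 1) + p ^ a * (s' + 1) := by
      have : p ^ a * (s' + 1) = p ^ a * s' + p ^ a := by ring
      omega
    rw [e, Nat.add_mul_div_left _ _ hpa, Nat.div_eq_of_lt (by omega), zero_add]
  have hmod := h30_choose_pow_modEq p a (p ^ a * s - 1 + p ^ a)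
  rw [hdiv] at hmod
  intro hd
  apply hps
  have h0 : Nat.choose (p ^ a * s - 1 + p ^ a) (p ^ a) ≡ 0 [MOD p] := (Nat.modEq_zero_iff_dvd).mpr hd
  exact (Nat.modEq_zero_iff_dvd).mp (hmod.symm.trans h0)

end Cfsg.Agent.Helper30.RW
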