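import Cfsg.Agent.Lib.Helper64.S4017Defs

/-!
# helper64 S4017M server (S4017): piece (SYLC) — `C(y)` is a Sylow `p`-subgroup
-/

set_option autoImplicit false

namespace Cfsg.Agent.Helper30.S4017M

open Cfsg.Agent.Helper64.S4017

variable {G : Type*} [Group G] [Finite G] {a p : ℕ} {Q : Subgroup G} {x : G}

omit [Finite G] in
/-- membership in the normaliser of a cyclic subgroup -/
theorem h30_mem_normalizer_zpowers {g y : G} (h1 : g * y * g⁻¹ ∈ Subgroup.zpowers y)
    (h2 : g⁻¹ * y * g ∈ Subgroup.zpowers y) :
    g ∈ Subgroup.normalizer (Subgroup.zpowers y : Set G) := by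
  rw [Subgroup.mem_normalizer_iff]
  intro k
  constructor
  · intro hk
    obtain ⟨n, rfl⟩ := Subgroup.mem_zpowers_iff.mp hk
    have : g * y ^ n * g⁻¹ = (g * y * g⁻¹) ^ n := by
      have := map_zpow (MulAut.conj g).toMonoidHom y n
      simpa [MulAut.conj_apply] using this
    rw [this]
    exact Subgroup.zpow_mem _ h1 n
  · intro hk
    obtain ⟨n, hn⟩ := Subgroup.mem_zpowers_iff.mp hk
    have hk' : k = g⁻¹ * y ^ n * g := by
      rw [hn]
      group
    have : g⁻¹ * y ^ n * g = (g⁻¹ * y * g) ^ n := by
      have := map_zpow (MulAut.conj g⁻¹).toMonoidHom y n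
      simpa [MulAut.conj_apply] using this
    rw [hk', this]
    exact Subgroup.zpow_mem _ h2 n

/-- `p` is odd in a setting -/
theorem h30_p_odd (h : Setting a p Q x) : p % 2 = 1 := by
  have h1 := h.p_eq
  have h2 : 2 ^ a = 2 * 2 ^ (a - 1) := by
    rw [← pow_succ']
    congr 1
    have := h.two_le
    omega
  omega

/-- `|G|` is even in a setting -/
theorem h30_two_dvd_card (h : Setting a p Q x) : 2 ∣ Nat.card G := by
  have h1 : Nat.card Q ∣ Nat.card G := Subgroup.card_subgroup_dvd_card Q
  rw [h.card_Q] at h1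
  have h2 : 2 ∣ 2 ^ a := dvd_pow_self 2 (by have := h.two_le; omega)
  exact h2.trans h1

/-- (SYLC) if `u` inverts the `p`-element `y ≠ 1` and no involution centralises `y`, then `C(y)` is
a Sylow `p`-subgroup: `C(y)⟨u⟩` is a proper subgroup of even order. -/
theorem centralizer_eq_sylow (h : Setting a p Q x) {u y : G} (hu : IsInv u)
    (hy : IsPel p y) (hy1 : y ≠ 1) (huy : u * y * u⁻¹ = y⁻¹)
    (hodd : ∀ s : G, IsInv s → s * y ≠ y * s) :
    ∃ P : Sylow p G, (P : Subgroup G) = Subgroup.centralizer {y} := by
  haveI : Fact p.Prime := ⟨h.prime⟩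
  haveI : Fact (Nat.Prime 2) := ⟨Nat.prime_two⟩
  haveI := h.simple
  have hpodd := h30_p_odd h
  set C := Subgroup.centralizer ({y} : Set G) with hC
  set N := Subgroup.normalizer (Subgroup.zpowers y : Set G) with hN
  have huinv : u⁻¹ = u := by
    have := hu.2
    exact inv_eq_of_mul_eq_one_left this
  have huN : u ∈ N := by
    apply h30_mem_normalizer_zpowers
    · rw [huy]
      exact Subgroup.inv_mem _ (Subgroup.mem_zpowers y)
    · have : u⁻¹ * y * u = y⁻¹ := by
        rw [← huy]
        rw [huinv]
      rw [this]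
      exact Subgroup.inv_mem _ (Subgroup.mem_zpowers y)
  have hCN : C ≤ N := by
    intro c hc
    have hcy : c * y = y * c := Subgroup.mem_centralizer_singleton_iff.mp hc
    apply h30_mem_normalizer_zpowers
    · have : c * y * c⁻¹ = y := by rw [hcy]; group
      rw [this]
      exact Subgroup.mem_zpowers y
    · have : c⁻¹ * y * c = y := by
        rw [mul_assoc, ← hcy]
        group
      rw [this]
      exact Subgroup.mem_zpowers y
  have hNtop : N ≠ ⊤ := by
    intro htop
    have hnorm : (Subgroup.zpowers y).Normal := Subgroup.normalizer_eq_top_iff.mp htop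
    rcases hnorm.eq_bot_or_eq_top with hb | ht
    · exact hy1 (Subgroup.zpowers_eq_bot.mp hb)
    · obtain ⟨j, hj⟩ := hy
      have hcard : Nat.card G = p ^ j := by
        rw [← hj, ← Nat.card_zpowers, ht]
        exact (Subgroup.card_top).symm
      have h2 := h30_two_dvd_card h
      rw [hcard] at h2
      have := Nat.Prime.dvd_of_dvd_pow Nat.prime_two h2
      omega
  have hu2 : orderOf u = 2 := by
    apply orderOf_eq_prime
    · rw [pow_two]
      exact hu.2
    · exact hu.1
  have h2N : 2 ∣ Nat.card N := by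
    rw [← hu2]
    exact Subgroup.orderOf_dvd_natCard N huN
  have hprime : ∀ {r : ℕ}, r.Prime → r ∣ Nat.card C → r = p := by
    intro r hr hrC
    have hrN : r ∣ Nat.card N := hrC.trans (Subgroup.card_dvd_of_le hCN)
    rcases h.star N hNtop h2N r hr hrN with h2 | hp
    · exfalso
      subst h2
      obtain ⟨s, hs⟩ := exists_prime_orderOf_dvd_card' (G := ↥C) 2 hrC
      have hs' : orderOf (s : G) = 2 := by
        rw [← hs]
        exact Subgroup.orderOf_coe s
      have hsinv : IsInv (s : G) := by
        refine ⟨?_, ?_⟩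
        · intro h1
          rw [h1, orderOf_one] at hs'
          omega
        · rw [← pow_two, ← hs']
          exact pow_orderOf_eq_one _
      exact hodd (s : G) hsinv (Subgroup.mem_centralizer_singleton_iff.mp s.2)
    · exact hp
  have hCcard : Nat.card C = p ^ (Nat.card C).primeFactorsList.length :=
    Nat.eq_prime_pow_of_unique_prime_dvd Nat.card_pos.ne' hprime
  have hCp : IsPGroup p C := IsPGroup.of_card hCcard
  obtain ⟨P, hP⟩ := IsPGroup.exists_le_sylow hCp
  refine ⟨P, le_antisymm ?_ hP⟩
  intro g hg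
  have hyP : y ∈ (P : Subgroup G) := hP (by
    rw [hC, Subgroup.mem_centralizer_singleton_iff])
  exact Subgroup.mem_centralizer_singleton_iff.mpr (h.abel P g hg y hyP)

end Cfsg.Agent.Helper30.S4017M
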