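import Mathlib
import Cfsg.Prelude.Def_OddOrderLocal
import Cfsg.Agent.Lib.Helper83.OrderP3

set_option autoImplicit false

/-!
# Complements of a Sylow subgroup in its normalizer; centre of a nonabelian group of order `p³`
-/

namespace Cfsg.Agent.Helper30.BGFus

open Cfsg
open scoped commutatorElement

variable {G : Type*} [Group G]

/-- Schur–Zassenhaus: a Sylow `p`-subgroup has a complement in its normalizer. -/
theorem exists_isComplIn_normalizer [Finite G] {p : ℕ} [Fact p.Prime] (P : Sylow p G) :
    ∃ V : Subgroup G,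
      Cfsg.IsComplIn (P : Subgroup G) V (Subgroup.normalizer ((P : Subgroup G) : Set G)) ∧
      (Nat.card V).Coprime p ∧ Nat.card V ∣ Nat.card G := by
  classical
  set N := Subgroup.normalizer ((P : Subgroup G) : Set G) with hN
  have hPN : (P : Subgroup G) ≤ N := Subgroup.le_normalizer
  have hnorm : ((P : Subgroup G).subgroupOf N).Normal := Subgroup.normal_in_normalizer
  have hcard : Nat.card ((P : Subgroup G).subgroupOf N) = Nat.card (P : Subgroup G) :=
    Nat.card_congr (Subgroup.subgroupOfEquivOfLe hPN).toEquiv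
  have hidx : ¬ p ∣ ((P : Subgroup G).subgroupOf N).index := by
    intro h
    apply P.not_dvd_index
    have h1 : ((P : Subgroup G).subgroupOf N).index = (P : Subgroup G).relIndex N := rfl
    rw [h1] at h
    exact h.trans (Subgroup.relIndex_dvd_index_of_le hPN)
  have hcop : Nat.Coprime (Nat.card ((P : Subgroup G).subgroupOf N))
      ((P : Subgroup G).subgroupOf N).index := by
    rw [hcard]
    obtain ⟨n, hn⟩ := P.isPGroup'.exists_card_eq
    rw [hn]
    apply Nat.Coprime.pow_left
    exact (Nat.Prime.coprime_iff_not_dvd Fact.out).2 hidx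
  obtain ⟨H, hH⟩ := Subgroup.exists_right_complement'_of_coprime hcop
  refine ⟨H.map N.subtype, ⟨hPN, Subgroup.map_subtype_le _, ?_, ?_⟩, ?_, ?_⟩
  · rw [eq_bot_iff]
    rintro x ⟨hxP, ⟨h, hh, rfl⟩⟩
    have h1 : h ∈ (P : Subgroup G).subgroupOf N ⊓ H := ⟨hxP, hh⟩
    rw [hH.disjoint.eq_bot, Subgroup.mem_bot] at h1
    rw [h1]; exact Subgroup.one_mem _
  · intro m hm
    obtain ⟨⟨a, b⟩, hab, -⟩ := (Subgroup.isComplement'_def.1 hH).existsUnique ⟨m, hm⟩
    refine ⟨(a : N), a.2, (b : N), ⟨b, b.2, rfl⟩, ?_⟩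
    have := congrArg Subtype.val hab
    simpa using this.symm
  · have h1 : Nat.card (H.map N.subtype) = Nat.card H :=
      (Nat.card_congr (H.equivMapOfInjective _ N.subtype_injective).toEquiv).symm
    rw [h1, ← hH.symm.index_eq_card]
    exact ((Nat.Prime.coprime_iff_not_dvd Fact.out).2 hidx).symm
  · have h1 : Nat.card (H.map N.subtype) = Nat.card H :=
      (Nat.card_congr (H.equivMapOfInjective _ N.subtype_injective).toEquiv).symm
    rw [h1]
    exact (Dvd.intro_left _ hH.card_mul_card).trans (Subgroup.card_subgroup_dvd_card N)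

/-- In a nonabelian group of order `p³` the derived subgroup is the centre (subgroup form). -/
theorem commutator_eq_inf_centralizer_of_card_cube [Finite G] {p : ℕ} [Fact p.Prime]
    (R : Subgroup G) (hcard : Nat.card R = p ^ 3) (hna : ¬ IsMulCommutative R) :
    ⁅R, R⁆ = R ⊓ Subgroup.centralizer (R : Set G) := by
  have hna' : ∃ a b : R, a * b ≠ b * a := by
    by_contra h
    push Not at h
    exact hna ⟨⟨h⟩⟩
  have h1 : commutator R = Subgroup.center R :=
    (Cfsg.Agent.Helper83.isExtraspecial_of_nonabelian_p3 hcard hna').1.2.2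
  have h2 : (commutator R).map R.subtype = ⁅R, R⁆ := by
    rw [commutator_def, Subgroup.map_commutator, ← MonoidHom.range_eq_map, Subgroup.range_subtype]
  rw [← h2, h1]
  ext x
  constructor
  · rintro ⟨z, hz, rfl⟩
    refine ⟨z.2, ?_⟩
    show (z : G) ∈ Subgroup.centralizer (R : Set G)
    rw [Subgroup.mem_centralizer_iff]
    intro r hr
    have := Subgroup.mem_center_iff.1 hz ⟨r, hr⟩
    exact congrArg Subtype.val this
  · rintro ⟨hxR, hxC⟩
    refine ⟨⟨x, hxR⟩, ?_, rfl⟩
    show (⟨x, hxR⟩ : R) ∈ Subgroup.center R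
    rw [Subgroup.mem_center_iff]
    intro r
    have hxC' : x ∈ Subgroup.centralizer (R : Set G) := hxC
    exact Subtype.ext (Subgroup.mem_centralizer_iff.1 hxC' r r.2)

end Cfsg.Agent.Helper30.BGFus
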