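import Mathlib
import Cfsg.Prelude.Def_OddOrderLocal
import Cfsg.Agent.S1410
import Cfsg.Agent.Lib.Helper30.BGFusB

set_option autoImplicit false

/-!
# Bender–Glauberman Lemma 10.6 consequences in a minimal simple group of odd order

Everything here rests on `Cfsg.Agent.S1410.result` (proper subgroups have `p`-length one).
-/

namespace Cfsg.Agent.Helper30.BGFus

open Cfsg
open scoped commutatorElement

variable {G : Type*} [Group G] [Finite G]

theorem commutator_eq_top_of_minSimple (hG : Cfsg.IsMinSimpleOddOrder G) : commutator G = ⊤ := by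
  obtain ⟨-, hsimp, hnc, -⟩ := hG
  haveI := hsimp
  have hn : (commutator G).Normal := inferInstance
  rcases hn.eq_bot_or_eq_top with h1 | h1
  · exfalso
    apply hnc
    refine ⟨⟨fun a b => ?_⟩⟩
    rw [← commutatorElement_eq_one_iff_mul_comm, ← Subgroup.mem_bot, ← h1, commutator_def]
    exact Subgroup.commutator_mem_commutator (Subgroup.mem_top a) (Subgroup.mem_top b)
  · exact h1

theorem normalizer_ne_top_of_minSimple (hG : Cfsg.IsMinSimpleOddOrder G) {p : ℕ} [Fact p.Prime]
    (P : Sylow p G) (R : Subgroup G) (hR : R ≤ (P : Subgroup G)) (hne : R ≠ ⊥) :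
    Subgroup.normalizer (R : Set G) ≠ ⊤ := by
  intro h
  have hn : R.Normal := Subgroup.normalizer_eq_top_iff.1 h
  obtain ⟨-, hsimp, hnc, -⟩ := hG
  haveI := hsimp
  rcases hn.eq_bot_or_eq_top with h1 | h1
  · exact hne h1
  · have hPtop : (P : Subgroup G) = ⊤ := top_le_iff.1 (h1 ▸ hR)
    have hpG : IsPGroup p G := by
      have h2 : IsPGroup p (⊤ : Subgroup G) := hPtop ▸ P.isPGroup'
      exact h2.of_equiv Subgroup.topEquiv
    have hnil : Group.IsNilpotent G := hpG.isNilpotent
    have hsol : Group.IsSolvable G := inferInstance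
    exact hnc ⟨⟨fun a b => IsSimpleGroup.comm_iff_isSolvable.2 hsol a b⟩⟩

/-- the local hypothesis of `Cfsg.Agent.Helper30.BGFus.controls_strong_fusion` holds in a minimal
simple group of odd order (by `S1410`). -/
theorem hloc_of_minSimple (hG : Cfsg.IsMinSimpleOddOrder G) {p : ℕ} [Fact p.Prime]
    (P : Sylow p G) :
    ∀ R : Subgroup G, R ≤ (P : Subgroup G) → R ≠ ⊥ →
      PLengthLE p 1 ↥(Subgroup.normalizer (R : Set G)) :=
  fun R hR hne => Cfsg.Agent.S1410.result hG p _ (normalizer_ne_top_of_minSimple hG P R hR hne)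

end Cfsg.Agent.Helper30.BGFus
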