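import Cfsg.Agent.Lib.Helper64.S4017Defs

/-!
# helper64 S4017M server (S4017): piece (C2) — `p`-elements that are eigenvectors commute
-/

set_option autoImplicit false

namespace Cfsg.Agent.Helper30.S4017M

open Cfsg.Agent.Helper64.S4017

variable {G : Type*} [Group G] [Finite G] {a p : ℕ} {Q : Subgroup G} {x : G}

/-- two elements of `Q` acting in the same way on the eigenvector `w`: their quotient fixes `w` -/
theorem h30_eig_quot {Q : Subgroup G} {w : G} (he : IsEig Q w) {s s' : G} (hs : s ∈ Q) (hs' : s' ∈ Q)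
    (hiff : s * w * s⁻¹ = w ↔ s' * w * s'⁻¹ = w) :
    (s * s'⁻¹) * w * (s * s'⁻¹)⁻¹ = w := by
  have key : s'⁻¹ * w * s' = s⁻¹ * w * s := by
    by_cases h1 : s * w * s⁻¹ = w
    · have h2 := hiff.mp h1
      have e1 : s⁻¹ * w * s = w := by
        calc s⁻¹ * w * s = s⁻¹ * (s * w * s⁻¹) * s := by rw [h1]
          _ = w := by group
      have e2 : s'⁻¹ * w * s' = w := by
        calc s'⁻¹ * w * s' = s'⁻¹ * (s' * w * s'⁻¹) * s' := by rw [h2]
          _ = w := by group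
      rw [e1, e2]
    · have h2 : ¬ s' * w * s'⁻¹ = w := fun h => h1 (hiff.mpr h)
      have h3 : s * w * s⁻¹ = w⁻¹ := (he s hs).resolve_left h1
      have h4 : s' * w * s'⁻¹ = w⁻¹ := (he s' hs').resolve_left h2
      have e1 : s⁻¹ * w * s = w⁻¹ := by
        have : w = s⁻¹ * w⁻¹ * s := by
          calc w = s⁻¹ * (s * w * s⁻¹) * s := by group
            _ = s⁻¹ * w⁻¹ * s := by rw [h3]
        calc s⁻¹ * w * s = (s⁻¹ * w⁻¹ * s)⁻¹ := by group
          _ = w⁻¹ := by rw [← this]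
      have e2 : s'⁻¹ * w * s' = w⁻¹ := by
        have : w = s'⁻¹ * w⁻¹ * s' := by
          calc w = s'⁻¹ * (s' * w * s'⁻¹) * s' := by group
            _ = s'⁻¹ * w⁻¹ * s' := by rw [h4]
        calc s'⁻¹ * w * s' = (s'⁻¹ * w⁻¹ * s')⁻¹ := by group
          _ = w⁻¹ := by rw [← this]
      rw [e1, e2]
  calc (s * s'⁻¹) * w * (s * s'⁻¹)⁻¹ = s * (s'⁻¹ * w * s') * s⁻¹ := by group
    _ = s * (s⁻¹ * w * s) * s⁻¹ := by rw [key]
    _ = w := by group

/-- (C2) `C_Q(w)` and `C_Q(w')` have index at most `2` in `Q`, so meet nontrivially as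
`|Q| ≥ 8`; then `w, w' ∈ Z_t` which is abelian. -/
theorem eig_comm (h : Setting a p Q x) (T : Tools a p Q x) (h3 : 3 ≤ a) {w w' : G}
    (hw : IsPel p w) (hw' : IsPel p w') (he : IsEig Q w) (he' : IsEig Q w') :
    w * w' = w' * w := by
  classical
  haveI : Fintype ↥Q := Fintype.ofFinite _
  let f : ↥Q → Bool × Bool := fun s =>
    (decide ((s : G) * w * (s : G)⁻¹ = w), decide ((s : G) * w' * (s : G)⁻¹ = w'))
  have hcard : Fintype.card (Bool × Bool) < Fintype.card ↥Q := by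
    rw [← Nat.card_eq_fintype_card (α := ↥Q), h.card_Q]
    have h8 : 2 ^ 3 ≤ 2 ^ a := Nat.pow_le_pow_right (by norm_num) h3
    simp only [Fintype.card_prod, Fintype.card_bool]
    omega
  obtain ⟨s, s', hne, hfs⟩ := Fintype.exists_ne_map_eq_of_card_lt f hcard
  have hf1 : ((s : G) * w * (s : G)⁻¹ = w ↔ (s' : G) * w * (s' : G)⁻¹ = w) := by
    have := congrArg Prod.fst hfs
    simpa [f] using this
  have hf2 : ((s : G) * w' * (s : G)⁻¹ = w' ↔ (s' : G) * w' * (s' : G)⁻¹ = w') := by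
    have := congrArg Prod.snd hfs
    simpa [f] using this
  set t : G := (s : G) * (s' : G)⁻¹ with ht
  have htQ : t ∈ Q := Q.mul_mem s.2 (Q.inv_mem s'.2)
  have ht1 : t ≠ 1 := by
    intro h1
    apply hne
    apply Subtype.ext
    exact mul_inv_eq_one.mp h1
  have hc1 : t * w * t⁻¹ = w := h30_eig_quot he s.2 s'.2 hf1
  have hc2 : t * w' * t⁻¹ = w' := h30_eig_quot he' s.2 s'.2 hf2
  have hwt : w * t = t * w := by
    calc w * t = (t * w * t⁻¹) * t := by rw [hc1]
      _ = t * w := by group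
  have hwt' : w' * t = t * w' := by
    calc w' * t = (t * w' * t⁻¹) * t := by rw [hc2]
      _ = t * w' := by group
  obtain ⟨Z, hZ, hZc⟩ := T.ct t htQ ht1
  exact hZc w ((hZ w).mpr ⟨hwt, hw⟩) w' ((hZ w').mpr ⟨hwt', hw'⟩)

end Cfsg.Agent.Helper30.S4017M
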