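import Cfsg.Agent.Lib.Helper64.S4017Defs
import Cfsg.Agent.Lib.Helper30.S4017C2
import Cfsg.Agent.Lib.Helper30.S4017SYLC
import Cfsg.Agent.Lib.Helper60.S4017PGN
import Cfsg.Agent.Lib.Helper90.S4017C1

/-!
# helper64 S4017M server (S4017): piece (C3) — the case `a ≥ 3`, `P₁ = 1`, `Z_t ≠ 1` is impossible
-/

set_option autoImplicit false

namespace Cfsg.Agent.Helper30.S4017M

open Cfsg.Agent.Helper64.S4017

variable {G : Type*} [Group G] [Finite G] {a p : ℕ} {Q : Subgroup G} {x : G}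

omit [Finite G] in
theorem h30_isPel_iff (hp : p.Prime) {z : G} : IsPel p z ↔ ∃ j : ℕ, z ^ p ^ j = 1 := by
  constructor
  · rintro ⟨j, hj⟩
    exact ⟨j, by rw [← hj]; exact pow_orderOf_eq_one z⟩
  · rintro ⟨j, hj⟩
    obtain ⟨k, -, hk⟩ := (Nat.dvd_prime_pow hp).mp (orderOf_dvd_of_pow_eq_one hj)
    exact ⟨k, hk⟩

omit [Finite G] in
theorem h30_isPel_conj {z : G} (g : G) (hz : IsPel p z) : IsPel p (g * z * g⁻¹) := by
  obtain ⟨j, hj⟩ := hz
  refine ⟨j, ?_⟩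
  rw [← hj]
  have := MulEquiv.orderOf_eq (MulAut.conj g) z
  rwa [MulAut.conj_apply] at this

omit [Finite G] in
/-- an elementary abelian `2`-group is abelian -/
theorem h30_comm_of_sq {Q : Subgroup G} (hQ2 : ∀ s ∈ Q, s * s = 1) :
    ∀ s ∈ Q, ∀ s' ∈ Q, s * s' = s' * s := by
  intro s hs s' hs'
  have h1 : (s * s') * (s * s') = 1 := hQ2 _ (Q.mul_mem hs hs')
  have hsi : s⁻¹ = s := inv_eq_of_mul_eq_one_left (hQ2 s hs)
  have hsi' : s'⁻¹ = s' := inv_eq_of_mul_eq_one_left (hQ2 s' hs')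
  calc s * s' = ((s * s')⁻¹ * ((s * s') * (s * s'))) := by group
    _ = (s * s')⁻¹ := by rw [h1, mul_one]
    _ = s'⁻¹ * s⁻¹ := mul_inv_rev s s'
    _ = s' * s := by rw [hsi, hsi']

omit [Finite G] in
/-- conjugates of eigenvectors by elements `g` with `g⁻¹ Q g ≤ Q` are eigenvectors -/
theorem h30_isEig_conj {Q : Subgroup G} {w : G} (he : IsEig Q w) (g : G)
    (hg : ∀ s ∈ Q, g⁻¹ * s * g ∈ Q) : IsEig Q (g * w * g⁻¹) := by
  intro s hs
  have h0 := he (g⁻¹ * s * g) (hg s hs)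
  have key : s * (g * w * g⁻¹) * s⁻¹ = g * ((g⁻¹ * s * g) * w * (g⁻¹ * s * g)⁻¹) * g⁻¹ := by group
  rcases h0 with h1 | h1
  · left
    rw [key, h1]
  · right
    rw [key, h1]
    group

/-- (C3) `E = ⟨p-elements that are eigenvectors⟩` is abelian (C2), a `p`-group, normalised by `Q`
and `x`, so centralises `Q` (PGN), so is trivial; but `Z_t ≤ E` by (C1). -/
theorem false_of_three_le (h : Setting a p Q x) (T : Tools a p Q x) (h3 : 3 ≤ a)
    (hP1 : ¬ P1ne p Q)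
    (hZ : ∃ t ∈ Q, t ≠ 1 ∧ ∃ z : G, z ≠ 1 ∧ IsPel p z ∧ z * t = t * z) : False := by
  obtain ⟨t, htQ, ht1, z, hz1, hzp, hzt⟩ := hZ
  obtain ⟨Z, hZmem, hZc⟩ := T.ct t htQ ht1
  have hp := h.prime
  have hpodd := h30_p_odd h
  have hQc := h30_comm_of_sq h.elem
  have hzZ : z ∈ Z := (hZmem z).mpr ⟨hzt, hzp⟩
  haveI : Finite ↥Q := inferInstance
  set S : Set G := {w | IsPel p w ∧ IsEig Q w} with hS
  set E := Subgroup.closure S with hE
  -- `Z ≤ E`
  have hZE : Z ≤ E := by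
    have hnorm : ∀ s ∈ Q, ∀ z ∈ Z, s * z * s⁻¹ ∈ Z := by
      intro s hs z' hz'
      obtain ⟨hz't, hz'p⟩ := (hZmem z').mp hz'
      refine (hZmem _).mpr ⟨?_, h30_isPel_conj s hz'p⟩
      have hst : s * t = t * s := hQc s hs t htQ
      have hst' : s⁻¹ * t = t * s⁻¹ := by
        calc s⁻¹ * t = s⁻¹ * (t * s) * s⁻¹ := by group
          _ = s⁻¹ * (s * t) * s⁻¹ := by rw [hst]
          _ = t * s⁻¹ := by group
      calc s * z' * s⁻¹ * t = s * z' * (s⁻¹ * t) := by group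
        _ = s * z' * (t * s⁻¹) := by rw [hst']
        _ = s * (z' * t) * s⁻¹ := by group
        _ = s * (t * z') * s⁻¹ := by rw [hz't]
        _ = (s * t) * z' * s⁻¹ := by group
        _ = (t * s) * z' * s⁻¹ := by rw [hst]
        _ = t * (s * z' * s⁻¹) := by group
    have hodd : ∀ z ∈ Z, Odd (orderOf z) := by
      intro z' hz'
      obtain ⟨j, hj⟩ := ((hZmem z').mp hz').2
      rw [hj]
      exact Odd.pow (Nat.odd_iff.mpr hpodd)
    have h1 := Cfsg.Agent.Helper90.S4017M.eigen_generate Z Q hZc hQc h.elem hnorm hodd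
    refine h1.trans (Subgroup.closure_mono ?_)
    rintro w ⟨hwZ, hwe⟩
    exact ⟨((hZmem w).mp hwZ).2, hwe⟩
  -- `E` is abelian
  have hScomm : ∀ w ∈ S, ∀ w' ∈ S, w * w' = w' * w :=
    fun w hw w' hw' => eig_comm h T h3 hw.1 hw'.1 hw.2 hw'.2
  have hEcomm : ∀ e ∈ E, ∀ e' ∈ E, e * e' = e' * e := by
    intro e he e' he'
    letI := Subgroup.closureCommGroupOfComm hScomm
    have := mul_comm (⟨e, he⟩ : ↥(Subgroup.closure S)) ⟨e', he'⟩
    exact congrArg Subtype.val this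
  -- the elements of `E` are `p`-elements
  have hEpel : ∀ e ∈ E, IsPel p e := by
    intro e he
    rw [h30_isPel_iff hp]
    induction he using Subgroup.closure_induction with
    | mem w hw => exact (h30_isPel_iff hp).mp hw.1
    | one => exact ⟨0, one_pow _⟩
    | mul e₁ e₂ he₁ he₂ ih₁ ih₂ =>
      obtain ⟨i, hi⟩ := ih₁
      obtain ⟨j, hj⟩ := ih₂
      refine ⟨i + j, ?_⟩
      have hc : Commute e₁ e₂ := hEcomm e₁ he₁ e₂ he₂
      rw [hc.mul_pow, pow_add, pow_mul, hi, one_pow, mul_comm (p ^ i), pow_mul, hj, one_pow, mul_one]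
    | inv e₁ he₁ ih₁ =>
      obtain ⟨i, hi⟩ := ih₁
      exact ⟨i, by rw [inv_pow, hi, inv_one]⟩
  -- `x⁻¹` normalises `Q`
  have hxinv : ∀ s ∈ Q, x⁻¹ * s * x ∈ Q := by
    intro s hs
    let f : ↥Q → ↥Q := fun s => ⟨x * s * x⁻¹, h.x_norm s s.2⟩
    have hinj : Function.Injective f := by
      intro s₁ s₂ h12
      have h12' : x * (s₁ : G) * x⁻¹ = x * (s₂ : G) * x⁻¹ := congrArg Subtype.val h12
      apply Subtype.ext
      exact mul_left_cancel (mul_right_cancel h12')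
    obtain ⟨s₀, hs₀⟩ := Finite.surjective_of_injective hinj ⟨s, hs⟩
    have h2 : x * (s₀ : G) * x⁻¹ = s := congrArg Subtype.val hs₀
    have : x⁻¹ * s * x = s₀ := by
      rw [← h2]
      group
    rw [this]
    exact s₀.2
  -- `E` is normalised by `Q` and `x`
  have hnormE : ∀ g : G, (∀ s ∈ Q, g⁻¹ * s * g ∈ Q) → ∀ e ∈ E, g * e * g⁻¹ ∈ E := by
    intro g hg e he
    have hle : E ≤ E.comap (MulAut.conj g).toMonoidHom := by
      rw [hE, Subgroup.closure_le]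
      intro w hw
      show (MulAut.conj g) w ∈ Subgroup.closure S
      rw [MulAut.conj_apply]
      exact Subgroup.subset_closure ⟨h30_isPel_conj g hw.1, h30_isEig_conj hw.2 g hg⟩
    have := hle he
    rw [Subgroup.mem_comap] at this
    simpa [MulAut.conj_apply] using this
  have hQE : ∀ s ∈ Q, ∀ e ∈ E, s * e * s⁻¹ ∈ E := by
    intro s hs e he
    refine hnormE s (fun s' hs' => ?_) e he
    exact Q.mul_mem (Q.mul_mem (Q.inv_mem hs) hs') hs
  have hxE : ∀ e ∈ E, x * e * x⁻¹ ∈ E := fun e he => hnormE x hxinv e he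
  have hcent := Cfsg.Agent.Helper60.S4017M.Setting.pgroup_normalized h T E hEpel hQE hxE
  have hz_E : z ∈ E := hZE hzZ
  exact hP1 ⟨z, hz1, hzp, fun s hs => hcent z hz_E s hs⟩

end Cfsg.Agent.Helper30.S4017M
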