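import Mathlib

set_option autoImplicit false

/-! O2520 / S3C sub-server (helper20, S0984), piece (Q7b): the final count. Mathlib only. -/

namespace Cfsg.Agent.Helper30.O2520

universe u

/-- conjugate elements have the same order -/
theorem h30_orderOf_of_isConj {G : Type u} [Group G] {a b : G} (h : IsConj a b) :
    orderOf a = orderOf b := by
  obtain ⟨c, hc⟩ := isConj_iff.mp h
  rw [← hc]
  exact ((MulAut.conj c).orderOf_eq a).symm

/-- `g⁴` conjugate to an element of order 3 forces `3 ∣ orderOf g` -/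
theorem h30_three_dvd {G : Type u} [Group G] (z : G) (hz : orderOf z = 3) (g : G)
    (hg : IsConj (g ^ 4) z) : 3 ∣ orderOf g := by
  have h1 : orderOf (g ^ 4) = 3 := by rw [h30_orderOf_of_isConj hg, hz]
  rw [← h1]
  exact orderOf_pow_dvd 4

/-- (Q7b) -/
theorem s3c_final_count {G : Type u} [Group G] [Finite G] (hG : Nat.card G = 2520)
    (c7 : Nat.card {g : G // orderOf g = 7} = 720) (c5 : Nat.card {g : G // orderOf g = 5} = 504)
    (x x' y : G) (hx : orderOf x = 3) (hx' : orderOf x' = 3) (hy : orderOf y = 3)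
    (h1 : ¬ IsConj x x') (h2 : ¬ IsConj x y) (h3 : ¬ IsConj x' y)
    (hA : 560 ≤ Nat.card {g : G // IsConj (g ^ 4) x})
    (hA' : 560 ≤ Nat.card {g : G // IsConj (g ^ 4) x'})
    (hAy : 280 ≤ Nat.card {g : G // IsConj (g ^ 4) y}) : False := by
  classical
  haveI : Fintype G := Fintype.ofFinite G
  have hcard : (Finset.univ : Finset G).card = 2520 := by
    rw [Finset.card_univ, ← Nat.card_eq_fintype_card]; exact hG
  have conv : ∀ (p : G → Prop) [DecidablePred p],
      Nat.card {g : G // p g} = (Finset.univ.filter p).card := by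
    intro p _
    rw [Nat.card_eq_fintype_card, Fintype.card_subtype]
  rw [conv] at c7 c5 hA hA' hAy
  set S7 : Finset G := Finset.univ.filter (fun g : G => orderOf g = 7) with hS7
  set S5 : Finset G := Finset.univ.filter (fun g : G => orderOf g = 5) with hS5
  set Ax : Finset G := Finset.univ.filter (fun g : G => IsConj (g ^ 4) x) with hAx
  set Ax' : Finset G := Finset.univ.filter (fun g : G => IsConj (g ^ 4) x') with hAx'
  set Ay : Finset G := Finset.univ.filter (fun g : G => IsConj (g ^ 4) y) with hAyd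
  have m7 : ∀ g, g ∈ S7 ↔ orderOf g = 7 := fun g => by simp [hS7]
  have m5 : ∀ g, g ∈ S5 ↔ orderOf g = 5 := fun g => by simp [hS5]
  have mx : ∀ g, g ∈ Ax ↔ IsConj (g ^ 4) x := fun g => by simp [hAx]
  have mx' : ∀ g, g ∈ Ax' ↔ IsConj (g ^ 4) x' := fun g => by simp [hAx']
  have my : ∀ g, g ∈ Ay ↔ IsConj (g ^ 4) y := fun g => by simp [hAyd]
  -- disjointness
  have d1 : Disjoint Ax' Ay := by
    rw [Finset.disjoint_left]
    intro g hg1 hg2
    exact h3 (((mx' g).mp hg1).symm.trans ((my g).mp hg2))
  have d2 : Disjoint Ax (Ax' ∪ Ay) := by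
    rw [Finset.disjoint_left]
    intro g hg1 hg2
    rcases Finset.mem_union.mp hg2 with hg2 | hg2
    · exact h1 (((mx g).mp hg1).symm.trans ((mx' g).mp hg2))
    · exact h2 (((mx g).mp hg1).symm.trans ((my g).mp hg2))
  have h3A : ∀ g, g ∈ Ax ∪ (Ax' ∪ Ay) → 3 ∣ orderOf g := by
    intro g hg
    rcases Finset.mem_union.mp hg with hg | hg
    · exact h30_three_dvd x hx g ((mx g).mp hg)
    · rcases Finset.mem_union.mp hg with hg | hg
      · exact h30_three_dvd x' hx' g ((mx' g).mp hg)
      · exact h30_three_dvd y hy g ((my g).mp hg)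
  have d3 : Disjoint S5 (Ax ∪ (Ax' ∪ Ay)) := by
    rw [Finset.disjoint_left]
    intro g hg1 hg2
    have := h3A g hg2
    rw [(m5 g).mp hg1] at this
    omega
  have d4 : Disjoint S7 (S5 ∪ (Ax ∪ (Ax' ∪ Ay))) := by
    rw [Finset.disjoint_left]
    intro g hg1 hg2
    rcases Finset.mem_union.mp hg2 with hg2 | hg2
    · have e7 := (m7 g).mp hg1
      have e5 := (m5 g).mp hg2
      omega
    · have := h3A g hg2
      rw [(m7 g).mp hg1] at this
      omega
  have d5 : Disjoint ({1} : Finset G) (S7 ∪ (S5 ∪ (Ax ∪ (Ax' ∪ Ay)))) := by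
    rw [Finset.disjoint_left]
    intro g hg1 hg2
    have hg : g = 1 := Finset.mem_singleton.mp hg1
    subst hg
    rcases Finset.mem_union.mp hg2 with hg2 | hg2
    · have e7 := (m7 1).mp hg2
      rw [orderOf_one] at e7
      omega
    · rcases Finset.mem_union.mp hg2 with hg2 | hg2
      · have e5 := (m5 1).mp hg2
        rw [orderOf_one] at e5
        omega
      · have := h3A 1 hg2
        rw [orderOf_one] at this
        omega
  have key : (({1} : Finset G) ∪ (S7 ∪ (S5 ∪ (Ax ∪ (Ax' ∪ Ay))))).card ≤ (Finset.univ : Finset G).card :=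
    Finset.card_le_card (Finset.subset_univ _)
  rw [Finset.card_union_of_disjoint d5, Finset.card_union_of_disjoint d4,
    Finset.card_union_of_disjoint d3, Finset.card_union_of_disjoint d2,
    Finset.card_union_of_disjoint d1, Finset.card_singleton, hcard, c7, c5] at key
  omega

end Cfsg.Agent.Helper30.O2520
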