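import Mathlib
import Cfsg.Agent.Lib.Helper30.Cores
import Cfsg.Agent.Lib.Helper46.SylowLemmas
import Cfsg.Agent.Lib.Helper21.Components

set_option autoImplicit false

/-!
# Sylow subgroups of subnormal subgroups, noncentral `p`-elements of components (helper30)

* `not_dvd_card_of_perfect_of_sylow_le_center` : a finite perfect group with a central Sylow
  `p`-subgroup has order prime to `p` (Burnside transfer).
* `sylow_not_dvd_relIndex_of_subnormal` : `T ∩ H` is a Sylow `p`-subgroup of a subnormal `H`.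
* `exists_mem_sylow_not_mem_centralizer_component` : if `O_{p'}(G) = 1`, every Sylow `p`-subgroup
  meets every component `L` outside `Z(L)`.
* `exists_fixed_mod` : a `p`-group `P` normalizing a `p`-group `V > U` has a fixed point on
  `V` modulo `U` outside `U`.
* `mem_centralizer_of_mul_mem_pprime`.
-/

namespace Cfsg.Agent.Helper30

open Subgroup Cfsg
open scoped commutatorElement

/-- A finite perfect group with a central Sylow `p`-subgroup has order prime to `p`. -/
theorem not_dvd_card_of_perfect_of_sylow_le_center {H : Type*} [Group H] [Finite H] {p : ℕ}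
    [Fact p.Prime] [hperf : Group.IsPerfect H] (S : Sylow p H)
    (hS : (S : Subgroup H) ≤ center H) : ¬ p ∣ Nat.card H := by
  have hcen : centralizer ((S : Subgroup H) : Set H) = ⊤ :=
    Subgroup.centralizer_eq_top_iff_subset.mpr hS
  have hN : normalizer ((S : Subgroup H) : Set H) ≤ centralizer ((S : Subgroup H) : Set H) := by
    rw [hcen]; exact le_top
  have hcomm : IsMulCommutative ↥(S : Subgroup H) :=
    ⟨⟨fun a b => Subtype.ext (Subgroup.mem_center_iff.mp (hS a.2) b).symm⟩⟩
  have hker : (MonoidHom.transferSylow S hN).ker = ⊤ := by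
    have hr : Group.IsPerfect ↥(MonoidHom.transferSylow S hN).range := Group.IsPerfect.range _
    have hc : IsMulCommutative ↥(MonoidHom.transferSylow S hN).range :=
      ⟨⟨fun a b => Subtype.ext (hcomm.is_comm.comm (a : ↥(S : Subgroup H)) b)⟩⟩
    have hsub : Subsingleton ↥(MonoidHom.transferSylow S hN).range :=
      Group.IsPerfect.subsingleton_of_isMulCommutative
    rw [eq_top_iff]
    intro x _
    rw [MonoidHom.mem_ker]
    have h1 : (⟨MonoidHom.transferSylow S hN x, x, rfl⟩ : ↥(MonoidHom.transferSylow S hN).range)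
        = 1 := Subsingleton.elim _ _
    exact congrArg Subtype.val h1
  have h := MonoidHom.not_dvd_card_ker_transferSylow S hN
  rw [hker, Subgroup.card_top] at h
  exact h

/-- For `H` subnormal in the finite group `G` and `T` a Sylow `p`-subgroup of `G`, the index of
`T ∩ H` in `H` is prime to `p`. -/
theorem sylow_not_dvd_relIndex_of_subnormal {G : Type*} [Group G] [Finite G] {p : ℕ}
    [Fact p.Prime] (T : Sylow p G) {H : Subgroup G} (hH : H.IsSubnormal) :
    ¬ p ∣ (T : Subgroup G).relIndex H := by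
  induction hH with
  | top => rw [Subgroup.relIndex_top_right]; exact T.not_dvd_index
  | step H K hHK hK hN ih =>
    have hp : IsPGroup p ((T : Subgroup G).subgroupOf K) := T.isPGroup'.comap_subtype
    have hidx : ¬ p ∣ ((T : Subgroup G).subgroupOf K).index := ih
    have := hN
    have h1 := Helper46.not_dvd_relIndex_normal (hp.toSylow hidx) (H.subgroupOf K)
    rw [IsPGroup.toSylow_coe, Subgroup.relIndex_subgroupOf hHK] at h1
    exact h1

/-- If `O_{p'}(G) = 1`, every Sylow `p`-subgroup contains a noncentral element of every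
component. -/
theorem exists_mem_sylow_not_mem_centralizer_component {G : Type*} [Group G] [Finite G] {p : ℕ}
    [Fact p.Prime] (hO : pPrimeCore p G = ⊥) (T : Sylow p G) {L : Subgroup G}
    (hL : IsComponent L) : ∃ s ∈ (T : Subgroup G), s ∈ L ∧ s ∉ centralizer (L : Set G) := by
  by_contra hcon
  push Not at hcon
  have hp : IsPGroup p ((T : Subgroup G).subgroupOf L) := T.isPGroup'.comap_subtype
  have hidx : ¬ p ∣ ((T : Subgroup G).subgroupOf L).index :=
    sylow_not_dvd_relIndex_of_subnormal T hL.1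
  have hperf : Group.IsPerfect ↥L := hL.2.1
  have hcen : ((hp.toSylow hidx : Sylow p ↥L) : Subgroup ↥L) ≤ center ↥L := by
    rw [IsPGroup.toSylow_coe]
    intro s hs
    rw [Subgroup.mem_center_iff]
    intro l
    have h1 := hcon (s : G) (Subgroup.mem_subgroupOf.mp hs) s.2
    exact Subtype.ext ((Subgroup.mem_centralizer_iff.mp h1) (l : G) l.2)
  have hnd := not_dvd_card_of_perfect_of_sylow_le_center (hp.toSylow hidx) hcen
  have hco : (Nat.card ↥L).Coprime p :=
    ((Nat.Prime.coprime_iff_not_dvd (Fact.out : p.Prime)).mpr hnd).symm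
  have hle := subnormal_le_pPrimeCore p hL.1 hco
  rw [hO, le_bot_iff] at hle
  have hnt := Helper21.quasisimple_nontrivial hL.2
  rw [hle] at hnt
  exact not_subsingleton _ (inferInstance : Subsingleton (⊥ : Subgroup G))

/-- A `p`-group `P` normalizing a `p`-group `V`, and `U` a subgroup not containing `V`: there is
`d ∈ V`, `d ∉ U`, all of whose commutators with `P` lie in `U`. -/
theorem exists_fixed_mod {G : Type*} [Group G] [Finite G] {p : ℕ} [Fact p.Prime]
    (V U P : Subgroup G) (hV : IsPGroup p V) (hP : IsPGroup p P)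
    (hPV : P ≤ normalizer (V : Set G)) (hUV : ¬ V ≤ U) :
    ∃ d ∈ V, d ∉ U ∧ ∀ t ∈ P, t * d * t⁻¹ * d⁻¹ ∈ U := by
  have hΓ : IsPGroup p (V ⊔ P : Subgroup G) := by
    rw [sup_comm]; exact IsPGroup.to_sup_of_normal_right' hP hV hPV
  have hnil : Group.IsNilpotent (V ⊔ P : Subgroup G) := hΓ.isNilpotent
  obtain ⟨n, hn⟩ := (Subgroup.isNilpotent_iff_lowerCentralSeries (V ⊔ P)).mp hnil
  have hex : ∃ j, V ⊓ (V ⊔ P).lowerCentralSeries j ≤ U := ⟨n, by rw [hn, inf_bot_eq]; exact bot_le⟩
  classical
  have hj0 : Nat.find hex ≠ 0 := by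
    intro h0
    have h1 := Nat.find_spec hex
    rw [h0, Subgroup.lowerCentralSeries_zero, inf_eq_left.mpr le_sup_left] at h1
    exact hUV h1
  obtain ⟨i, hi⟩ := Nat.exists_eq_succ_of_ne_zero hj0
  have hi1 : V ⊓ (V ⊔ P).lowerCentralSeries (i + 1) ≤ U := by
    have := Nat.find_spec hex
    rwa [hi] at this
  have hi0 : ¬ V ⊓ (V ⊔ P).lowerCentralSeries i ≤ U := by
    apply Nat.find_min hex
    rw [hi]; exact Nat.lt_succ_self i
  obtain ⟨d, hd, hdU⟩ := SetLike.not_le_iff_exists.mp hi0
  refine ⟨d, (Subgroup.mem_inf.mp hd).1, hdU, ?_⟩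
  intro t ht
  apply hi1
  refine Subgroup.mem_inf.mpr ⟨?_, ?_⟩
  · have hdV := (Subgroup.mem_inf.mp hd).1
    have h1 : t * d * t⁻¹ ∈ V := (Subgroup.mem_normalizer_iff.mp (hPV ht) d).mp hdV
    exact V.mul_mem h1 (V.inv_mem hdV)
  · rw [Subgroup.lowerCentralSeries_succ, Subgroup.commutator_comm]
    have h2 : t * d * t⁻¹ * d⁻¹ = ⁅t, d⁆ := rfl
    rw [h2]
    exact Subgroup.commutator_mem_commutator (le_sup_right (a := V) ht) (Subgroup.mem_inf.mp hd).2

/-- If `a` centralizes `M`, `b ∈ M` is a `p`-element and `a * b` lies in a subgroup of order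
prime to `p`, then `b` centralizes `M`. -/
theorem mem_centralizer_of_mul_mem_pprime {G : Type*} [Group G] [Finite G] {p : ℕ}
    (M W : Subgroup G) (hW : (Nat.card W).Coprime p) (a b : G)
    (ha : a ∈ centralizer (M : Set G)) (hb : b ∈ M) (j : ℕ) (hbj : b ^ p ^ j = 1)
    (hab : a * b ∈ W) : b ∈ centralizer (M : Set G) := by
  have hcomm : Commute a b := ((Subgroup.mem_centralizer_iff.mp ha) b hb).symm
  have h1 : (a * b) ^ Nat.card W = 1 := by
    have h3 : (⟨a * b, hab⟩ : W) ^ Nat.card W = 1 := pow_card_eq_one'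
    have h4 := congrArg (fun x : W => (x : G)) h3
    simpa only [Subgroup.coe_pow, Subgroup.coe_one] using h4
  rw [hcomm.mul_pow] at h1
  have h2 : b ^ Nat.card W = (a ^ Nat.card W)⁻¹ := (eq_inv_of_mul_eq_one_right h1)
  have h3 : b ^ Nat.card W ∈ centralizer (M : Set G) := by
    rw [h2]; exact Subgroup.inv_mem _ (Subgroup.pow_mem _ ha _)
  have hcop : Nat.Coprime (Nat.card W) (p ^ j) := Nat.Coprime.pow_right j hW
  have hb1 : b ^ (Nat.card W * Nat.gcdA (Nat.card W) (p ^ j) : ℤ) = b := by
    have hbez := Nat.gcd_eq_gcd_ab (Nat.card W) (p ^ j)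
    rw [hcop] at hbez
    have : (Nat.card W : ℤ) * Nat.gcdA (Nat.card W) (p ^ j) =
        1 - ((p ^ j : ℕ) : ℤ) * Nat.gcdB (Nat.card W) (p ^ j) := by
      have : ((1 : ℕ) : ℤ) = 1 := rfl
      linarith
    rw [this, zpow_sub, zpow_one, zpow_mul, zpow_natCast, hbj, one_zpow, inv_one, mul_one]
  rw [← hb1, zpow_mul, zpow_natCast]
  exact Subgroup.zpow_mem _ h3 _

end Cfsg.Agent.Helper30
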