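import Mathlib
import Cfsg.Agent.Lib.Helper30.SylowSub
import Cfsg.Agent.Lib.Helper30.FStarLocal
import Cfsg.Agent.Lib.Helper22.Components
import Cfsg.Agent.Lib.Helper29.Fitting

set_option autoImplicit false

/-!
# Orbits of a `p`-group on the components, and `p'`-elements normalizing all components (helper30)

Main result `conj_component_eq_of_pprime` (Lemma D): if `O_{p'}(G) = 1`, `k` is a `p'`-element
centralizing the `p`-subgroup `P` and `O_p(G)`, and `[e, k]` lies in a fixed `p'`-subgroup `W` for
all `e ∈ C_{E(G)}(P)`, then `k` normalizes every component of `G`.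
-/

namespace Cfsg.Agent.Helper30

open Subgroup Cfsg

variable {G : Type*} [Group G]

/-- conjugate of a subgroup -/
abbrev cj (g : G) (L : Subgroup G) : Subgroup G := L.map (MulAut.conj g).toMonoidHom

theorem mem_cj_iff {A : Subgroup G} {g x : G} : x ∈ cj g A ↔ g⁻¹ * x * g ∈ A := by
  constructor
  · rintro ⟨a, ha, rfl⟩
    simpa [MulAut.conj_apply, mul_assoc] using ha
  · intro h
    exact ⟨g⁻¹ * x * g, h, by simp [MulAut.conj_apply, mul_assoc]⟩

theorem conj_mem_cj_of_mem {A : Subgroup G} {g a : G} (ha : a ∈ A) : g * a * g⁻¹ ∈ cj g A := by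
  rw [mem_cj_iff]
  have : g⁻¹ * (g * a * g⁻¹) * g = a := by group
  rw [this]; exact ha

theorem cj_cj (A : Subgroup G) (g k : G) : cj g (cj k A) = cj (g * k) A := by
  ext x
  rw [mem_cj_iff, mem_cj_iff, mem_cj_iff]
  have : k⁻¹ * (g⁻¹ * x * g) * k = (g * k)⁻¹ * x * (g * k) := by group
  rw [this]

theorem cj_one (A : Subgroup G) : cj (1 : G) A = A := by
  ext x
  rw [mem_cj_iff]
  simp

theorem cj_injective (g : G) : Function.Injective (cj g : Subgroup G → Subgroup G) :=
  Subgroup.map_injective (MulAut.conj g).injective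

theorem cj_eq_self_iff (A : Subgroup G) (g : G) : cj g A = A ↔ g ∈ normalizer (A : Set G) := by
  rw [Subgroup.mem_normalizer_iff_map_conj_eq]
  rfl

theorem cj_mono (g : G) {A B : Subgroup G} (h : A ≤ B) : cj g A ≤ cj g B := Subgroup.map_mono h

theorem cj_centralizer_le (g : G) (A : Subgroup G) :
    cj g (centralizer (A : Set G)) ≤ centralizer ((cj g A : Subgroup G) : Set G) := by
  intro x hx
  rw [mem_cj_iff] at hx
  rw [Subgroup.mem_centralizer_iff]
  intro y hy
  have hy' : g⁻¹ * y * g ∈ A := mem_cj_iff.mp hy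
  have h1 := (Subgroup.mem_centralizer_iff.mp hx) _ hy'
  have e1 : y * x = g * ((g⁻¹ * y * g) * (g⁻¹ * x * g)) * g⁻¹ := by group
  have e2 : x * y = g * ((g⁻¹ * x * g) * (g⁻¹ * y * g)) * g⁻¹ := by group
  rw [e1, e2, h1]

/-- The subgroup generated by the `P`-orbit of `L`. -/
def orbitBlock (P L : Subgroup G) : Subgroup G := ⨆ t : ↥P, cj (t : G) L

theorem le_orbitBlock (P L : Subgroup G) : L ≤ orbitBlock P L := by
  have h := le_iSup (fun t : ↥P => cj (t : G) L) 1
  have e : cj ((1 : ↥P) : G) L = L := by rw [Subgroup.coe_one]; exact cj_one L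
  rw [e] at h
  exact h

theorem cj_le_orbitBlock (P L : Subgroup G) {t : G} (ht : t ∈ P) : cj t L ≤ orbitBlock P L :=
  le_iSup (fun t : ↥P => cj (t : G) L) ⟨t, ht⟩

theorem cj_orbitBlock_le (P L : Subgroup G) {t : G} (ht : t ∈ P) :
    cj t (orbitBlock P L) ≤ orbitBlock P L := by
  unfold orbitBlock cj
  rw [Subgroup.map_iSup]
  apply iSup_le
  intro s
  have := cj_cj L t (s : G)
  unfold cj at this
  rw [this]
  exact cj_le_orbitBlock P L (P.mul_mem ht s.2)

theorem le_normalizer_orbitBlock (P L : Subgroup G) :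
    P ≤ normalizer ((orbitBlock P L : Subgroup G) : Set G) := by
  intro t ht
  rw [← cj_eq_self_iff]
  apply le_antisymm (cj_orbitBlock_le P L ht)
  have h1 := cj_mono t (cj_orbitBlock_le P L (P.inv_mem ht))
  rw [cj_cj, mul_inv_cancel, cj_one] at h1
  exact h1

/-- conjugating the block by an element commuting with `P` -/
theorem cj_orbitBlock_of_commute (P L : Subgroup G) (g : G)
    (hg : ∀ t ∈ P, g * t = t * g) : cj g (orbitBlock P L) = orbitBlock P (cj g L) := by
  unfold orbitBlock
  show (⨆ t : ↥P, cj (t : G) L).map (MulAut.conj g).toMonoidHom = _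
  rw [Subgroup.map_iSup]
  congr 1
  funext t
  show cj g (cj (t : G) L) = cj (t : G) (cj g L)
  rw [cj_cj, cj_cj, hg t t.2]

theorem le_centralizer_orbitBlock (P L X : Subgroup G)
    (h : ∀ t ∈ P, X ≤ centralizer ((cj t L : Subgroup G) : Set G)) :
    X ≤ centralizer ((orbitBlock P L : Subgroup G) : Set G) := by
  rw [Subgroup.le_centralizer_iff]
  unfold orbitBlock
  apply iSup_le
  intro t
  rw [← Subgroup.le_centralizer_iff]
  exact h t t.2

theorem orbitBlock_le_layer (P L : Subgroup G) (hL : IsComponent L) :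
    orbitBlock P L ≤ layer G := by
  unfold orbitBlock
  apply iSup_le
  intro t
  exact le_sSup (Helper22.IsComponent.conj hL _)

/-- If `L'` is a component outside the `P`-orbit of the component `L`, the blocks commute. -/
theorem orbitBlock_le_centralizer_orbitBlock (P L L' : Subgroup G) (hL : IsComponent L)
    (hL' : IsComponent L') (hne : ∀ t ∈ P, L' ≠ cj t L) :
    orbitBlock P L' ≤ centralizer ((orbitBlock P L : Subgroup G) : Set G) := by
  unfold orbitBlock
  apply iSup_le
  intro s
  apply le_centralizer_orbitBlock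
  intro t ht
  rw [← Subgroup.commutator_eq_bot_iff_le_centralizer]
  apply Helper22.component_commute (Helper22.IsComponent.conj hL' _) (Helper22.IsComponent.conj hL _)
  intro heq
  apply hne ((s : G)⁻¹ * t) (P.mul_mem (P.inv_mem s.2) ht)
  have h1 : cj ((s : G)⁻¹) (cj (s : G) L') = cj ((s : G)⁻¹) (cj t L) := by
    show cj ((s : G)⁻¹) (cj (s : G) L') = cj ((s : G)⁻¹) (cj t L)
    exact congrArg (cj ((s : G)⁻¹)) heq
  rw [cj_cj, cj_cj, inv_mul_cancel, cj_one] at h1
  exact h1

/-- `Z(M) ≤ C(E(G))` for a block `M`. -/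
theorem orbitBlock_inf_centralizer_le (P L : Subgroup G) (hL : IsComponent L) :
    orbitBlock P L ⊓ centralizer ((orbitBlock P L : Subgroup G) : Set G) ≤
      centralizer ((layer G : Subgroup G) : Set G) := by
  intro z hz
  obtain ⟨hzM, hzC⟩ := Subgroup.mem_inf.mp hz
  have key : layer G ≤ centralizer ((zpowers z : Subgroup G) : Set G) := by
    apply sSup_le
    intro L' hL'
    by_cases hex : ∃ t ∈ P, L' = cj t L
    · obtain ⟨t, ht, rfl⟩ := hex
      rw [Subgroup.le_centralizer_iff, Subgroup.zpowers_le]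
      exact Subgroup.centralizer_le (cj_le_orbitBlock P L ht) hzC
    · push Not at hex
      have h1 : L' ≤ centralizer ((orbitBlock P L : Subgroup G) : Set G) :=
        (le_orbitBlock P L').trans (orbitBlock_le_centralizer_orbitBlock P L L' hL hL' hex)
      rw [Subgroup.le_centralizer_iff] at h1
      exact (Subgroup.centralizer_le (Subgroup.zpowers_le.mpr hzM)) |> fun h => by
        rw [Subgroup.le_centralizer_iff, Subgroup.zpowers_le]
        exact h1 hzM
  rw [Subgroup.le_centralizer_iff] at key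
  exact key (Subgroup.mem_zpowers z)

/-- If `O_{p'}(G) = 1` then `F(G) = O_p(G)`. -/
theorem fittingSubgroup_eq_pCore_of [Finite G] (p : ℕ) [Fact p.Prime]
    (hO : pPrimeCore p G = ⊥) : fittingSubgroup G = pCore p G := by
  apply le_antisymm
  · rw [Helper70.fittingSubgroup_eq_coreJoin]
    unfold Helper70.coreJoin
    apply iSup_le
    intro q
    by_cases hqp : (q : ℕ) = p
    · rw [hqp]
    · have hq : Fact (q : ℕ).Prime := ⟨Nat.prime_of_mem_primeFactors q.2⟩
      have hqn : (pCore (q : ℕ) G).Normal := Helper70.pCore_normal _ G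
      have hqg : IsPGroup (q : ℕ) (pCore (q : ℕ) G) := Helper70.pCore_isPGroup
      obtain ⟨k, hk⟩ := IsPGroup.iff_card.mp hqg
      have hco : (Nat.card (pCore (q : ℕ) G)).Coprime p := by
        rw [hk]
        apply Nat.Coprime.pow_left
        exact (Nat.coprime_primes hq.out (Fact.out : p.Prime)).mpr hqp
      have := le_pPrimeCore hqn hco
      rw [hO] at this
      exact this.trans bot_le
  · exact Helper70.pCore_le_fittingSubgroup

/-- If `O_{p'}(G) = 1` then `Z(E(G)) ≤ O_p(G)`. -/
theorem layer_inf_centralizer_le_pCore [Finite G] (p : ℕ) [Fact p.Prime]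
    (hO : pPrimeCore p G = ⊥) :
    layer G ⊓ centralizer ((layer G : Subgroup G) : Set G) ≤ pCore p G := by
  rw [← fittingSubgroup_eq_pCore_of p hO]
  apply le_sSup
  have hn : (layer G).Normal := inferInstance
  refine ⟨inferInstance, ?_⟩
  have hc : IsMulCommutative ↥(layer G ⊓ centralizer ((layer G : Subgroup G) : Set G)) :=
    ⟨⟨fun a b => Subtype.ext
      ((Subgroup.mem_centralizer_iff.mp (Subgroup.mem_inf.mp b.2).2) (a : G)
        (Subgroup.mem_inf.mp a.2).1)⟩⟩
  exact Helper29.isNilpotent_of_isMulCommutative _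

end Cfsg.Agent.Helper30
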