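import Mathlib
import Cfsg.Agent.Lib.Helper30.ComponentOrbit

set_option autoImplicit false

/-!
# `p'`-elements normalizing all components (helper30)

`conj_component_eq_of_pprime` (Lemma D).
-/

namespace Cfsg.Agent.Helper30

open Subgroup Cfsg

variable {G : Type*} [Group G]

/-- If the `p'`-element `k` commutes with the `p`-element `t` and `L^k = L^t`, then `L^k = L`. -/
theorem cj_eq_self_of_cj_eq_cj [Finite G] {p : ℕ} (L : Subgroup G) (k t : G)
    (hk : (orderOf k).Coprime p) (a : ℕ) (ht : t ^ p ^ a = 1) (hkt : k * t = t * k)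
    (h : cj k L = cj t L) : cj k L = L := by
  rw [cj_eq_self_iff]
  -- `u = t⁻¹ k` normalizes `L`
  have hu : t⁻¹ * k ∈ normalizer (L : Set G) := by
    rw [← cj_eq_self_iff, ← cj_cj, h, cj_cj, inv_mul_cancel, cj_one]
  have hcomm : Commute t⁻¹ k := (Commute.inv_left (show Commute t k from hkt.symm))
  have hpow : (t⁻¹ * k) ^ p ^ a = k ^ p ^ a := by
    rw [hcomm.mul_pow, inv_pow, ht, inv_one, one_mul]
  have h1 : k ^ p ^ a ∈ normalizer (L : Set G) := by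
    rw [← hpow]; exact Subgroup.pow_mem _ hu _
  have hco : (p ^ a).Coprime (orderOf k) := (Nat.Coprime.pow_right a hk).symm
  obtain ⟨m, hm⟩ := exists_pow_eq_self_of_coprime hco
  rw [← hm]
  exact Subgroup.pow_mem _ h1 m

/-- **Lemma D.**  Let `O_{p'}(G) = 1`, `P` a `p`-subgroup, `k` a `p'`-element centralizing `P` and
`O_p(G)`, and `W` a `p'`-subgroup with `e⁻¹ e^k ∈ W` for all `e ∈ C_{E(G)}(P)`.  Then `k` normalizes
every component of `G`. -/
theorem conj_component_eq_of_pprime [Finite G] (p : ℕ) [hp : Fact p.Prime]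
    (hO : pPrimeCore p G = ⊥) (P : Subgroup G) (hP : IsPGroup p ↥P)
    (W : Subgroup G) (hW : (Nat.card W).Coprime p)
    (k : G) (hk : (orderOf k).Coprime p) (hkP : k ∈ centralizer (P : Set G))
    (hkQ : k ∈ centralizer (pCore p G : Set G))
    (hkW : ∀ e ∈ layer G, e ∈ centralizer (P : Set G) → e⁻¹ * (k * e * k⁻¹) ∈ W)
    (L : Subgroup G) (hL : IsComponent L) : cj k L = L := by
  by_contra hne
  have hkt : ∀ t ∈ P, k * t = t * k := fun t ht =>
    ((Subgroup.mem_centralizer_iff.mp hkP) t ht).symm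
  have hPpow : ∀ t ∈ P, ∃ a : ℕ, t ^ p ^ a = 1 := by
    intro t ht
    obtain ⟨a, ha⟩ := hP ⟨t, ht⟩
    exact ⟨a, by simpa using congrArg Subtype.val ha⟩
  -- `L^k` is outside the `P`-orbit of `L`
  have horb : ∀ t ∈ P, cj k L ≠ cj t L := by
    intro t ht heq
    obtain ⟨a, ha⟩ := hPpow t ht
    exact hne (cj_eq_self_of_cj_eq_cj L k t hk a ha (hkt t ht) heq)
  have horb' : ∀ t ∈ P, cj k⁻¹ L ≠ cj t L := by
    intro t ht heq
    apply horb t⁻¹ (P.inv_mem ht)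
    have h1 := congrArg (cj (t⁻¹ * k)) heq
    rw [cj_cj, cj_cj, mul_assoc, mul_inv_cancel, mul_one] at h1
    have h2 : t⁻¹ * k * t = k := by
      rw [mul_assoc, hkt t ht]; group
    rw [h2] at h1
    exact h1.symm
  set M := orbitBlock P L with hM
  have hLM : L ≤ M := le_orbitBlock P L
  have hME : M ≤ layer G := orbitBlock_le_layer P L hL
  have hLk : IsComponent (cj k L) := Helper22.IsComponent.conj hL k
  have hLk' : IsComponent (cj k⁻¹ L) := Helper22.IsComponent.conj hL k⁻¹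
  -- `M^k` and `M^{k⁻¹}` centralize `M`
  have hMk : cj k M ≤ centralizer (M : Set G) := by
    rw [hM, cj_orbitBlock_of_commute P L k hkt]
    exact orbitBlock_le_centralizer_orbitBlock P L (cj k L) hL hLk horb
  have hkt' : ∀ t ∈ P, k⁻¹ * t = t * k⁻¹ := by
    intro t ht
    have := hkt t ht
    calc k⁻¹ * t = k⁻¹ * (t * k) * k⁻¹ := by group
      _ = k⁻¹ * (k * t) * k⁻¹ := by rw [this]
      _ = t * k⁻¹ := by group
  have hMk' : cj k⁻¹ M ≤ centralizer (M : Set G) := by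
    rw [hM, cj_orbitBlock_of_commute P L k⁻¹ hkt']
    exact orbitBlock_le_centralizer_orbitBlock P L (cj k⁻¹ L) hL hLk' horb'
  -- a Sylow `p`-subgroup containing `P`
  obtain ⟨T, hPT⟩ := hP.exists_le_sylow
  obtain ⟨s, hsT, hsL, hsC⟩ := exists_mem_sylow_not_mem_centralizer_component hO T hL
  have hVU : ¬ ((T : Subgroup G) ⊓ M) ≤ ((T : Subgroup G) ⊓ M) ⊓ centralizer (M : Set G) := by
    intro hle
    have h1 := hle (Subgroup.mem_inf.mpr ⟨hsT, hLM hsL⟩)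
    exact hsC (Subgroup.centralizer_le hLM (Subgroup.mem_inf.mp h1).2)
  have hPV : P ≤ normalizer ((((T : Subgroup G) ⊓ M : Subgroup G)) : Set G) := by
    refine le_trans ?_ (Helper22.normalizer_inf_le (T : Subgroup G) M)
    exact le_inf (hPT.trans Subgroup.le_normalizer) (le_normalizer_orbitBlock P L)
  obtain ⟨d, hdV, hdU, hdP⟩ := exists_fixed_mod ((T : Subgroup G) ⊓ M)
    (((T : Subgroup G) ⊓ M) ⊓ centralizer (M : Set G)) P (T.isPGroup'.to_le inf_le_left) hP hPV hVU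
  have hdT : d ∈ (T : Subgroup G) := (Subgroup.mem_inf.mp hdV).1
  have hdM : d ∈ M := (Subgroup.mem_inf.mp hdV).2
  have hdC : d ∉ centralizer (M : Set G) := fun h => hdU (Subgroup.mem_inf.mpr ⟨hdV, h⟩)
  obtain ⟨j, hj⟩ : ∃ j : ℕ, d ^ p ^ j = 1 := by
    obtain ⟨j, hj⟩ := T.isPGroup' ⟨d, hdT⟩
    exact ⟨j, by simpa using congrArg Subtype.val hj⟩
  have hdE : d ∈ layer G := hME hdM
  have hEn : (layer G).Normal := inferInstance
  -- the cocycle values are central in `E(G)` and centralized by `k`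
  have hζ : ∀ t ∈ P, (t * d * t⁻¹ * d⁻¹ ∈ centralizer ((layer G : Subgroup G) : Set G)) ∧
      k * (t * d * t⁻¹ * d⁻¹) = (t * d * t⁻¹ * d⁻¹) * k := by
    intro t ht
    have h1 := hdP t ht
    have h2 : t * d * t⁻¹ * d⁻¹ ∈ M ⊓ centralizer (M : Set G) :=
      Subgroup.mem_inf.mpr ⟨(Subgroup.mem_inf.mp (Subgroup.mem_inf.mp h1).1).2,
        (Subgroup.mem_inf.mp h1).2⟩
    have h3 := orbitBlock_inf_centralizer_le P L hL h2
    refine ⟨h3, ?_⟩
    have h4 : t * d * t⁻¹ * d⁻¹ ∈ pCore p G :=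
      layer_inf_centralizer_le_pCore p hO (Subgroup.mem_inf.mpr ⟨hME (Subgroup.mem_inf.mp h2).1, h3⟩)
    exact ((Subgroup.mem_centralizer_iff.mp hkQ) _ h4).symm
  -- commutation facts
  have hd1 : k * d * k⁻¹ ∈ centralizer (M : Set G) := hMk (conj_mem_cj_of_mem hdM)
  have hd1' : k⁻¹ * d * k ∈ centralizer (M : Set G) := by
    have := hMk' (conj_mem_cj_of_mem (g := k⁻¹) hdM)
    simpa using this
  have hfinal : ∀ a b : G, a ∈ centralizer (M : Set G) → b ∈ M → b ^ p ^ j = 1 → a * b ∈ W →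
      b ∈ centralizer (M : Set G) := fun a b ha hb hbj hab =>
    mem_centralizer_of_mul_mem_pprime M W hW a b ha hb j hbj hab
  by_cases hk2 : ∃ t ∈ P, cj (k * k) L = cj t L
  · -- Case B
    obtain ⟨t, ht, heq⟩ := hk2
    obtain ⟨a, ha⟩ := hPpow t ht
    have hkk : (orderOf (k * k)).Coprime p := by
      rw [← pow_two]
      exact Nat.Coprime.coprime_dvd_left (orderOf_pow_dvd 2) hk
    have hkkt : k * k * t = t * (k * k) := by
      rw [mul_assoc, hkt t ht, ← mul_assoc, hkt t ht, mul_assoc]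
    have hkkL : cj (k * k) L = L := cj_eq_self_of_cj_eq_cj L (k * k) t hkk a ha hkkt heq
    -- `p ≠ 2`
    have hp2 : p ≠ 2 := by
      intro h2
      apply hne
      rw [cj_eq_self_iff]
      have hco : (2 : ℕ).Coprime (orderOf k) := by rw [← h2]; exact hk.symm
      obtain ⟨m, hm⟩ := exists_pow_eq_self_of_coprime hco
      rw [← hm, pow_two]
      exact Subgroup.pow_mem _ ((cj_eq_self_iff L (k * k)).mp hkkL) m
    -- the element `e = d * (k⁻¹ d⁻¹ k)`
    have heE : d * (k⁻¹ * d⁻¹ * k) ∈ layer G := by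
      apply (layer G).mul_mem hdE
      have := hEn.conj_mem d⁻¹ ((layer G).inv_mem hdE) k⁻¹
      simpa using this
    have heP : d * (k⁻¹ * d⁻¹ * k) ∈ centralizer (P : Set G) := by
      rw [Subgroup.mem_centralizer_iff]
      intro t ht
      obtain ⟨hz1, hz2⟩ := hζ t ht
      set z := t * d * t⁻¹ * d⁻¹ with hz
      have htd : t * d = z * d * t := by rw [hz]; group
      have hze : z * (d * (k⁻¹ * d⁻¹ * k)) = (d * (k⁻¹ * d⁻¹ * k)) * z :=
        ((Subgroup.mem_centralizer_iff.mp hz1) _ heE).symm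
      have hkz : k⁻¹ * z⁻¹ = z⁻¹ * k⁻¹ := by
        have : z * k = k * z := hz2.symm
        calc k⁻¹ * z⁻¹ = (z * k)⁻¹ := by group
          _ = (k * z)⁻¹ := by rw [this]
          _ = z⁻¹ * k⁻¹ := by group
      have htk : t * k⁻¹ = k⁻¹ * t := (hkt' t ht).symm
      have htd' : t * d⁻¹ = d⁻¹ * z⁻¹ * t := by
        have : d⁻¹ * z⁻¹ * t = (t⁻¹ * (z * d))⁻¹ := by group
        rw [this]
        have h5 : t⁻¹ * (z * d) = d * t⁻¹ := by
          rw [hz]; group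
        rw [h5]; group
      have hkt2 : t * k = k * t := (hkt t ht).symm
      calc t * (d * (k⁻¹ * d⁻¹ * k))
          = (t * d) * (k⁻¹ * d⁻¹ * k) := by group
        _ = z * d * t * (k⁻¹ * d⁻¹ * k) := by rw [htd]
        _ = z * d * ((t * k⁻¹) * d⁻¹ * k) := by group
        _ = z * d * ((k⁻¹ * t) * d⁻¹ * k) := by rw [htk]
        _ = z * d * (k⁻¹ * (t * d⁻¹) * k) := by group
        _ = z * d * (k⁻¹ * (d⁻¹ * z⁻¹ * t) * k) := by rw [htd']
        _ = z * d * (k⁻¹ * d⁻¹ * z⁻¹ * (t * k)) := by group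
        _ = z * d * (k⁻¹ * d⁻¹ * z⁻¹ * (k * t)) := by rw [hkt2]
        _ = z * d * (k⁻¹ * d⁻¹ * (k * (k⁻¹ * z⁻¹)) * k * t) := by group
        _ = z * d * (k⁻¹ * d⁻¹ * (k * (z⁻¹ * k⁻¹)) * k * t) := by rw [hkz]
        _ = (z * (d * (k⁻¹ * d⁻¹ * k))) * z⁻¹ * t := by group
        _ = ((d * (k⁻¹ * d⁻¹ * k)) * z) * z⁻¹ * t := by rw [hze]
        _ = d * (k⁻¹ * d⁻¹ * k) * t := by group
    have hx := hkW _ heE heP
    -- rewrite `x = a * b`
    have hcomm1 : (k * d * k⁻¹) * d⁻¹ = d⁻¹ * (k * d * k⁻¹) :=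
      ((Subgroup.mem_centralizer_iff.mp hd1) d⁻¹ (M.inv_mem hdM)).symm
    have hxe : (d * (k⁻¹ * d⁻¹ * k))⁻¹ * (k * (d * (k⁻¹ * d⁻¹ * k)) * k⁻¹) =
        ((k⁻¹ * d * k) * (k * d * k⁻¹)) * (d⁻¹ * d⁻¹) := by
      calc (d * (k⁻¹ * d⁻¹ * k))⁻¹ * (k * (d * (k⁻¹ * d⁻¹ * k)) * k⁻¹)
          = (k⁻¹ * d * k) * (d⁻¹ * (k * d * k⁻¹)) * d⁻¹ := by group
        _ = (k⁻¹ * d * k) * ((k * d * k⁻¹) * d⁻¹) * d⁻¹ := by rw [hcomm1]
        _ = ((k⁻¹ * d * k) * (k * d * k⁻¹)) * (d⁻¹ * d⁻¹) := by group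
    rw [hxe] at hx
    have hb : d⁻¹ * d⁻¹ ∈ centralizer (M : Set G) := by
      apply hfinal _ _ (Subgroup.mul_mem _ hd1' hd1) (M.mul_mem (M.inv_mem hdM) (M.inv_mem hdM)) _ hx
      have : d⁻¹ * d⁻¹ = (d ^ 2)⁻¹ := by group
      rw [this, inv_pow, ← pow_mul, mul_comm, pow_mul, hj, one_pow, inv_one]
    -- `d ∈ ⟨d²⟩` as `p` is odd
    have hd2 : d ^ 2 ∈ centralizer (M : Set G) := by
      have : d ^ 2 = (d⁻¹ * d⁻¹)⁻¹ := by group
      rw [this]; exact Subgroup.inv_mem _ hb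
    have hco2 : (2 : ℕ).Coprime (orderOf d) := by
      have hdvd : orderOf d ∣ p ^ j := orderOf_dvd_of_pow_eq_one hj
      have h2p : (2 : ℕ).Coprime (p ^ j) := by
        apply Nat.Coprime.pow_right
        exact (Nat.coprime_primes Nat.prime_two hp.out).mpr (Ne.symm hp2)
      exact Nat.Coprime.coprime_dvd_right hdvd h2p
    obtain ⟨m, hm⟩ := exists_pow_eq_self_of_coprime hco2
    apply hdC
    rw [← hm]
    exact Subgroup.pow_mem _ hd2 m
  · -- Case A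
    push Not at hk2
    have hLkk : IsComponent (cj (k * k) L) := Helper22.IsComponent.conj hL (k * k)
    have hkkt : ∀ t ∈ P, k * k * t = t * (k * k) := by
      intro t ht
      rw [mul_assoc, hkt t ht, ← mul_assoc, hkt t ht, mul_assoc]
    have hMkk : cj (k * k) M ≤ centralizer (M : Set G) := by
      rw [hM, cj_orbitBlock_of_commute P L (k * k) hkkt]
      exact orbitBlock_le_centralizer_orbitBlock P L (cj (k * k) L) hL hLkk hk2
    have hd2 : (k * k) * d * (k * k)⁻¹ ∈ centralizer (M : Set G) :=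
      hMkk (conj_mem_cj_of_mem hdM)
    -- the element `e' = d⁻¹ * (k d k⁻¹)`
    have heE : d⁻¹ * (k * d * k⁻¹) ∈ layer G := by
      apply (layer G).mul_mem ((layer G).inv_mem hdE)
      exact hEn.conj_mem d hdE k
    have heP : d⁻¹ * (k * d * k⁻¹) ∈ centralizer (P : Set G) := by
      rw [Subgroup.mem_centralizer_iff]
      intro t ht
      obtain ⟨hz1, hz2⟩ := hζ t ht
      set z := t * d * t⁻¹ * d⁻¹ with hz
      have htd : t * d = z * d * t := by rw [hz]; group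
      have htd' : t * d⁻¹ = d⁻¹ * z⁻¹ * t := by
        have : d⁻¹ * z⁻¹ * t = (t⁻¹ * (z * d))⁻¹ := by group
        rw [this]
        have h5 : t⁻¹ * (z * d) = d * t⁻¹ := by
          rw [hz]; group
        rw [h5]; group
      have hkt2 : t * k = k * t := (hkt t ht).symm
      have htk : t * k⁻¹ = k⁻¹ * t := (hkt' t ht).symm
      calc t * (d⁻¹ * (k * d * k⁻¹))
          = (t * d⁻¹) * (k * d * k⁻¹) := by group
        _ = d⁻¹ * z⁻¹ * t * (k * d * k⁻¹) := by rw [htd']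
        _ = d⁻¹ * z⁻¹ * ((t * k) * d * k⁻¹) := by group
        _ = d⁻¹ * z⁻¹ * ((k * t) * d * k⁻¹) := by rw [hkt2]
        _ = d⁻¹ * z⁻¹ * (k * (t * d) * k⁻¹) := by group
        _ = d⁻¹ * z⁻¹ * (k * (z * d * t) * k⁻¹) := by rw [htd]
        _ = d⁻¹ * z⁻¹ * ((k * z) * d * (t * k⁻¹)) := by group
        _ = d⁻¹ * z⁻¹ * ((z * k) * d * (k⁻¹ * t)) := by rw [hz2, htk]
        _ = d⁻¹ * (k * d * k⁻¹) * t := by group
    have hx := hkW _ heE heP
    have hcomm1 : d * (k * d * k⁻¹)⁻¹ = (k * d * k⁻¹)⁻¹ * d :=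
      ((Subgroup.mem_centralizer_iff.mp (Subgroup.inv_mem _ hd1)) d hdM)
    have hcomm2 : d * ((k * k) * d * (k * k)⁻¹) = ((k * k) * d * (k * k)⁻¹) * d :=
      ((Subgroup.mem_centralizer_iff.mp hd2) d hdM)
    have hxe : (d⁻¹ * (k * d * k⁻¹))⁻¹ * (k * (d⁻¹ * (k * d * k⁻¹)) * k⁻¹) =
        ((k * d * k⁻¹)⁻¹ * (k * d * k⁻¹)⁻¹ * ((k * k) * d * (k * k)⁻¹)) * d := by
      calc (d⁻¹ * (k * d * k⁻¹))⁻¹ * (k * (d⁻¹ * (k * d * k⁻¹)) * k⁻¹)
          = (k * d * k⁻¹)⁻¹ * (d * (k * d * k⁻¹)⁻¹) * ((k * k) * d * (k * k)⁻¹) := by group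
        _ = (k * d * k⁻¹)⁻¹ * ((k * d * k⁻¹)⁻¹ * d) * ((k * k) * d * (k * k)⁻¹) := by rw [hcomm1]
        _ = (k * d * k⁻¹)⁻¹ * (k * d * k⁻¹)⁻¹ * (d * ((k * k) * d * (k * k)⁻¹)) := by group
        _ = (k * d * k⁻¹)⁻¹ * (k * d * k⁻¹)⁻¹ * (((k * k) * d * (k * k)⁻¹) * d) := by rw [hcomm2]
        _ = ((k * d * k⁻¹)⁻¹ * (k * d * k⁻¹)⁻¹ * ((k * k) * d * (k * k)⁻¹)) * d := by group
    rw [hxe] at hx
    apply hdC
    apply hfinal _ _ _ hdM hj hx
    exact Subgroup.mul_mem _ (Subgroup.mul_mem _ (Subgroup.inv_mem _ hd1) (Subgroup.inv_mem _ hd1)) hd2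

end Cfsg.Agent.Helper30
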