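import Mathlib
import Cfsg.Agent.Lib.Helper30.PPrimeNormalizes
import Cfsg.Agent.Lib.Helper30.PLayer
import Cfsg.Agent.Lib.Helper21.PGen

set_option autoImplicit false

/-!
# `O_{p',E}(N_G(P))` normalizes every component of `G` when `O_{p'}(G) = 1` (helper30)

Main result `pPrimeLayer_normalizer_le_componentKernel` (= S1269).
-/

namespace Cfsg.Agent.Helper30

open Subgroup Cfsg
open scoped commutatorElement

variable {G : Type*} [Group G]

/-- The kernel of the conjugation action of `G` on its components. -/
def componentKernel (G : Type*) [Group G] : Subgroup G :=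
  ⨅ L : {L : Subgroup G // IsComponent L}, normalizer ((L : Subgroup G) : Set G)

theorem mem_componentKernel {g : G} :
    g ∈ componentKernel G ↔ ∀ L : Subgroup G, IsComponent L → cj g L = L := by
  unfold componentKernel
  rw [Subgroup.mem_iInf]
  constructor
  · intro h L hL
    rw [cj_eq_self_iff]; exact h ⟨L, hL⟩
  · intro h L
    rw [← cj_eq_self_iff]; exact h L L.2

theorem layer_le_componentKernel : layer G ≤ componentKernel G := by
  apply sSup_le
  intro L' hL' g hg
  rw [mem_componentKernel]
  intro L hL
  rw [cj_eq_self_iff]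
  exact Helper21.component_le_normalizer_component hL hL' hg

/-- Elements of `C_N(O_p(N))`, `N = N_G(P)`, centralize `P`. -/
theorem coe_mem_centralizer_of_mem_centralizer_pCore [Finite G] (p : ℕ) [Fact p.Prime]
    (P : Subgroup G) (hP : IsPGroup p ↥P) (y : ↥(normalizer (P : Set G)))
    (hy : y ∈ centralizer ((pCore p ↥(normalizer (P : Set G)) :
      Subgroup ↥(normalizer (P : Set G))) : Set ↥(normalizer (P : Set G)))) :
    (y : G) ∈ centralizer (P : Set G) := by
  rw [Subgroup.mem_centralizer_iff]
  intro x hx
  have hn : (P.subgroupOf (normalizer (P : Set G))).Normal := Subgroup.normal_in_normalizer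
  have h1 : P.subgroupOf (normalizer (P : Set G)) ≤ pCore p ↥(normalizer (P : Set G)) :=
    Helper70.le_pCore _ hP.comap_subtype
  have h2 : (⟨x, Subgroup.le_normalizer hx⟩ : ↥(normalizer (P : Set G))) ∈
      pCore p ↥(normalizer (P : Set G)) := h1 (Subgroup.mem_subgroupOf.mpr hx)
  exact congrArg Subtype.val ((Subgroup.mem_centralizer_iff.mp hy) _ h2)

/-- **S1269.**  If `O_{p'}(G) = 1` and `P` is a `p`-subgroup, every element of the preimage in
`N = N_G(P)` of `E(N / O_{p'}(N))` normalizes every component of `G`. -/
theorem pPrimeLayer_normalizer_le_componentKernel [Finite G] (p : ℕ) [Fact p.Prime]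
    (hO : pPrimeCore p G = ⊥) (P : Subgroup G) (hP : IsPGroup p ↥P) :
    (((layer (↥(normalizer (P : Set G)) ⧸ pPrimeCore p ↥(normalizer (P : Set G)))).comap
      (QuotientGroup.mk' (pPrimeCore p ↥(normalizer (P : Set G))))).map
        (normalizer (P : Set G)).subtype) ≤ componentKernel G := by
  have hπs : Function.Surjective (QuotientGroup.mk' (pPrimeCore p ↥(normalizer (P : Set G)))) :=
    QuotientGroup.mk'_surjective _
  have hYn : (pPrimeCore p ↥(normalizer (P : Set G))).Normal := inferInstance
  have hYco : (Nat.card (pPrimeCore p ↥(normalizer (P : Set G)))).Coprime p := pPrimeCore_coprime p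
  have hkerπ : (QuotientGroup.mk' (pPrimeCore p ↥(normalizer (P : Set G)))).ker =
      pPrimeCore p ↥(normalizer (P : Set G)) := QuotientGroup.ker_mk' _
  -- facts about elements of `K`
  have hKcen : ∀ y : ↥(normalizer (P : Set G)),
      y ∈ (layer (↥(normalizer (P : Set G)) ⧸ pPrimeCore p ↥(normalizer (P : Set G)))).comap
        (QuotientGroup.mk' (pPrimeCore p ↥(normalizer (P : Set G)))) →
      (y : G) ∈ centralizer (P : Set G) ∧ (y : G) ∈ centralizer (pCore p G : Set G) := by
    intro y hy
    constructor
    · apply coe_mem_centralizer_of_mem_centralizer_pCore p P hP y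
      have := pPrimeLayer_commutator_pCore (Y := ↥(normalizer (P : Set G))) p
      rw [Subgroup.commutator_eq_bot_iff_le_centralizer] at this
      exact this hy
    · exact pPrimeLayer_normalizer_le_centralizer_pCore p P hP ⟨y, hy, rfl⟩
  -- the `p'`-group `W = O_{p'}(N)` inside `G`
  set W := (pPrimeCore p ↥(normalizer (P : Set G))).map (normalizer (P : Set G)).subtype with hWdef
  have hWco : (Nat.card W).Coprime p := by
    have : Nat.card W = Nat.card (pPrimeCore p ↥(normalizer (P : Set G))) :=
      (Nat.card_congr ((pPrimeCore p ↥(normalizer (P : Set G))).equivMapOfInjective _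
        (Subgroup.subtype_injective _)).toEquiv).symm
    rw [this]; exact hYco
  have hYK : pPrimeCore p ↥(normalizer (P : Set G)) ≤
      (layer (↥(normalizer (P : Set G)) ⧸ pPrimeCore p ↥(normalizer (P : Set G)))).comap
        (QuotientGroup.mk' (pPrimeCore p ↥(normalizer (P : Set G)))) := by
    intro x hx
    rw [Subgroup.mem_comap, QuotientGroup.mk'_apply, (QuotientGroup.eq_one_iff x).mpr hx]
    exact Subgroup.one_mem _
  -- general criterion: a `p'`-element of `K` whose commutators with `E(G) ∩ N` lie in `Y`
  have crit : ∀ y : ↥(normalizer (P : Set G)),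
      y ∈ (layer (↥(normalizer (P : Set G)) ⧸ pPrimeCore p ↥(normalizer (P : Set G)))).comap
        (QuotientGroup.mk' (pPrimeCore p ↥(normalizer (P : Set G)))) →
      (orderOf y).Coprime p →
      (∀ i : ↥(normalizer (P : Set G)), (i : G) ∈ layer G →
        i⁻¹ * (y * i * y⁻¹) ∈ pPrimeCore p ↥(normalizer (P : Set G))) →
      (y : G) ∈ componentKernel G := by
    intro y hyK hyo hyW
    rw [mem_componentKernel]
    intro L hL
    obtain ⟨h1, h2⟩ := hKcen y hyK
    apply conj_component_eq_of_pprime p hO P hP W hWco (y : G) _ h1 h2 _ L hL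
    · rw [Subgroup.orderOf_coe]; exact hyo
    · intro e heE heP
      have heN : e ∈ normalizer (P : Set G) := Subgroup.centralizer_le_normalizer _ heP
      have := hyW ⟨e, heN⟩ heE
      exact ⟨_, this, rfl⟩
  -- `Y ≤ G₀`
  have hY0 : ∀ y ∈ pPrimeCore p ↥(normalizer (P : Set G)), (y : G) ∈ componentKernel G := by
    intro y hy
    apply crit y (hYK hy)
    · have h1 : orderOf (⟨y, hy⟩ : pPrimeCore p ↥(normalizer (P : Set G))) ∣
          Nat.card (pPrimeCore p ↥(normalizer (P : Set G))) := orderOf_dvd_natCard _
      rw [← Subgroup.orderOf_coe] at h1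
      exact Nat.Coprime.coprime_dvd_left h1 hYco
    · intro i _
      have h3 := hYn.conj_mem y hy i⁻¹
      have e : i⁻¹ * (y * i * y⁻¹) = (i⁻¹ * y * i⁻¹⁻¹) * y⁻¹ := by group
      rw [e]
      exact Subgroup.mul_mem _ h3 (Subgroup.inv_mem _ hy)
  -- reduce to the components of `N / Y`
  set G₀' := (componentKernel G).subgroupOf (normalizer (P : Set G)) with hG₀'
  suffices hsuff : (layer (↥(normalizer (P : Set G)) ⧸ pPrimeCore p ↥(normalizer (P : Set G)))).comap
      (QuotientGroup.mk' (pPrimeCore p ↥(normalizer (P : Set G)))) ≤ G₀' by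
    rintro _ ⟨y, hy, rfl⟩
    exact Subgroup.mem_subgroupOf.mp (hsuff hy)
  have hYG₀' : pPrimeCore p ↥(normalizer (P : Set G)) ≤ G₀' := fun y hy =>
    Subgroup.mem_subgroupOf.mpr (hY0 y hy)
  -- it suffices that the preimage of each component lies in `G₀'`
  have hcomp : ∀ J : Subgroup (↥(normalizer (P : Set G)) ⧸ pPrimeCore p ↥(normalizer (P : Set G))),
      IsComponent J → J.comap (QuotientGroup.mk' (pPrimeCore p ↥(normalizer (P : Set G)))) ≤ G₀' := by
    intro J hJ
    have hJK : J.comap (QuotientGroup.mk' (pPrimeCore p ↥(normalizer (P : Set G)))) ≤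
        (layer (↥(normalizer (P : Set G)) ⧸ pPrimeCore p ↥(normalizer (P : Set G)))).comap
        (QuotientGroup.mk' (pPrimeCore p ↥(normalizer (P : Set G)))) :=
      Subgroup.comap_mono (le_sSup hJ)
    -- `I = E(G) ∩ N` and its image
    have hIn : ((layer G).subgroupOf (normalizer (P : Set G))).Normal := inferInstance
    have hIbn : (((layer G).subgroupOf (normalizer (P : Set G))).map
        (QuotientGroup.mk' (pPrimeCore p ↥(normalizer (P : Set G))))).Normal :=
      Subgroup.Normal.map hIn _ hπs
    rcases Helper21.component_le_or_commutator_eq_bot J _ hJ hIbn.isSubnormal with hle | hcomm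
    · -- `J ≤ Ī`
      intro x hx
      have hx' : QuotientGroup.mk' (pPrimeCore p ↥(normalizer (P : Set G))) x ∈ J := hx
      obtain ⟨i, hi, hix⟩ := hle hx'
      have hy : i⁻¹ * x ∈ pPrimeCore p ↥(normalizer (P : Set G)) := by
        rw [← hkerπ, MonoidHom.mem_ker, map_mul, map_inv, hix, inv_mul_cancel]
      have hxe : x = i * (i⁻¹ * x) := by group
      rw [hxe]
      apply Subgroup.mul_mem _ _ (hYG₀' hy)
      exact Subgroup.mem_subgroupOf.mpr (layer_le_componentKernel (Subgroup.mem_subgroupOf.mp hi))
    · -- `[J, Ī] = 1`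
      have hJI : ⁅J.comap (QuotientGroup.mk' (pPrimeCore p ↥(normalizer (P : Set G)))),
          (layer G).subgroupOf (normalizer (P : Set G))⁆ ≤
          pPrimeCore p ↥(normalizer (P : Set G)) := by
        have h0 : (⁅J.comap (QuotientGroup.mk' (pPrimeCore p ↥(normalizer (P : Set G)))),
            (layer G).subgroupOf (normalizer (P : Set G))⁆).map
            (QuotientGroup.mk' (pPrimeCore p ↥(normalizer (P : Set G)))) = ⊥ := by
          rw [Subgroup.map_commutator, eq_bot_iff, ← hcomm]
          exact Subgroup.commutator_mono (Subgroup.map_comap_le _ _) le_rfl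
        exact le_of_le_of_eq ((Subgroup.map_eq_bot_iff _).mp h0) hkerπ
      -- `J`'s preimage is generated by `p'`-elements
      have hJperf : Group.IsPerfect ↥J := hJ.2.1
      have hf : Function.Surjective
          ((QuotientGroup.mk' (pPrimeCore p ↥(normalizer (P : Set G)))).subgroupComap J) :=
        MonoidHom.subgroupComap_surjective_of_surjective _ _ hπs
      have hker : (Nat.card ((QuotientGroup.mk'
          (pPrimeCore p ↥(normalizer (P : Set G)))).subgroupComap J).ker).Coprime p := by
        have h1 : ((QuotientGroup.mk' (pPrimeCore p ↥(normalizer (P : Set G)))).subgroupComap J).ker.map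
            (J.comap (QuotientGroup.mk' (pPrimeCore p ↥(normalizer (P : Set G))))).subtype ≤
            pPrimeCore p ↥(normalizer (P : Set G)) := by
          rintro _ ⟨k, hk, rfl⟩
          have h2 : ((QuotientGroup.mk' (pPrimeCore p ↥(normalizer (P : Set G)))).subgroupComap J) k
              = 1 := hk
          have h3 : QuotientGroup.mk' (pPrimeCore p ↥(normalizer (P : Set G)))
              (k : ↥(normalizer (P : Set G))) = 1 := congrArg Subtype.val h2
          rwa [QuotientGroup.mk'_apply, QuotientGroup.eq_one_iff] at h3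
        have h2 := Nat.card_congr (((QuotientGroup.mk'
          (pPrimeCore p ↥(normalizer (P : Set G)))).subgroupComap J).ker.equivMapOfInjective
          (J.comap (QuotientGroup.mk' (pPrimeCore p ↥(normalizer (P : Set G))))).subtype
          (Subgroup.subtype_injective _)).toEquiv
        rw [h2]
        exact Nat.Coprime.coprime_dvd_left (Subgroup.card_dvd_of_le h1) hYco
      have hgen := pprimeGen_eq_top_of_surjective p _ hf hker
      have hrange := range_le_of_pprime_mem p hgen
        (J.comap (QuotientGroup.mk' (pPrimeCore p ↥(normalizer (P : Set G))))).subtype G₀' ?_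
      · intro x hx
        exact hrange ⟨⟨x, hx⟩, rfl⟩
      · intro h hh
        apply Subgroup.mem_subgroupOf.mpr
        apply crit (h : ↥(normalizer (P : Set G))) (hJK h.2)
        · rw [Subgroup.orderOf_coe]; exact hh
        · intro i hi
          have hiI : i ∈ (layer G).subgroupOf (normalizer (P : Set G)) :=
            Subgroup.mem_subgroupOf.mpr hi
          have h1 : ⁅(h : ↥(normalizer (P : Set G))), i⁆ ∈
              pPrimeCore p ↥(normalizer (P : Set G)) :=
            hJI (Subgroup.commutator_mem_commutator h.2 hiI)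
          have h2 := hYn.conj_mem _ h1 i⁻¹
          have e : i⁻¹ * ((h : ↥(normalizer (P : Set G))) * i * (h : ↥(normalizer (P : Set G)))⁻¹) =
              i⁻¹ * ⁅(h : ↥(normalizer (P : Set G))), i⁆ * i⁻¹⁻¹ := by
            rw [commutatorElement_def]; group
          rw [e]; exact h2
  -- assemble
  have hmapcomap : ∀ J : Subgroup (↥(normalizer (P : Set G)) ⧸ pPrimeCore p ↥(normalizer (P : Set G))),
      IsComponent J → J ≤ G₀'.map (QuotientGroup.mk' (pPrimeCore p ↥(normalizer (P : Set G)))) := by
    intro J hJ x hx
    obtain ⟨y, rfl⟩ := hπs x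
    exact ⟨y, hcomp J hJ hx, rfl⟩
  have hlayer : layer (↥(normalizer (P : Set G)) ⧸ pPrimeCore p ↥(normalizer (P : Set G))) ≤
      G₀'.map (QuotientGroup.mk' (pPrimeCore p ↥(normalizer (P : Set G)))) :=
    sSup_le fun J hJ => hmapcomap J hJ
  intro x hx
  obtain ⟨y, hy, hyx⟩ := hlayer hx
  have hk : y⁻¹ * x ∈ pPrimeCore p ↥(normalizer (P : Set G)) := by
    rw [← hkerπ, MonoidHom.mem_ker, map_mul, map_inv, hyx, inv_mul_cancel]
  have hxe : x = y * (y⁻¹ * x) := by group
  rw [hxe]
  exact Subgroup.mul_mem _ hy (hYG₀' hk)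

end Cfsg.Agent.Helper30
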