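import Mathlib
import Cfsg.Agent.Lib.Helper30.LBalance
import Cfsg.Agent.Lib.Helper30.AxB
import Cfsg.Agent.Lib.Helper30.SylowSub
import Cfsg.Agent.Lib.Helper30.FStarLocal
import Cfsg.Agent.Lib.Helper22.Components
import Cfsg.Agent.Lib.Helper21.Quasisimple

set_option autoImplicit false

/-!
# `O_{p'}(C_G(x))` and components when `O_{p'}(G) = 1` (helper30)

* `component_commutator_eq_self_or_bot` : `X ≤ N_G(L)`, `L` a component: `[L,X] = L` or `[L,X] = 1`.
* `centralizerPPrimeCore_le_componentKernel` : `O_{p'}(C_G(x))` normalizes every component.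
* `component_commutator_centralizerPPrimeCore` : statement S1270.
-/

namespace Cfsg.Agent.Helper30

open Subgroup Cfsg
open scoped commutatorElement

variable {G : Type*} [Group G]

/-- A subgroup normalizing the component `L` either centralizes it or `[L, X] = L`. -/
theorem component_commutator_eq_self_or_bot (L X : Subgroup G) (hL : IsComponent L)
    (hX : X ≤ normalizer (L : Set G)) : ⁅L, X⁆ = L ∨ ⁅L, X⁆ = ⊥ := by
  have hDL : ⁅L, X⁆ ≤ L := Helper24.commutator_le_of_le_normalizer L X hX
  have hn : ((⁅L, X⁆ : Subgroup G).subgroupOf L).Normal := by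
    rw [Subgroup.normal_subgroupOf_iff_le_normalizer hDL]
    exact Subgroup.normalizer_commutator_ge_left L X
  rcases Helper21.quasisimple_normal_eq_top_or_le_center hL.2 ((⁅L, X⁆ : Subgroup G).subgroupOf L)
    with h | h
  · left
    apply le_antisymm hDL
    rw [Subgroup.subgroupOf_eq_top] at h
    exact h
  · right
    have h1 : ⁅⁅L, X⁆, L⁆ = ⊥ := by
      rw [Subgroup.commutator_eq_bot_iff_le_centralizer]
      intro d hd
      rw [Subgroup.mem_centralizer_iff]
      intro l hl
      have h2 := h (show (⟨d, hDL hd⟩ : ↥L) ∈ (⁅L, X⁆ : Subgroup G).subgroupOf L from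
        Subgroup.mem_subgroupOf.mpr hd)
      rw [Subgroup.mem_center_iff] at h2
      exact congrArg Subtype.val (h2 ⟨l, hl⟩)
    have h2 : ⁅⁅X, L⁆, L⁆ = ⊥ := by rw [Subgroup.commutator_comm X L]; exact h1
    have h3 : ⁅⁅L, L⁆, X⁆ = ⊥ := Subgroup.commutator_commutator_eq_bot_of_rotate h1 h2
    rwa [Helper22.IsQuasisimple.commutator_eq hL.2] at h3

/-- `O_{p'}(C_G(x))` has order prime to `p`. -/
theorem centralizerPPrimeCore_coprime [Finite G] (p : ℕ) (x : G) :
    (Nat.card (centralizerPPrimeCore p x)).Coprime p := by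
  have : Nat.card (centralizerPPrimeCore p x) =
      Nat.card (pPrimeCore p ↥(centralizer ({x} : Set G))) :=
    (Nat.card_congr ((pPrimeCore p ↥(centralizer ({x} : Set G))).equivMapOfInjective _
      (Subgroup.subtype_injective _)).toEquiv).symm
  rw [this]; exact pPrimeCore_coprime p

theorem centralizerPPrimeCore_le_centralizer (p : ℕ) (x : G) :
    centralizerPPrimeCore p x ≤ centralizer ({x} : Set G) := Subgroup.map_subtype_le _

/-- `C_G(x)` normalizes `O_{p'}(C_G(x))`. -/
theorem conj_mem_centralizerPPrimeCore (p : ℕ) (x : G) {w d : G}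
    (hw : w ∈ centralizerPPrimeCore p x) (hd : d ∈ centralizer ({x} : Set G)) :
    d * w * d⁻¹ ∈ centralizerPPrimeCore p x := by
  obtain ⟨y, hy, rfl⟩ := hw
  have hYn : (pPrimeCore p ↥(centralizer ({x} : Set G))).Normal := inferInstance
  exact ⟨_, hYn.conj_mem y hy ⟨d, hd⟩, rfl⟩

/-- If `O_{p'}(G) = 1` and `x` is a `p`-element, then `O_{p'}(C_G(x))` normalizes every component
of `G`. -/
theorem centralizerPPrimeCore_le_componentKernel [Finite G] (p : ℕ) [Fact p.Prime]
    (hO : pPrimeCore p G = ⊥) (x : G) (hx : IsPGroup p (zpowers x)) :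
    centralizerPPrimeCore p x ≤ componentKernel G := by
  have hYn : (pPrimeCore p ↥(centralizer ({x} : Set G))).Normal := inferInstance
  have hYco : (Nat.card (pPrimeCore p ↥(centralizer ({x} : Set G)))).Coprime p :=
    pPrimeCore_coprime p
  have hWco := centralizerPPrimeCore_coprime (G := G) p x
  have hWC := centralizerPPrimeCore_le_centralizer (G := G) p x
  have hxcomm : ∀ g ∈ centralizer ({x} : Set G), ∀ t ∈ zpowers x, t * g = g * t := by
    intro g hg t ht
    obtain ⟨k, rfl⟩ := Subgroup.mem_zpowers_iff.mp ht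
    have h2 : x * g = g * x := (Subgroup.mem_centralizer_iff.mp hg) x (Set.mem_singleton x)
    exact Commute.zpow_left h2 k
  have hWP : centralizerPPrimeCore p x ≤ centralizer (zpowers x : Set G) := by
    intro w hw
    rw [Subgroup.mem_centralizer_iff]
    exact hxcomm w (hWC hw)
  have hPC : centralizer (zpowers x : Set G) ≤ centralizer ({x} : Set G) :=
    Subgroup.centralizer_le (Set.singleton_subset_iff.mpr (Subgroup.mem_zpowers x))
  have hQn : (pCore p G).Normal := Helper70.pCore_normal p G
  have hWQ : centralizerPPrimeCore p x ≤ centralizer (pCore p G : Set G) := by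
    have hnorm : normalizer ((pCore p G : Subgroup G) : Set G) = ⊤ := Subgroup.normalizer_eq_top _
    have hAB : ⁅zpowers x, centralizerPPrimeCore p x⁆ = ⊥ := by
      rw [Subgroup.commutator_eq_bot_iff_le_centralizer, Subgroup.le_centralizer_iff]
      exact hWP
    have hC : pCore p G ⊓ centralizer (zpowers x : Set G) ≤
        centralizer (centralizerPPrimeCore p x : Set G) := by
      intro q hq
      have hqC : q ∈ centralizer ({x} : Set G) := hPC (Subgroup.mem_inf.mp hq).2
      rw [Subgroup.mem_centralizer_iff]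
      rintro _ ⟨y, hy, rfl⟩
      have hQ'n : ((pCore p G).subgroupOf (centralizer ({x} : Set G))).Normal := inferInstance
      have hdis : Disjoint ((pCore p G).subgroupOf (centralizer ({x} : Set G)))
          (pPrimeCore p ↥(centralizer ({x} : Set G))) := by
        rw [disjoint_iff]
        apply eq_bot_of_isPGroup_of_coprime (p := p)
        · exact (Helper70.pCore_isPGroup.comap_subtype).to_le inf_le_left
        · exact Nat.Coprime.coprime_dvd_left (Subgroup.card_dvd_of_le inf_le_right) hYco
      have h3 := Subgroup.commute_of_normal_of_disjoint _ _ hQ'n hYn hdis ⟨q, hqC⟩ y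
        (Subgroup.mem_subgroupOf.mpr (Subgroup.mem_inf.mp hq).1) hy
      exact (congrArg Subtype.val h3.eq).symm
    have hmain := thompson_AxB (zpowers x) (centralizerPPrimeCore p x) hx hWco hAB (pCore p G)
      Helper70.pCore_isPGroup (by rw [hnorm]; exact le_top) (by rw [hnorm]; exact le_top) hC
    rw [Subgroup.commutator_eq_bot_iff_le_centralizer, Subgroup.le_centralizer_iff] at hmain
    exact hmain
  intro w hw
  rw [mem_componentKernel]
  intro L hL
  have hwo : (orderOf w).Coprime p := by
    have h1 : orderOf (⟨w, hw⟩ : ↥(centralizerPPrimeCore p x)) ∣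
        Nat.card (centralizerPPrimeCore p x) := orderOf_dvd_natCard _
    rw [← Subgroup.orderOf_coe] at h1
    exact Nat.Coprime.coprime_dvd_left h1 hWco
  apply conj_component_eq_of_pprime p hO (zpowers x) hx (centralizerPPrimeCore p x) hWco w hwo
    (hWP hw) (hWQ hw) _ L hL
  intro e _ heP
  have heC : e ∈ centralizer ({x} : Set G) := hPC heP
  have h1 := conj_mem_centralizerPPrimeCore p x hw (Subgroup.inv_mem _ heC)
  have e' : e⁻¹ * (w * e * w⁻¹) = (e⁻¹ * w * e⁻¹⁻¹) * w⁻¹ := by group
  rw [e']
  exact Subgroup.mul_mem _ h1 (Subgroup.inv_mem _ hw)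

/-- `conjProd x l n = l^{x^n} ⋯ l^{x^2} l^{x}` (conjugation on the left). -/
def conjProd (x l : G) : ℕ → G
  | 0 => 1
  | (n + 1) => (x ^ (n + 1) * l * (x ^ (n + 1))⁻¹) * conjProd x l n

theorem conjProd_shift (x l : G) (n : ℕ) :
    x * conjProd x l n * x⁻¹ * (x * l * x⁻¹) = conjProd x l (n + 1) := by
  induction n with
  | zero => simp [conjProd]
  | succ n ih =>
    calc x * conjProd x l (n + 1) * x⁻¹ * (x * l * x⁻¹)
        = x * ((x ^ (n + 1) * l * (x ^ (n + 1))⁻¹) * conjProd x l n) * x⁻¹ * (x * l * x⁻¹) := rfl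
      _ = (x ^ (n + 1 + 1) * l * (x ^ (n + 1 + 1))⁻¹) *
            (x * conjProd x l n * x⁻¹ * (x * l * x⁻¹)) := by
          rw [pow_succ' x (n + 1)]; group
      _ = (x ^ (n + 1 + 1) * l * (x ^ (n + 1 + 1))⁻¹) * conjProd x l (n + 1) := by rw [ih]
      _ = conjProd x l (n + 1 + 1) := rfl

theorem conjProd_mem (x l : G) (K : Subgroup G) (n : ℕ)
    (h : ∀ i : ℕ, 0 < i → i ≤ n → x ^ i * l * (x ^ i)⁻¹ ∈ K) : conjProd x l n ∈ K := by
  induction n with
  | zero => exact K.one_mem
  | succ n ih =>
    have e : conjProd x l (n + 1) = (x ^ (n + 1) * l * (x ^ (n + 1))⁻¹) * conjProd x l n := rfl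
    rw [e]
    exact K.mul_mem (h (n + 1) (Nat.succ_pos n) le_rfl)
      (ih fun i hi hin => h i hi (Nat.le_succ_of_le hin))

/-- The "diagonal" element `l^{x^{p-1}} ⋯ l^{x} l` commutes with `x` when `x^p = 1` and `l`
commutes with the product of its other conjugates. -/
theorem conjProd_mul_commute (x l : G) (p : ℕ) (hp : 0 < p) (hxp : x ^ p = 1)
    (hcomm : conjProd x l (p - 1) * l = l * conjProd x l (p - 1)) :
    x * (conjProd x l (p - 1) * l) = (conjProd x l (p - 1) * l) * x := by
  have h1 := conjProd_shift x l (p - 1)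
  have hp1 : p - 1 + 1 = p := Nat.sub_add_cancel hp
  have e : conjProd x l (p - 1 + 1) =
      (x ^ (p - 1 + 1) * l * (x ^ (p - 1 + 1))⁻¹) * conjProd x l (p - 1) := rfl
  rw [e, hp1, hxp, inv_one, mul_one, one_mul, ← hcomm] at h1
  calc x * (conjProd x l (p - 1) * l)
      = (x * conjProd x l (p - 1) * x⁻¹ * (x * l * x⁻¹)) * x := by group
    _ = (conjProd x l (p - 1) * l) * x := by rw [h1]

/-- Conjugating by an element of `N_G(L)` preserves `C_G(L)`. -/
theorem conj_mem_centralizer_of_mem_normalizer (L : Subgroup G) {w c : G}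
    (hw : w ∈ normalizer (L : Set G)) (hc : c ∈ centralizer (L : Set G)) :
    w * c * w⁻¹ ∈ centralizer (L : Set G) := by
  rw [Subgroup.mem_centralizer_iff]
  intro l hl
  have h1 : w⁻¹ * l * w ∈ L := (Subgroup.mem_normalizer_iff''.mp hw l).mp hl
  have h2 : (w⁻¹ * l * w) * c = c * (w⁻¹ * l * w) := (Subgroup.mem_centralizer_iff.mp hc) _ h1
  calc l * (w * c * w⁻¹) = w * ((w⁻¹ * l * w) * c) * w⁻¹ := by group
    _ = w * (c * (w⁻¹ * l * w)) * w⁻¹ := by rw [h2]
    _ = w * c * w⁻¹ * l := by group

/-- **S1270.**  Let `O_{p'}(G) = 1`, `x` of order `p`, and `L` a component with `[L, ⟨x⟩] ≠ L`.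
Then `[L, O_{p'}(C_G(x))] = 1`. -/
theorem component_commutator_centralizerPPrimeCore [Finite G] (p : ℕ) [Fact p.Prime]
    (hO : pPrimeCore p G = ⊥) (x : G) (hx : orderOf x = p) (L : Subgroup G) (hL : IsComponent L)
    (hne : ⁅L, zpowers x⁆ ≠ L) : ⁅L, centralizerPPrimeCore p x⁆ = ⊥ := by
  have hp : p.Prime := Fact.out
  have hxP : IsPGroup p (zpowers x) := by
    apply IsPGroup.of_card (n := 1)
    rw [Nat.card_zpowers, hx, pow_one]
  have hxp : x ^ p = 1 := by rw [← hx]; exact pow_orderOf_eq_one x
  have hWK := centralizerPPrimeCore_le_componentKernel p hO x hxP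
  have hWL : centralizerPPrimeCore p x ≤ normalizer (L : Set G) := fun w hw =>
    (cj_eq_self_iff L w).mp (mem_componentKernel.mp (hWK hw) L hL)
  have hWC := centralizerPPrimeCore_le_centralizer (G := G) p x
  have hWco := centralizerPPrimeCore_coprime (G := G) p x
  by_cases hxL : x ∈ normalizer (L : Set G)
  · -- `x` normalizes `L`
    have hXL : zpowers x ≤ normalizer (L : Set G) := Subgroup.zpowers_le.mpr hxL
    rcases component_commutator_eq_self_or_bot L (zpowers x) hL hXL with h | h
    · exact absurd h hne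
    · have hLC : L ≤ centralizer ({x} : Set G) := by
        rw [Subgroup.commutator_eq_bot_iff_le_centralizer] at h
        exact h.trans (Subgroup.centralizer_le
          (Set.singleton_subset_iff.mpr (Subgroup.mem_zpowers x)))
      have hL' : IsComponent (L.subgroupOf (centralizer ({x} : Set G))) :=
        Helper22.IsComponent.subgroupOf hL hLC
      have hYn : (pPrimeCore p ↥(centralizer ({x} : Set G))).Normal := inferInstance
      rcases Helper21.component_le_or_commutator_eq_bot _ _ hL' hYn.isSubnormal with h1 | h1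
      · exfalso
        have hLco : (Nat.card L).Coprime p := by
          have e1 : Nat.card (L.subgroupOf (centralizer ({x} : Set G))) = Nat.card L :=
            Nat.card_congr (Subgroup.subgroupOfEquivOfLe hLC).toEquiv
          rw [← e1]
          exact Nat.Coprime.coprime_dvd_left (Subgroup.card_dvd_of_le h1) (pPrimeCore_coprime p)
        have hle := subnormal_le_pPrimeCore p hL.1 hLco
        rw [hO, le_bot_iff] at hle
        exact Helper22.IsQuasisimple.ne_bot hL.2 hle
      · have h2 := congrArg (Subgroup.map (centralizer ({x} : Set G)).subtype) h1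
        rw [Subgroup.map_commutator, Subgroup.map_bot, Subgroup.map_subgroupOf_eq_of_le hLC] at h2
        exact h2
  · -- `x` moves `L`
    rcases component_commutator_eq_self_or_bot L (centralizerPPrimeCore p x) hL hWL with h | h
    swap
    · exact h
    exfalso
    have hpow_notin : ∀ i : ℕ, 0 < i → i < p → x ^ i ∉ normalizer (L : Set G) := by
      intro i hi0 hip hmem
      apply hxL
      have hco : i.Coprime (orderOf x) := by
        rw [hx]; exact (Nat.coprime_of_lt_prime hi0.ne' hip hp).symm
      obtain ⟨m, hm⟩ := exists_pow_eq_self_of_coprime hco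
      rw [← hm]; exact Subgroup.pow_mem _ hmem m
    have hcen : ∀ i : ℕ, 0 < i → i < p → ∀ l ∈ L,
        x ^ i * l * (x ^ i)⁻¹ ∈ centralizer (L : Set G) := by
      intro i hi0 hip l hl
      have hne' : cj (x ^ i) L ≠ L := fun h =>
        hpow_notin i hi0 hip ((cj_eq_self_iff L _).mp h)
      have hcomm := Helper22.component_commute (Helper22.IsComponent.conj hL (x ^ i)) hL hne'
      rw [Subgroup.commutator_eq_bot_iff_le_centralizer] at hcomm
      exact hcomm (conj_mem_cj_of_mem hl)
    -- `[L, W] ≤ W ⊔ C_G(L)`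
    have hLW : ⁅L, centralizerPPrimeCore p x⁆ ≤
        centralizerPPrimeCore p x ⊔ centralizer (L : Set G) := by
      rw [Subgroup.commutator_le]
      intro l hl w hw
      have hr : conjProd x l (p - 1) ∈ centralizer (L : Set G) := by
        apply conjProd_mem
        intro i hi0 hip
        exact hcen i hi0 (Nat.lt_of_le_of_lt hip (Nat.sub_lt hp.pos Nat.one_pos)) l hl
      have hcomm : conjProd x l (p - 1) * l = l * conjProd x l (p - 1) :=
        ((Subgroup.mem_centralizer_iff.mp hr) l hl).symm
      have hδ : conjProd x l (p - 1) * l ∈ centralizer ({x} : Set G) := by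
        rw [Subgroup.mem_centralizer_iff]
        intro t ht
        rw [Set.mem_singleton_iff] at ht
        rw [ht]
        exact conjProd_mul_commute x l p hp.pos hxp hcomm
      have hu : (conjProd x l (p - 1) * l) * w * (conjProd x l (p - 1) * l)⁻¹ * w⁻¹ ∈
          centralizerPPrimeCore p x :=
        Subgroup.mul_mem _ (conj_mem_centralizerPPrimeCore p x hw hδ) (Subgroup.inv_mem _ hw)
      have hr' : w * conjProd x l (p - 1) * w⁻¹ ∈ centralizer (L : Set G) :=
        conj_mem_centralizer_of_mem_normalizer L (hWL hw) hr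
      have e : ⁅l, w⁆ = (conjProd x l (p - 1))⁻¹ *
          ((conjProd x l (p - 1) * l) * w * (conjProd x l (p - 1) * l)⁻¹ * w⁻¹) *
          (w * conjProd x l (p - 1) * w⁻¹) := by
        rw [commutatorElement_def]; group
      rw [e]
      exact Subgroup.mul_mem _ (Subgroup.mul_mem _
        (Subgroup.mem_sup_right (Subgroup.inv_mem _ hr)) (Subgroup.mem_sup_left hu))
        (Subgroup.mem_sup_right hr')
    rw [h] at hLW
    -- a noncentral `p`-element of `L`
    obtain ⟨T⟩ : Nonempty (Sylow p G) := inferInstance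
    obtain ⟨s, hsT, hsL, hsC⟩ := exists_mem_sylow_not_mem_centralizer_component hO T hL
    obtain ⟨j, hj⟩ : ∃ j : ℕ, s ^ p ^ j = 1 := by
      obtain ⟨j, hj⟩ := T.isPGroup' ⟨s, hsT⟩
      exact ⟨j, by simpa using congrArg Subtype.val hj⟩
    have hWN : centralizerPPrimeCore p x ≤ normalizer ((centralizer (L : Set G) : Subgroup G) : Set G) := by
      intro w hw
      rw [Subgroup.mem_normalizer_iff]
      intro c
      constructor
      · exact fun hc => conj_mem_centralizer_of_mem_normalizer L (hWL hw) hc
      · intro hc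
        have := conj_mem_centralizer_of_mem_normalizer L (Subgroup.inv_mem _ (hWL hw)) hc
        have e : w⁻¹ * (w * c * w⁻¹) * w⁻¹⁻¹ = c := by group
        rwa [e] at this
    have hs : s ∈ ((centralizerPPrimeCore p x ⊔ centralizer (L : Set G) : Subgroup G) : Set G) :=
      hLW hsL
    rw [Subgroup.coe_mul_of_left_le_normalizer_right _ _ hWN] at hs
    obtain ⟨w, hw, c, hc, hwc⟩ := Set.mem_mul.mp hs
    have hw' : w = s * c⁻¹ := by rw [← hwc]; group
    have hsc : Commute s c⁻¹ := by
      have := (Subgroup.mem_centralizer_iff.mp (Subgroup.inv_mem _ hc)) s hsL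
      exact this
    have hwn : w ^ Nat.card (centralizerPPrimeCore p x) = 1 := by
      have h5 : ((⟨w, hw⟩ : ↥(centralizerPPrimeCore p x)) ^
          Nat.card (centralizerPPrimeCore p x) : ↥(centralizerPPrimeCore p x)) = 1 :=
        pow_card_eq_one'
      have h6 : (((⟨w, hw⟩ : ↥(centralizerPPrimeCore p x)) ^
          Nat.card (centralizerPPrimeCore p x) : ↥(centralizerPPrimeCore p x)) : G) = 1 := by
        rw [h5]; rfl
      rwa [Subgroup.coe_pow] at h6
    rw [hw', hsc.mul_pow] at hwn
    have hsn : s ^ Nat.card (centralizerPPrimeCore p x) ∈ centralizer (L : Set G) := by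
      have : s ^ Nat.card (centralizerPPrimeCore p x) =
          (c ^ Nat.card (centralizerPPrimeCore p x)) := by
        have h5 := hwn
        rw [inv_pow, mul_inv_eq_one] at h5
        exact h5
      rw [this]; exact Subgroup.pow_mem _ hc _
    have hco : (Nat.card (centralizerPPrimeCore p x)).Coprime (orderOf s) := by
      have hdvd : orderOf s ∣ p ^ j := orderOf_dvd_of_pow_eq_one hj
      exact Nat.Coprime.coprime_dvd_right hdvd (Nat.Coprime.pow_right j hWco)
    obtain ⟨m, hm⟩ := exists_pow_eq_self_of_coprime hco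
    apply hsC
    rw [← hm]
    exact Subgroup.pow_mem _ hsn m

end Cfsg.Agent.Helper30
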