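import Mathlib
import Cfsg.Agent.Lib.Helper30.BG144cRows

/-! B-G Theorem 14.4(c) (row S1376): shared structures for the hypothesis-parametrised proof. -/

set_option autoImplicit false
set_option linter.unusedVariables false

namespace Cfsg.Agent.Helper30.BG144c

open Cfsg Subgroup

universe u

variable {G : Type u} [Group G] [Finite G]

/-- The refined Frobenius lemma (helper99's `FrobFR.frob_centralizes`) as a `Prop`. -/
def FR (G : Type u) [Group G] [Finite G] : Prop :=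
  ∀ {p q r : ℕ} (hp : p.Prime) (hq : q.Prime) (hr : r.Prime) (hp2 : p ≠ 2) (hq2 : q ≠ 2)
    (hpq : p ≠ q) (hpr : p ≠ r) (hqr : q ≠ r) (X K : Subgroup G) (x : G) (hX : IsPGroup p X)
    (hK : IsPGroup q K) (hKX : K ≤ normalizer (X : Set G)) (hxX : x ∈ normalizer (X : Set G))
    (hxK : ∀ u ∈ K, x * u * x⁻¹ ∈ K) (hxr : x ^ r = 1)
    (hKgen : K ≤ Subgroup.closure {g | ∃ u ∈ K, g = x * u * x⁻¹ * u⁻¹})
    (hΩ : ∀ y ∈ X, x * y = y * x → y ^ p = 1 → y ∈ centralizer (K : Set G)),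
    X ≤ centralizer (K : Set G)

/-- Output of the first set-up step: `x0` a power of `x` of prime order `q`, and a standard
factorisation `N = K U N_σ` adapted to `M`. -/
structure SetupA (M N : Subgroup G) (x0 : G) (q : ℕ) (K U : Subgroup G) : Prop where
  hq : q.Prime
  hx0 : x0 ∈ sigmaCore M
  hx0o : orderOf x0 = q
  hx0M : ¬ centralizer ({x0} : Set G) ≤ M
  hx0N : centralizer ({x0} : Set G) ≤ N
  huniq : ∀ L : Subgroup G, IsCoatom L → centralizer ({x0} : Set G) ≤ L → L = N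
  hcompl : IsComplIn (M ⊓ N) (sigmaCore N) N
  hR : sigmaCore N ⊓ centralizer ({x0} : Set G) ≠ ⊥
  hKU : IsSigmaDecomposition N K U
  hK1 : K ≠ ⊥
  hU1 : U ≠ ⊥
  hx0U : x0 ∈ U
  hNR : ∃ Rq : Subgroup G, Rq ≤ U ∧ IsPGroup q Rq ∧ ¬ q ∣ Rq.relIndex U ∧ q ∣ Nat.card Rq ∧
    normalizer (Rq : Set G) ≤ M
  hnc : ∀ g : G, N ≠ M.map (MulAut.conj g).toMonoidHom

/-- Output of the second set-up step (partner `Nst` of `N`, `E = M ⊓ Nst`). -/
structure SetupB (M N Nst : Subgroup G) (x0 : G) (K U : Subgroup G) (p : ℕ) : Prop where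
  hNst : IsCoatom Nst
  hKst : K = sigmaCore Nst ⊓
    centralizer ((sigmaCore N ⊓ centralizer (K : Set G) : Subgroup G) : Set G)
  hKstH : IsPiHallOf (kappa Nst) (sigmaCore N ⊓ centralizer (K : Set G)) Nst
  hκ : kappa M = ∅
  hE : IsComplIn (M ⊓ Nst) (sigmaCore M) M
  hKE : K ≤ M ⊓ Nst
  hp : p.Prime
  hKp : Nat.card K = p
  hKfpf : ∀ k ∈ K, k ≠ 1 → sigmaCore M ⊓ centralizer ({k} : Set G) = ⊥
  hF1 : ∀ e ∈ M ⊓ Nst, e * x0 = x0 * e → e = 1

/-- Data attached to a prime `s ∈ τ₂(M)`: `A ≤ E = M ⊓ Nst` elementary abelian of order `s²`,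
`S ≥ A` an (abelian) Sylow `s`-subgroup of `G` inside `E` with `Ω₁(S) = A`, and a "bad" element
`a ∈ A` (`C_{M_σ}(a) ≠ 1`, hence `C_G(a)` lies in `M` only). -/
structure SetupD (M Nst : Subgroup G) (s : ℕ) (A S : Subgroup G) (a : G) : Prop where
  hs : s.Prime
  hsτ : s ∈ tau2 M
  hAE : A ≤ M ⊓ Nst
  hA : IsElementaryAbelian s A
  hAc : Nat.card A = s ^ 2
  hCA : centralizer (A : Set G) ≤ M ⊓ Nst
  haA : a ∈ A
  ha1 : a ≠ 1
  hbad : sigmaCore M ⊓ centralizer ({a} : Set G) ≠ ⊥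
  haM : centralizer ({a} : Set G) ≤ M
  hauniq : ∀ L : Subgroup G, IsCoatom L → centralizer ({a} : Set G) ≤ L → L = M
  hAS : A ≤ S
  hSE : S ≤ M ⊓ Nst
  hSp : IsPGroup s S
  hSsyl : ¬ s ∣ S.index
  hSΩ : ∀ x ∈ S, x ^ s = 1 → x ∈ A

/-- Structure of the partner `Nst` once `A ≤ (Nst)_σ` is known: `Kst = C_{N_σ}(K)` is a nontrivial
complement of `(Nst)_σ = Nst'` in `Nst`, and `K ≤ ((Nst)_σ)'`. -/
structure SetupS (N Nst K : Subgroup G) : Prop where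
  hKst1 : sigmaCore N ⊓ centralizer (K : Set G) ≠ ⊥
  hdec : IsSigmaDecomposition Nst (sigmaCore N ⊓ centralizer (K : Set G)) ⊥
  hder : ⁅Nst, Nst⁆ = sigmaCore Nst
  hKder : K ≤ ⁅sigmaCore Nst, sigmaCore Nst⁆

end Cfsg.Agent.Helper30.BG144c
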