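import Mathlib
import Cfsg.Agent.Lib.Helper62.SLN0

/-!
# SLN (helper62 server, S2332): piece (K1b3) k1b_three (helper30)
-/

set_option autoImplicit false

namespace Cfsg.Agent.Helper30.SLN

open Matrix Module Cfsg.Agent.Helper93.U2 Cfsg.Agent.Helper62.SLN

section SLN

variable {F : Type*} [Field F] [Fintype F] [DecidableEq F] {κ : Type} [Fintype κ] [DecidableEq κ]
  {V : Type*} [AddCommGroup V] [Module ℂ V] [FiniteDimensional ℂ V]
  (ψ : AddChar F ℂ) (pr : Pairing (κ → F)) (hpr : ∀ w u, pr.β w u = ψ (w ⬝ᵥ u))
  (ρ : Representation ℂ (SpecialLinearGroup (Unit ⊕ κ) F) V)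

include hpr

omit [DecidableEq F] in
/-- piece K1b3 : for `n = 3` the stabiliser in `Q` of a weight `w ∉ F e_j` is trivial -/
theorem k1b_three (hκ : Fintype.card κ = 2) (j : κ) (w : κ → F) (hwj : w j = 0) (hw : w ≠ 0)
    (t : κ → F) (ht : t ⬝ᵥ w = 0) : qEl (F := F) j t = 1 := by
  -- a coordinate where `w` does not vanish
  obtain ⟨i0, hi0⟩ : ∃ i, w i ≠ 0 := by
    by_contra hcon
    push Not at hcon
    exact hw (funext hcon)
  have hi0j : i0 ≠ j := fun h => hi0 (h ▸ hwj)
  have hall : ∀ k : κ, k = j ∨ k = i0 := by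
    intro k
    by_contra hcon
    push Not at hcon
    obtain ⟨hkj, hki⟩ := hcon
    have h3 : ({j, i0, k} : Finset κ).card = 3 := by
      rw [Finset.card_insert_of_notMem, Finset.card_insert_of_notMem, Finset.card_singleton]
      · simpa using hki.symm
      · simp only [Finset.mem_insert, Finset.mem_singleton, not_or]
        exact ⟨hi0j.symm, hkj.symm⟩
    have h4 := Finset.card_le_univ ({j, i0, k} : Finset κ)
    omega
  have hti0 : t i0 = 0 := by
    have h1 : t ⬝ᵥ w = t i0 * w i0 := by
      unfold dotProduct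
      apply Finset.sum_eq_single i0
      · intro k _ hk
        rcases hall k with h | h
        · rw [h, hwj, mul_zero]
        · exact absurd h hk
      · intro h; exact absurd (Finset.mem_univ i0) h
    rw [h1] at ht
    rcases mul_eq_zero.mp ht with h | h
    · exact h
    · exact absurd h hi0
  have hupd : Function.update t j 0 = 0 := by
    funext k
    rcases hall k with h | h
    · rw [h, Function.update_self]; rfl
    · rw [h, Function.update_of_ne hi0j, hti0]; rfl
  have htv : tvEl (F := F) j t = 1 := by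
    apply Subtype.ext
    rw [tvEl_val, hupd]
    simp
  unfold qEl
  rw [htv]
  apply Subtype.ext
  rw [lEl_val]
  simp

end SLN

end Cfsg.Agent.Helper30.SLN
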