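import Mathlib
import Cfsg.Agent.Lib.Helper30.BG144cDefs
import Cfsg.Agent.Lib.Helper55.BGHall
import Cfsg.Agent.Lib.Helper60.BG144b

/-! B-G 14.4(c) (row S1376): basic consequences of `SetupA`, `SetupB`. -/

set_option autoImplicit false
set_option linter.unusedVariables false

namespace Cfsg.Agent.Helper30.BG144c

open Cfsg Subgroup

universe u

variable {G : Type u} [Group G] [Finite G]

theorem SetupA.x0_ne_one {M N : Subgroup G} {x0 : G} {q : ℕ} {K U : Subgroup G}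
    (A : SetupA M N x0 q K U) : x0 ≠ 1 := by
  intro h
  have := A.hx0o
  rw [h, orderOf_one] at this
  exact A.hq.one_lt.ne this

theorem SetupB.E_inf_sigmaCore {M N Nst : Subgroup G} {x0 : G} {K U : Subgroup G} {p : ℕ}
    (B : SetupB M N Nst x0 K U p) : (M ⊓ Nst) ⊓ sigmaCore M = ⊥ := B.hE.2.2.1

theorem SetupB.mem_E_sigmaCore {M N Nst : Subgroup G} {x0 : G} {K U : Subgroup G} {p : ℕ}
    (B : SetupB M N Nst x0 K U p) {g : G} (h1 : g ∈ M ⊓ Nst) (h2 : g ∈ sigmaCore M) : g = 1 := by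
  have : g ∈ (M ⊓ Nst) ⊓ sigmaCore M := ⟨h1, h2⟩
  rw [B.E_inf_sigmaCore] at this
  exact Subgroup.mem_bot.mp this

theorem SetupB.K_ne_bot {M N Nst : Subgroup G} {x0 : G} {K U : Subgroup G} {p : ℕ}
    (B : SetupB M N Nst x0 K U p) : K ≠ ⊥ := by
  intro h
  have := B.hKp
  rw [h, Subgroup.card_bot] at this
  exact B.hp.one_lt.ne this

theorem SetupB.exists_k {M N Nst : Subgroup G} {x0 : G} {K U : Subgroup G} {p : ℕ}
    (B : SetupB M N Nst x0 K U p) : ∃ k ∈ K, k ≠ 1 := by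
  by_contra h
  push_neg at h
  exact B.K_ne_bot ((Subgroup.eq_bot_iff_forall _).mpr h)

theorem SetupB.p_not_sigma (r1350 : R1350 G) {M N Nst : Subgroup G} (hM : IsCoatom M) {x0 : G}
    {K U : Subgroup G} {p : ℕ} (B : SetupB M N Nst x0 K U p) : p ∉ sigma M := by
  intro hpσ
  have hK : IsPGroup p K := by
    haveI := Fact.mk B.hp
    exact IsPGroup.of_card (n := 1) (by rw [B.hKp, pow_one])
  have hKM : K ≤ M := B.hKE.trans inf_le_left
  have hle := Cfsg.Agent.Helper55.BGB.le_sigmaCore_of_isPGroup B.hp (r1350 M hM).1 hpσ hKM hK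
  obtain ⟨k, hk, hk1⟩ := B.exists_k
  exact hk1 (B.mem_E_sigmaCore (B.hKE hk) (hle hk))

theorem SetupB.p_dvd_card {M N Nst : Subgroup G} {x0 : G}
    {K U : Subgroup G} {p : ℕ} (B : SetupB M N Nst x0 K U p) : p ∣ Nat.card M := by
  have hKM : K ≤ M := B.hKE.trans inf_le_left
  have := Subgroup.card_dvd_of_le hKM
  rwa [B.hKp] at this

/-- `M_σ` is nilpotent. -/
theorem SetupB.sigmaCore_nilpotent (r1350 : R1350 G) (r1429 : R1429 G) {M N Nst : Subgroup G}
    (hM : IsCoatom M) {x0 : G} {K U : Subgroup G} {p : ℕ} (B : SetupB M N Nst x0 K U p) :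
    Group.IsNilpotent (sigmaCore M) := by
  haveI := Fact.mk B.hp
  have hpσ := B.p_not_sigma r1350 hM
  have hpM := B.p_dvd_card
  have hP1 : ¬ (∀ q : ℕ, q.Prime → q ∣ Nat.card M → q ∉ sigma M → q ∈ kappa M) := by
    intro h
    have := h p B.hp hpM hpσ
    rw [B.hκ] at this
    exact this
  have hp' : p ∉ sigma M ∪ kappa M := by
    rw [B.hκ, Set.union_empty]
    exact hpσ
  obtain ⟨S⟩ : Nonempty (Sylow p M) := inferInstance
  exact (r1429 M hM hP1 p hpM hp' S).2.2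

end Cfsg.Agent.Helper30.BG144c
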