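import Mathlib
import Cfsg.Agent.Lib.Helper30.BG144cCommon
import Cfsg.Agent.Lib.Helper25.BG142Q17

/-! B-G 14.4(c) (row S1376), piece (D3): the structure of the partner `Nst`. -/

set_option autoImplicit false
set_option linter.unusedVariables false

namespace Cfsg.Agent.Helper30.BG144c

open Cfsg Subgroup

universe u

variable {G : Type u} [Group G] [Finite G]

/-- (D3) -/
theorem setupS (hG : IsMinSimpleOddOrder G) (r1350 : R1350 G) (r1351 : R1351 G)
    (r1352 : R1352 G) (r1365 : R1365 G) (r1372 : R1372 G)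
    {M N Nst : Subgroup G} (hM : IsCoatom M) (hN : IsCoatom N) {x0 : G} {q p : ℕ}
    {K U : Subgroup G}
    (A : SetupA M N x0 q K U) (B : SetupB M N Nst x0 K U p)
    {s : ℕ} {A' S : Subgroup G} {a : G} (D : SetupD M Nst s A' S a)
    (hSσ : S ≤ sigmaCore Nst) :
    SetupS N Nst K := by
  have hNst := B.hNst
  -- `Kst ≠ ⊥`
  have hKst1 : sigmaCore N ⊓ centralizer (K : Set G) ≠ ⊥ :=
    Cfsg.Agent.Helper25.BG142Req.cent_ne_bot_of_le_kappa_hall N K A.hKU.hall K le_rfl
      (by rw [B.hKp]; exact B.hp)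
  have hcyc : IsCyclic ↥(sigmaCore N ⊓ centralizer (K : Set G)) :=
    (r1351 Nst hNst).2 _ B.hKstH
  obtain ⟨Ust, hdec⟩ := (r1352 Nst hNst _ hcyc B.hKstH).1
  have hUst : Ust = ⊥ := by
    by_contra hU1
    obtain ⟨-, hTI, hle⟩ := r1372 Nst hNst _ Ust hdec hKst1 hU1
    have haσ : a ∈ sigmaCore Nst := hSσ (D.hAS D.haA)
    have haF : a ∈ fittingOf Nst := hle haσ
    have hF1 : fittingOf Nst ≠ ⊥ := by
      intro h
      rw [h] at haF
      exact D.ha1 (Subgroup.mem_bot.mp haF)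
    have hnorm : normalizer ((fittingOf Nst : Subgroup G) : Set G) = Nst :=
      Cfsg.Agent.Helper60.BG144.normalizer_eq_of_coatom hG hNst
        (Cfsg.Agent.Helper55.BGB.fittingOf_le Nst) hF1
        (Cfsg.Agent.Helper55.BGB.le_normalizer_fittingOf Nst)
    obtain ⟨c, hc, hc1⟩ : ∃ c ∈ sigmaCore M ⊓ centralizer ({a} : Set G), c ≠ 1 := by
      by_contra h
      push_neg at h
      exact D.hbad ((Subgroup.eq_bot_iff_forall _).mpr h)
    have hcomm : c * a * c⁻¹ = a := by
      have := Subgroup.mem_centralizer_singleton_iff.mp hc.2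
      rw [this]; group
    have hcN : c ∈ Nst := by
      by_contra hcn
      have hcn' : c ∉ normalizer ((fittingOf Nst : Subgroup G) : Set G) := by
        rw [hnorm]; exact hcn
      exact D.ha1 (hTI c hcn' a haF (by rw [hcomm]; exact haF))
    have hcM : c ∈ M := Cfsg.Agent.Helper55.BGB.sigmaCore_le M hc.1
    exact hc1 (B.mem_E_sigmaCore ⟨hcM, hcN⟩ hc.1)
  subst hUst
  obtain ⟨h1, h2⟩ := r1365 Nst hNst _ ⊥ hdec hKst1
  have hder : ⁅Nst, Nst⁆ = sigmaCore Nst := by rw [h1, bot_sup_eq]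
  refine ⟨hKst1, hdec, hder, ?_⟩
  rw [← B.hKst, hder] at h2
  exact h2

end Cfsg.Agent.Helper30.BG144c
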