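import Mathlib
import Cfsg.Agent.Lib.Helper30.BG144cCommon
import Cfsg.Agent.Lib.Helper30.BG144cD3
import Cfsg.Agent.Lib.Helper38.BG144cD1
import Cfsg.Agent.Lib.Helper47.BG144cD2
import Cfsg.Agent.Lib.Helper22.BG144cD4
import Cfsg.Agent.Lib.Helper53.BG144cD5
import Cfsg.Agent.Lib.Helper22.BG161B8

/-! B-G 14.4(c) (row S1376), piece (D): `τ₂(M) = ∅` (assembly of D1–D5). -/

set_option autoImplicit false
set_option linter.unusedVariables false

namespace Cfsg.Agent.Helper30.BG144c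

open Cfsg Subgroup

universe u

variable {G : Type u} [Group G] [Finite G]

/-- No prime `s ∈ τ₂(M)` for which `s ≠ p → PRankLE p 1 M`. -/
theorem tau2_core (hG : IsMinSimpleOddOrder G) (r1350 : R1350 G) (r1351 : R1351 G)
    (r1352 : R1352 G) (r1365 : R1365 G) (r1367 : R1367 G) (r1372 : R1372 G) (r1417 : R1417 G)
    (r1418 : R1418 G) (r1419 : R1419 G) (r1430 : R1430 G)
    (r1432 : R1432 G) (r1437 : R1437 G) (fr : FR G)
    {M N Nst : Subgroup G} (hM : IsCoatom M) (hN : IsCoatom N) {x0 : G} {q p : ℕ}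
    {K U : Subgroup G}
    (A : SetupA M N x0 q K U) (B : SetupB M N Nst x0 K U p)
    (hcomm : ∀ a ∈ M ⊓ Nst, ∀ b ∈ M ⊓ Nst, a * b = b * a)
    {s : ℕ} (hs : s ∈ tau2 M) (hp2 : s ≠ p → PRankLE p 1 M) : False := by
  obtain ⟨A', S, a, D⟩ :=
    Cfsg.Agent.Helper38.BG144c.setupD hG r1350 r1417 r1418 r1419 hM A B hcomm hs
  obtain ⟨hsσ, hSσ⟩ :=
    Cfsg.Agent.Helper47.BG144c.sylow_le_sigmaCore_Nst hG r1350 r1367 r1432 hM hN A B hcomm D
  have T := setupS hG r1350 r1351 r1352 r1365 r1372 hM hN A B D hSσ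
  by_cases hnil : Group.IsNilpotent (sigmaCore Nst)
  · exact Cfsg.Agent.Helper22.BG144c.nilpotent_false hG r1350 hM A B hcomm D hsσ hSσ T hnil
  · exact Cfsg.Agent.Helper53.BG144c.nonnilpotent_false hG r1350 r1430 r1437 fr hM hN A B hcomm D
      hsσ hSσ T hnil hp2

/-- (D) the main claim `τ₂(M) = ∅`. -/
theorem tau2_empty (hG : IsMinSimpleOddOrder G) (r1350 : R1350 G) (r1351 : R1351 G)
    (r1352 : R1352 G) (r1365 : R1365 G) (r1367 : R1367 G) (r1372 : R1372 G) (r1417 : R1417 G)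
    (r1418 : R1418 G) (r1419 : R1419 G) (r1420 : R1420 G) (r1430 : R1430 G) (r1431 : R1431 G)
    (r1432 : R1432 G) (r1437 : R1437 G) (fr : FR G)
    {M N Nst : Subgroup G} (hM : IsCoatom M) (hN : IsCoatom N) {x0 : G} {q p : ℕ}
    {K U : Subgroup G}
    (A : SetupA M N x0 q K U) (B : SetupB M N Nst x0 K U p)
    (hcomm : ∀ a ∈ M ⊓ Nst, ∀ b ∈ M ⊓ Nst, a * b = b * a) :
    tau2 M = ∅ := by
  have hpτ : p ∉ tau2 M := fun h =>
    tau2_core hG r1350 r1351 r1352 r1365 r1367 r1372 r1417 r1418 r1419 r1430 r1432 r1437 fr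
      hM hN A B hcomm h (fun hne => absurd rfl hne)
  have hrank : PRankLE p 1 M := by
    by_contra h
    exact hpτ (Cfsg.Agent.Helper22.BG161.mem_tau2_of_not_prankLE_one hG hM B.hp
      (B.p_not_sigma r1350 hM) h)
  apply Set.eq_empty_iff_forall_notMem.mpr
  intro s hs
  exact tau2_core hG r1350 r1351 r1352 r1365 r1367 r1372 r1417 r1418 r1419 r1430 r1432 r1437 fr
    hM hN A B hcomm hs (fun _ => hrank)

end Cfsg.Agent.Helper30.BG144c
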