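import Mathlib
import Cfsg.Agent.Lib.Helper30.BG144cCommon

/-! B-G 14.4(c) (row S1376), piece (F): `M_F` is not a TI-subset. -/

set_option autoImplicit false
set_option linter.unusedVariables false

namespace Cfsg.Agent.Helper30.BG144c

open Cfsg Subgroup

universe u

variable {G : Type u} [Group G] [Finite G]

/-- (F) `M_F` is not TI. -/
theorem not_TI (hG : IsMinSimpleOddOrder G) (r1350 : R1350 G) (r1429 : R1429 G)
    {M N Nst : Subgroup G} (hM : IsCoatom M) {x0 : G} {q p : ℕ} {K U : Subgroup G}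
    (A : SetupA M N x0 q K U) (B : SetupB M N Nst x0 K U p) :
    ¬ IsTISubset (fittingHallOf M : Set G) := by
  intro hTI
  have hnil := B.sigmaCore_nilpotent r1350 r1429 hM
  have hle : sigmaCore M ≤ fittingHallOf M :=
    Cfsg.Agent.Helper60.BG144.sigmaCore_le_fittingHallOf_of_nil (r1350 M hM).1 hnil
  have hx0F : x0 ∈ fittingHallOf M := hle A.hx0
  have hF1 : fittingHallOf M ≠ ⊥ := by
    intro h
    rw [h] at hx0F
    exact A.x0_ne_one (Subgroup.mem_bot.mp hx0F)
  have hnorm : normalizer ((fittingHallOf M : Subgroup G) : Set G) = M :=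
    Cfsg.Agent.Helper60.BG144.normalizer_eq_of_coatom hG hM
      (Cfsg.Agent.Helper55.BGB.fittingHallOf_le M) hF1
      (Cfsg.Agent.Helper55.BGB.le_normalizer_fittingHallOf M)
  -- pick `r ≠ 1` in `N_σ ⊓ C(x0)`
  obtain ⟨r, hr, hr1⟩ : ∃ r ∈ sigmaCore N ⊓ centralizer ({x0} : Set G), r ≠ 1 := by
    by_contra h
    push_neg at h
    exact A.hR ((Subgroup.eq_bot_iff_forall _).mpr h)
  have hrM : r ∉ M := by
    intro hrM
    have hrN : r ∈ N := A.hcompl.2.1 hr.1
    have : r ∈ (M ⊓ N) ⊓ sigmaCore N := ⟨⟨hrM, hrN⟩, hr.1⟩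
    rw [A.hcompl.2.2.1] at this
    exact hr1 (Subgroup.mem_bot.mp this)
  have hrn : r ∉ normalizer ((fittingHallOf M : Subgroup G) : Set G) := by
    rw [hnorm]; exact hrM
  have hcomm : r * x0 * r⁻¹ = x0 := by
    have := Subgroup.mem_centralizer_singleton_iff.mp hr.2
    -- this : r * x0 = x0 * r  (or symmetric)
    rw [this]; group
  have := hTI r hrn x0 hx0F (by rw [hcomm]; exact hx0F)
  exact A.x0_ne_one this

end Cfsg.Agent.Helper30.BG144c
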