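import Mathlib
import Cfsg.Agent.Lib.Helper30.BG144cD
import Cfsg.Agent.Lib.Helper30.BG144cF
import Cfsg.Agent.Lib.Helper34.BG144cA
import Cfsg.Agent.Lib.Helper95.BG144cB
import Cfsg.Agent.Lib.Helper54.BG144cC
import Cfsg.Agent.Lib.Helper68.BG144cE

/-! B-G 14.4(c) (row S1376): assembly from the rows it uses. -/

set_option autoImplicit false
set_option linter.unusedVariables false

namespace Cfsg.Agent.Helper30.BG144c

open Cfsg Subgroup

universe u

variable {G : Type u} [Group G] [Finite G]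

/-- Row S1376 from the rows it uses. -/
theorem s1376 (hG : IsMinSimpleOddOrder G) (r1350 : R1350 G) (r1351 : R1351 G)
    (r1352 : R1352 G) (r1353 : R1353 G) (r1365 : R1365 G) (r1366 : R1366 G) (r1367 : R1367 G)
    (r1372 : R1372 G) (r1375 : R1375 G) (r1414 : R1414 G) (r1417 : R1417 G) (r1418 : R1418 G)
    (r1419 : R1419 G) (r1420 : R1420 G) (r1423 : R1423 G) (r1424 : R1424 G) (r1429 : R1429 G)
    (r1430 : R1430 G) (r1431 : R1431 G) (r1432 : R1432 G) (r1435 : R1435 G) (r1437 : R1437 G)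
    (fr : FR G)
    (M : Subgroup G) (hM : IsCoatom M) (x : G) (hx : x ∈ Cfsg.sigmaCore M) (hx1 : x ≠ 1)
    (hxM : ¬ Subgroup.centralizer ({x} : Set G) ≤ M)
    (N : Subgroup G) (hN : IsCoatom N) (hxN : Subgroup.centralizer ({x} : Set G) ≤ N)
    (hkN : (Cfsg.kappa N).Nonempty) :
    Cfsg.kappa M = ∅ ∧ (∃ E : Subgroup ↥M, Cfsg.IsFrobeniusComplement E ∧ IsCyclic E) ∧
      ¬ Cfsg.IsTISubset (Cfsg.fittingHallOf M : Set G) := by
  obtain ⟨x0, q, K, U, A⟩ := Cfsg.Agent.Helper34.BG144c.setupA hG r1350 r1351 r1352 r1375 r1424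
    M hM x hx hx1 hxM N hN hxN hkN
  obtain ⟨Nst, p, B⟩ := Cfsg.Agent.Helper95.BG144c.setupB hG r1350 r1353 r1366 r1367 r1372 r1435
    hM hN A
  have hcomm := Cfsg.Agent.Helper54.BG144c.E_comm hG r1350 r1414 r1423 r1429 hM A B
  have ht2 := tau2_empty hG r1350 r1351 r1352 r1365 r1367 r1372 r1417 r1418 r1419 r1420 r1430
    r1431 r1432 r1437 fr hM hN A B hcomm
  exact ⟨B.hκ, Cfsg.Agent.Helper68.BG144c.frob_of_tau2_empty hG r1350 hM A B hcomm ht2,
    not_TI hG r1350 r1429 hM A B⟩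

end Cfsg.Agent.Helper30.BG144c
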