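import Mathlib
import Cfsg.Agent.Lib.Helper53.CD3ADefs
import Cfsg.Agent.Lib.Helper81.CharClifford
import Cfsg.Agent.Lib.Helper81.CharProd
import Cfsg.Agent.Lib.Helper81.CharAbel
import Cfsg.Agent.Lib.Helper80.ConjIrr
import Cfsg.Agent.Lib.Helper78.CharLinear
import Cfsg.Agent.Lib.Helper78.CharCount

/-!
# CD3A (helper53 server, S4460): shared counting lemmas for the product trick (helper30)
-/

set_option autoImplicit false

namespace Cfsg.Agent.Helper30.CD3A

open Cfsg Cfsg.Agent.Helper53.CD3A Cfsg.Agent.Helper81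
open scoped ComplexConjugate

universe u

variable {G : Type u} [Group G] [Fintype G]

/-- adjointness of multiplication by a function for the class inner product -/
theorem h30_classInner_mul (χ ψ σ : G → ℂ) :
    classInner (χ * ψ) σ = classInner ψ (fun g => conj (χ g) * σ g) := by
  unfold classInner
  congr 1
  apply Finset.sum_congr rfl
  intro g _
  simp only [Pi.mul_apply, map_mul, Complex.conj_conj]
  ring

theorem h30_irr_one {χ : G → ℂ} (hχ : IsIrrCharacter G χ) : χ 1 = (charDegree χ : ℂ) :=
  (Cfsg.Agent.Helper78.irr_charDegree hχ).1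

/-- a linear constituent `lam` of `χ * ψ` forces `ψ = conj χ * lam` -/
theorem h30_eq_of_linear_constituent {χ ψ lam : G → ℂ} (hχ : IsIrrCharacter G χ)
    (hψ : IsIrrCharacter G ψ) (hl : IsIrrCharacter G lam) (hl1 : charDegree lam = 1)
    (h : classInner (χ * ψ) lam ≠ 0) : ψ = fun g => conj (χ g) * lam g := by
  have hc : IsIrrCharacter G (fun g => conj (χ g)) := Cfsg.Agent.Helper80.isIrrCharacter_cconj hχ
  have hl1' : lam 1 = 1 := by
    rw [h30_irr_one hl, hl1]; simp
  have hirr : IsIrrCharacter G (lam * fun g => conj (χ g)) :=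
    isIrrCharacter_mul_linear hl1' (Cfsg.Agent.Helper78.linear_char_mul hl hl1')
      (Cfsg.Agent.Helper78.linear_char_mul_conj hl hl1') hc
  rw [h30_classInner_mul] at h
  have e : (fun g => conj (χ g) * lam g) = lam * fun g => conj (χ g) := by
    ext g; simp [mul_comm]
  rw [e] at h ⊢
  by_contra hne
  rw [irr_orthonormal hψ hirr, if_neg hne] at h
  exact h rfl

/-- the degree count: a character without linear constituents, in a group whose irreducible degrees lie in
`{1, m, n}`, has degree `A * m + B * n` where `A = 0` (resp. `B = 0`) only if all constituents have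
degree `n` (resp. `m`). -/
theorem h30_count {m n : ℕ} (hm : 1 < m) (hmn : m < n) (hcd : DegIn G m n) {α : G → ℂ}
    (hα : IsCharacter G α)
    (hlin : ∀ σ : IrrCharacter G, charDegree (σ : G → ℂ) = 1 → classInner α (σ : G → ℂ) = 0) :
    ∃ A B : ℕ, α 1 = ((A * m + B * n : ℕ) : ℂ) ∧
      (A = 0 → ∀ σ : IrrCharacter G, classInner α (σ : G → ℂ) ≠ 0 → charDegree (σ : G → ℂ) = n) ∧
      (B = 0 → ∀ σ : IrrCharacter G, classInner α (σ : G → ℂ) ≠ 0 → charDegree (σ : G → ℂ) = m) := by
  classical
  haveI : Fintype (IrrCharacter G) := @Fintype.ofFinite _ irr_finite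
  obtain ⟨a, ha⟩ := exists_nat_decomp hα
  have hin : ∀ σ : IrrCharacter G, classInner α (σ : G → ℂ) = (a σ : ℂ) := by
    intro σ
    rw [ha]
    exact classInner_nat_decomp (fun χ' => (a χ' : ℂ)) σ
  have hlin' : ∀ σ : IrrCharacter G, charDegree (σ : G → ℂ) = 1 → a σ = 0 := by
    intro σ h1
    have := hlin σ h1
    rw [hin σ] at this
    exact_mod_cast this
  refine ⟨∑ σ : IrrCharacter G, if charDegree (σ : G → ℂ) = m then a σ else 0,
    ∑ σ : IrrCharacter G, if charDegree (σ : G → ℂ) = n then a σ else 0, ?_, ?_, ?_⟩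
  · have h1 : α 1 = ((∑ σ : IrrCharacter G, a σ * charDegree (σ : G → ℂ) : ℕ) : ℂ) := by
      rw [ha]
      simp only [Finset.sum_apply, Pi.smul_apply, smul_eq_mul]
      push_cast
      apply Finset.sum_congr rfl
      intro σ _
      rw [h30_irr_one σ.2]
    rw [h1]
    congr 1
    rw [Finset.sum_mul, Finset.sum_mul, ← Finset.sum_add_distrib]
    apply Finset.sum_congr rfl
    intro σ _
    rcases hcd σ with h | h | h
    · rw [hlin' σ h, h]
      have h1m : ¬ (1 = m) := by omega
      have h1n : ¬ (1 = n) := by omega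
      simp [h1m, h1n]
    · rw [h]
      have hmn' : ¬ (m = n) := by omega
      simp [hmn']
    · rw [h]
      have hmn' : ¬ (n = m) := by omega
      simp [hmn']
  · intro hA σ hσ
    rw [hin σ] at hσ
    have haσ : a σ ≠ 0 := by exact_mod_cast hσ
    rcases hcd σ with h | h | h
    · exact absurd (hlin' σ h) haσ
    · exfalso
      have := (Finset.sum_eq_zero_iff.mp hA) σ (Finset.mem_univ σ)
      rw [if_pos h] at this
      exact haσ this
    · exact h
  · intro hB σ hσ
    rw [hin σ] at hσ
    have haσ : a σ ≠ 0 := by exact_mod_cast hσ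
    rcases hcd σ with h | h | h
    · exact absurd (hlin' σ h) haσ
    · exact h
    · exfalso
      have := (Finset.sum_eq_zero_iff.mp hB) σ (Finset.mem_univ σ)
      rw [if_pos h] at this
      exact haσ this

end Cfsg.Agent.Helper30.CD3A
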