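import Mathlib
import Cfsg.Agent.Lib.Helper53.CD3ADefs
import Cfsg.Agent.Lib.Helper81.CharClifford
import Cfsg.Agent.Lib.Helper76.CD2Basic

/-!
# CD3A (helper53 server, S4460): piece (GCD) `coprime_degrees` (helper30)
-/

set_option autoImplicit false
set_option linter.style.haveILetI false

namespace Cfsg.Agent.Helper30.CD3A

open Cfsg Cfsg.Agent.Helper53.CD3A Cfsg.Agent.Helper81
open scoped ComplexConjugate commutatorElement

universe u

/-- degrees of a normal `p`-complement in a group with degrees in `{1, m, n}` -/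
theorem h30_normal_pcompl {G : Type u} [Group G] [Finite G] (m n p : ℕ) (hp : p.Prime)
    (h : DegIn G m n)
    (N : Subgroup G) [N.Normal] (hN : (Nat.card N).Coprime p) (k : ℕ) (hk : N.index = p ^ k) :
    DegIn N (ordCompl[p] m) (ordCompl[p] n) := by
  classical
  intro ψ
  haveI := Fintype.ofFinite N
  obtain ⟨χ, e, he, hdvd, -⟩ := Cfsg.Agent.Helper76.CD2.exists_over N ψ
  rw [hk] at hdvd
  obtain ⟨j, -, rfl⟩ := (Nat.dvd_prime_pow hp).1 hdvd
  have hd : ¬ p ∣ charDegree (ψ : N → ℂ) := by
    intro hpd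
    have h1 := Cfsg.Agent.Helper79.irr_degree_dvd_card ψ
    have h2 : p ∣ Nat.card N := dvd_trans hpd h1
    have h3 := Nat.Coprime.eq_one_of_dvd hN.symm h2
    exact hp.one_lt.ne' h3
  rcases h χ with h1 | h1 | h1
  · left
    rw [h1] at he
    exact (Nat.eq_one_of_mul_eq_one_left he.symm)
  · right; left
    rw [h1] at he
    rw [he]
    exact (Nat.ordCompl_pow_mul_of_not_dvd j hp hd).symm
  · right; right
    rw [h1] at he
    rw [he]
    exact (Nat.ordCompl_pow_mul_of_not_dvd j hp hd).symm

/-- (GCD) step (1).  S4456 (`Cfsg.Agent.S4456.result`) + `Cfsg.Agent.Helper76.CD2.exists_over` (see `normal_pcompl` there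
for the two-degree analogue) + degree divides order. -/
theorem coprime_degrees {G : Type u} [Group G] [Finite G] {m n : ℕ} (hm : 1 < m) (hn : 1 < n)
    (hcd : DegIn G m n) (hmin : SmallerSolv G) (hns : ¬ Group.IsSolvable G) : Nat.Coprime m n := by
  by_contra hnc
  obtain ⟨p, hp, hpm, hpn⟩ := Nat.Prime.not_coprime_iff_dvd.mp hnc
  apply hns
  by_cases hall : ∀ χ : IrrCharacter G, charDegree (χ : G → ℂ) = 1
  · exact Group.isSolvable_of_comm (Cfsg.Agent.Helper76.CD2.comm_of_all_linear hall)
  · push Not at hall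
    obtain ⟨χ₀, hχ₀⟩ := hall
    have hdeg : ∀ χ : IrrCharacter G, charDegree (χ : G → ℂ) ≠ 1 → p ∣ charDegree (χ : G → ℂ) := by
      intro χ hχ
      rcases hcd χ with h | h | h
      · exact absurd h hχ
      · rw [h]; exact hpm
      · rw [h]; exact hpn
    obtain ⟨N, hNn, hNc, k, hk⟩ := Cfsg.Agent.S4456.result p hp hdeg
    haveI := hNn
    have hpG : p ∣ Nat.card G :=
      dvd_trans (hdeg χ₀ hχ₀) (Cfsg.Agent.Helper79.irr_degree_dvd_card χ₀)
    have hlt : Nat.card N < Nat.card G := by
      have hle : Nat.card N ≤ Nat.card G := Subgroup.card_le_card_group N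
      rcases Nat.lt_or_ge (Nat.card N) (Nat.card G) with h1 | h1
      · exact h1
      · exfalso
        have h2 : Nat.card N = Nat.card G := le_antisymm hle h1
        rw [h2] at hNc
        exact hp.one_lt.ne' (Nat.Coprime.eq_one_of_dvd hNc.symm hpG)
    have hNs : Group.IsSolvable N :=
      hmin N hlt ⟨_, _, h30_normal_pcompl m n p hp hcd N hNc k hk⟩
    have hQs : Group.IsSolvable (G ⧸ N) := by
      haveI : Fact p.Prime := ⟨hp⟩
      have hQ : IsPGroup p (G ⧸ N) := by
        apply IsPGroup.of_card (n := k)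
        rw [← Subgroup.index_eq_card, hk]
      haveI := hQ.isNilpotent
      infer_instance
    exact (Group.isSolvable_iff_subgroup_quotient N).2 ⟨hNs, hQs⟩

end Cfsg.Agent.Helper30.CD3A
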