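import Mathlib
import Cfsg.Agent.Lib.Helper53.CD3ADefs
import Cfsg.Agent.Lib.Helper81.CharClifford
import Cfsg.Agent.Lib.Helper30.CD3ACount

/-!
# CD3A (helper53 server, S4460): piece (PMM) `prodMM` (helper30)
-/

set_option autoImplicit false

namespace Cfsg.Agent.Helper30.CD3A

open Cfsg Cfsg.Agent.Helper53.CD3A Cfsg.Agent.Helper81
open scoped ComplexConjugate commutatorElement

universe u

/-- the arithmetic of (PMM): `m m = A m + B n`, `gcd(m,n) = 1`, `m < n` forces `B = 0` -/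
theorem h30_arith_mm {m n A B : ℕ} (hm : 1 < m) (hmn : m < n) (hcop : Nat.Coprime m n)
    (h : m * m = A * m + B * n) : B = 0 := by
  by_contra hB
  have h3 : m ∣ B * n := by
    have : m ∣ A * m + B * n := by rw [← h]; exact Dvd.intro m rfl
    exact (Nat.dvd_add_right (Dvd.intro_left A rfl)).mp this
  have h4 : m ∣ B := (Nat.Coprime.dvd_mul_right hcop).mp h3
  have h6 : m ≤ B := Nat.le_of_dvd (Nat.pos_of_ne_zero hB) h4
  have h8 : m * n ≤ B * n := Nat.mul_le_mul_right n h6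
  have h9 : m * m < m * n := Nat.mul_lt_mul_of_pos_left hmn (by omega)
  nlinarith

/-- (PMM) same count: `m² = mA + nB` with no linear constituents forces `m ∣ B`, `m = A + n(B/m)`, `B = 0`. -/
theorem prodMM {G : Type u} [Group G] [Fintype G] {m n : ℕ} (hm : 1 < m) (hmn : m < n)
    (hcop : Nat.Coprime m n) (hcd : DegIn G m n) : ProdMM G m := by
  intro χ χ' hχ hχ' hne
  have hα : IsCharacter G ((χ : G → ℂ) * (χ' : G → ℂ)) :=
    isCharacter_mul (IsIrrCharacter.isCharacter χ.2) (IsIrrCharacter.isCharacter χ'.2)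
  have hlin : ∀ σ : IrrCharacter G, charDegree (σ : G → ℂ) = 1 →
      classInner ((χ : G → ℂ) * (χ' : G → ℂ)) (σ : G → ℂ) = 0 := by
    intro σ hσ
    by_contra hne'
    exact hne σ hσ (h30_eq_of_linear_constituent χ.2 χ'.2 σ.2 hσ hne')
  obtain ⟨A, B, h1, _, hB⟩ := h30_count hm hmn hcd hα hlin
  have h2 : ((χ : G → ℂ) * (χ' : G → ℂ)) 1 = ((m * m : ℕ) : ℂ) := by
    rw [Pi.mul_apply, h30_irr_one χ.2, h30_irr_one χ'.2, hχ, hχ']
    push_cast; ring
  rw [h2] at h1
  have h3 : m * m = A * m + B * n := by exact_mod_cast h1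
  exact hB (h30_arith_mm hm hmn hcop h3)

end Cfsg.Agent.Helper30.CD3A
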