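import Mathlib
import Cfsg.Agent.Lib.Helper53.CD3ADefs
import Cfsg.Agent.Lib.Helper81.CharClifford
import Cfsg.Agent.Lib.Helper30.CD3ACount

/-!
# CD3A (helper53 server, S4460): piece (PMN) `prodMN` (helper30)
-/

set_option autoImplicit false

namespace Cfsg.Agent.Helper30.CD3A

open Cfsg Cfsg.Agent.Helper53.CD3A Cfsg.Agent.Helper81
open scoped ComplexConjugate commutatorElement

universe u

/-- the arithmetic of (PMN): `m n = A m + B n`, `gcd(m,n) = 1` forces `A = 0` or `B = 0` -/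
theorem h30_arith_mn {m n A B : ℕ} (hm : 1 < m) (hmn : m < n) (hcop : Nat.Coprime m n)
    (h : m * n = A * m + B * n) : A = 0 ∨ B = 0 := by
  by_contra hne
  push_neg at hne
  obtain ⟨hA, hB⟩ := hne
  have h1 : n ∣ A * m := by
    have : n ∣ A * m + B * n := by rw [← h]; exact Dvd.intro_left m rfl
    exact (Nat.dvd_add_left (Dvd.intro_left B rfl)).mp this
  have h2 : n ∣ A := (Nat.Coprime.dvd_mul_right hcop.symm).mp h1
  have h3 : m ∣ B * n := by
    have : m ∣ A * m + B * n := by rw [← h]; exact Dvd.intro n rfl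
    exact (Nat.dvd_add_right (Dvd.intro_left A rfl)).mp this
  have h4 : m ∣ B := (Nat.Coprime.dvd_mul_right hcop).mp h3
  have h5 : n ≤ A := Nat.le_of_dvd (Nat.pos_of_ne_zero hA) h2
  have h6 : m ≤ B := Nat.le_of_dvd (Nat.pos_of_ne_zero hB) h4
  have h7 : n * m ≤ A * m := Nat.mul_le_mul_right m h5
  have h8 : m * n ≤ B * n := Nat.mul_le_mul_right n h6
  have h9 : 0 < m * n := Nat.mul_pos (by omega) (by omega)
  nlinarith

/-- (PMN) `χψ` is a character (`Helper81.isCharacter_mul`), `= Σ [χψ,σ] σ` with natural multiplicities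
(`Helper81.exists_nat_decomp`), a linear constituent `λ` would give `ψ = conj χ * λ` of degree `m`; so
`mn = mA + nB`, `n ∣ A`, `m ∣ B`, hence `(A,B) = (n,0)` or `(0,m)`. -/
theorem prodMN {G : Type u} [Group G] [Fintype G] {m n : ℕ} (hm : 1 < m) (hmn : m < n)
    (hcop : Nat.Coprime m n) (hcd : DegIn G m n) : ProdMN G m n := by
  intro χ ψ hχ hψ
  have hα : IsCharacter G ((χ : G → ℂ) * (ψ : G → ℂ)) :=
    isCharacter_mul (IsIrrCharacter.isCharacter χ.2) (IsIrrCharacter.isCharacter ψ.2)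
  have hlin : ∀ σ : IrrCharacter G, charDegree (σ : G → ℂ) = 1 →
      classInner ((χ : G → ℂ) * (ψ : G → ℂ)) (σ : G → ℂ) = 0 := by
    intro σ hσ
    by_contra hne
    have he := h30_eq_of_linear_constituent χ.2 ψ.2 σ.2 hσ hne
    have h1 : (ψ : G → ℂ) 1 = conj ((χ : G → ℂ) 1) * (σ : G → ℂ) 1 := by
      conv_lhs => rw [he]
    rw [h30_irr_one ψ.2, h30_irr_one χ.2, h30_irr_one σ.2, hψ, hχ, hσ] at h1
    simp only [map_natCast, Nat.cast_one, mul_one] at h1
    have : n = m := by exact_mod_cast h1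
    omega
  obtain ⟨A, B, h1, hA, hB⟩ := h30_count hm hmn hcd hα hlin
  have h2 : ((χ : G → ℂ) * (ψ : G → ℂ)) 1 = ((m * n : ℕ) : ℂ) := by
    rw [Pi.mul_apply, h30_irr_one χ.2, h30_irr_one ψ.2, hχ, hψ]
    push_cast; ring
  rw [h2] at h1
  have h3 : m * n = A * m + B * n := by exact_mod_cast h1
  rcases h30_arith_mn hm hmn hcop h3 with h | h
  · exact Or.inr (hA h)
  · exact Or.inl (hB h)

end Cfsg.Agent.Helper30.CD3A
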