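import Cfsg.Agent.Lib.Helper1.CD3.Defs
import Mathlib
import Cfsg.Agent.Lib.Helper81.CharAbel
import Cfsg.Agent.Lib.Helper74.LinChar

/-!
# helper1 CD3B server (S4460): piece (K5) — `[ω|_{W'}, ω|_{W'}] = |Lam ω|`
-/

set_option autoImplicit false

namespace Cfsg.Agent.Helper30.CD3B

open Cfsg Cfsg.Agent.Helper81 Cfsg.Agent.Helper1.CD3
open scoped ComplexConjugate

universe u

/-- the trivial function is an irreducible character -/
theorem h30_isIrr_one {W : Type u} [Group W] : IsIrrCharacter W (fun _ => (1 : ℂ)) := by
  have h := (Cfsg.Agent.Helper74.Lin.ofHom (1 : W →* ℂˣ)).2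
  have h2 : ((Cfsg.Agent.Helper74.Lin.ofHom (1 : W →* ℂˣ)) : W → ℂ) = fun _ => (1 : ℂ) := by
    funext g
    simp
  rwa [h2] at h

/-- (K5) `[ω|_{W'}, ω|_{W'}] = |Lam ω|` for an abstract finite group `W`, `W' = commutator W`. -/
theorem card_Lam {W : Type u} [Group W] [Fintype W] [Fintype (commutator W)] {ω : W → ℂ}
    (hω : IsIrrCharacter W ω) :
    classInner (fun x : commutator W => ω x) (fun x : commutator W => ω x) = (Nat.card (Lam ω) : ℂ) := by
  classical
  have hNn : (commutator W).Normal := inferInstance
  set π : W →* Abelianization W := Abelianization.of with hπ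
  have hπs : Function.Surjective π := QuotientGroup.mk_surjective
  have hker : ∀ g : W, π g = 1 ↔ g ∈ (commutator W) := by
    intro g
    rw [← MonoidHom.mem_ker, hπ, Abelianization.ker_of]
  have hωcf := isClassFunction_of_isCharacter (IsIrrCharacter.isCharacter hω)
  have hcardA : Nat.card (Abelianization W) = (commutator W).index := rfl
  -- `indFun (commutator W) (ω|(commutator W)) = ∑ ψ, linChar π ψ * ω`
  have hkey : indFun (commutator W) (fun n : (commutator W) => ω n) =
      ∑ ψ : AddChar (Additive (Abelianization W)) ℂ, linChar π ψ * ω := by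
    have h1 : (fun n : (commutator W) => ω n) = (1 : (commutator W) → ℂ) * fun n : (commutator W) => ω n := by rw [one_mul]
    rw [h1, indFun_mul_restrict (commutator W) 1 hωcf, ← Finset.sum_mul]
    congr 1
    ext g
    rw [indFun_one_fun (commutator W) hNn, Finset.sum_apply, sum_linChar, hcardA]
    by_cases hg : g ∈ (commutator W)
    · rw [if_pos hg, if_pos ((hker g).mpr hg)]
    · rw [if_neg hg, if_neg (fun h => hg ((hker g).mp h))]
  have h2 : classInner (fun x : (commutator W) => ω x) (fun x : (commutator W) => ω x) =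
      ∑ ψ : AddChar (Additive (Abelianization W)) ℂ,
        (if linChar π ψ * ω = ω then (1 : ℂ) else 0) := by
    rw [← frobenius_reciprocity (commutator W) (fun x : (commutator W) => ω x) hωcf, hkey, classInner_sum_left]
    apply Finset.sum_congr rfl
    intro ψ _
    exact irr_orthonormal (isIrrCharacter_linChar_mul π ψ hω) hω
  rw [h2, Finset.sum_boole]
  congr 1
  rw [← Fintype.card_subtype, ← Nat.card_eq_fintype_card]
  -- the bijection with `Lam ω`
  have hlin : ∀ ψ : AddChar (Additive (Abelianization W)) ℂ, IsIrrCharacter W (linChar π ψ) := by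
    intro ψ
    have := isIrrCharacter_linChar_mul π ψ (h30_isIrr_one (W := W))
    have h3 : linChar π ψ * (fun _ => (1 : ℂ)) = linChar π ψ := by
      funext g
      simp
    rwa [h3] at this
  let f : {ψ : AddChar (Additive (Abelianization W)) ℂ // linChar π ψ * ω = ω} → Lam ω :=
    fun ψ => ⟨linChar π ψ.1, hlin ψ.1, linChar_one π ψ.1, fun w => by
      have := congrFun ψ.2 w
      simpa using this⟩
  apply Nat.card_eq_of_bijective f
  constructor
  · intro ψ ψ' h
    apply Subtype.ext
    have h3 : linChar π ψ.1 = linChar π ψ'.1 := congrArg Subtype.val h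
    apply DFunLike.ext
    intro a
    obtain ⟨g, hg⟩ := hπs (Additive.toMul a)
    have h4 := congrFun h3 g
    rw [linChar_apply, linChar_apply, hg] at h4
    exact h4
  · rintro ⟨ν, hν, hν1, hνω⟩
    set φ : W →* ℂˣ := Cfsg.Agent.Helper74.Lin.toHom ⟨ν, hν⟩ hν1 with hφ
    set φ' : Abelianization W →* ℂˣ := Abelianization.lift φ with hφ'
    let ψ : AddChar (Additive (Abelianization W)) ℂ :=
      { toFun := fun a => ((φ' (Additive.toMul a) : ℂˣ) : ℂ)
        map_zero_eq_one' := by simp
        map_add_eq_mul' := by
          intro a b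
          simp [map_mul] }
    have hψ : linChar π ψ = ν := by
      funext g
      show ((φ' (Abelianization.of g) : ℂˣ) : ℂ) = ν g
      rw [hφ', Abelianization.lift_apply_of]
      rfl
    refine ⟨⟨ψ, ?_⟩, ?_⟩
    · rw [hψ]
      funext w
      exact hνω w
    · apply Subtype.ext
      exact hψ

end Cfsg.Agent.Helper30.CD3B
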