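import Mathlib
import Cfsg.Agent.Lib.Helper54.CHMDefs

/-!
# helper54 CHM server (S4756): piece (GT4a) `exists_complement`
-/

set_option autoImplicit false

namespace Cfsg.Agent.Helper30.CHM

open Cfsg Cfsg.Agent.Helper54.CHM
open scoped ComplexConjugate commutatorElement

variable {G : Type*} [Group G] [Finite G]

/-- (GT4a) Normal Sylow `p`-subgroup `P ≥ G'` and an abelian complement `A`. -/
theorem exists_complement {p : ℕ} [Fact p.Prime] (hN : IsPGroup p (commutator G))
    (hnp : ¬ IsPGroup p G) :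
    ∃ (P : Sylow p G) (A : Subgroup G), (P : Subgroup G).Normal ∧ commutator G ≤ (P : Subgroup G) ∧
      A ≠ ⊥ ∧ (Nat.card A).Coprime p ∧ A ⊔ (P : Subgroup G) = ⊤ ∧ A ⊓ (P : Subgroup G) = ⊥ ∧
      (∀ a ∈ A, ∀ b ∈ A, a * b = b * a) := by
  obtain ⟨P, hP⟩ := hN.exists_le_sylow
  have hPn : (P : Subgroup G).Normal := by
    rw [← Subgroup.commutator_top_left_le_iff]
    refine le_trans ?_ hP
    rw [commutator_def]
    exact Subgroup.commutator_mono le_rfl le_top
  haveI := hPn
  obtain ⟨A, hA⟩ := Subgroup.exists_left_complement'_of_coprime (N := (P : Subgroup G))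
    P.card_coprime_index
  have htop : A ⊔ (P : Subgroup G) = ⊤ := hA.sup_eq_top
  have hbot : A ⊓ (P : Subgroup G) = ⊥ := disjoint_iff.mp hA.disjoint
  have hcard : Nat.card A = (P : Subgroup G).index := hA.index_eq_card.symm
  refine ⟨P, A, hPn, hP, ?_, ?_, htop, hbot, ?_⟩
  · intro hA0
    apply hnp
    rw [hA0, bot_sup_eq] at htop
    intro g
    obtain ⟨k, hk⟩ := P.2 ⟨g, by rw [htop]; exact Subgroup.mem_top g⟩
    exact ⟨k, by simpa using congrArg Subtype.val hk⟩
  · rw [hcard]
    exact (Nat.Prime.coprime_iff_not_dvd (Fact.out : p.Prime)).mpr P.not_dvd_index |>.symm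
  · intro a ha b hb
    have h1 : ⁅a, b⁆ ∈ A ⊓ (P : Subgroup G) := by
      refine ⟨?_, hP ?_⟩
      · rw [commutatorElement_def]
        exact A.mul_mem (A.mul_mem (A.mul_mem ha hb) (A.inv_mem ha)) (A.inv_mem hb)
      · exact Subgroup.commutator_mem_commutator (Subgroup.mem_top a) (Subgroup.mem_top b)
    rw [hbot, Subgroup.mem_bot, commutatorElement_eq_one_iff_mul_comm] at h1
    exact h1

end Cfsg.Agent.Helper30.CHM
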