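import Mathlib
import Cfsg.Agent.Lib.Helper54.CHMDefs

/-!
# helper54 CHM server (S4756): piece (GT4b) `commutator_eq`
-/

set_option autoImplicit false

namespace Cfsg.Agent.Helper30.CHM

open Cfsg Cfsg.Agent.Helper54.CHM
open scoped ComplexConjugate commutatorElement

variable {G : Type*} [Group G] [Finite G]

/-- (GT4b) `[A, P] = G'`. -/
theorem commutator_eq {p : ℕ} [Fact p.Prime] (P : Sylow p G) (A : Subgroup G)
    (hNP : commutator G ≤ (P : Subgroup G)) (hA1 : A ≠ ⊥)
    (hfpf : ∀ a ∈ A, a ≠ 1 → ∀ d ∈ commutator G, a * d = d * a → d = 1) :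
    ⁅A, (P : Subgroup G)⁆ = commutator G := by
  apply le_antisymm
  · rw [commutator_def]
    exact Subgroup.commutator_mono le_top le_top
  · obtain ⟨a0, ha0⟩ := (Subgroup.ne_bot_iff_exists_ne_one).1 hA1
    have ha0A : (a0 : G) ∈ A := a0.2
    have ha0ne : (a0 : G) ≠ 1 := fun h => ha0 (Subtype.ext h)
    let φ : commutator G → commutator G := fun n =>
      ⟨⁅(a0 : G), (n : G)⁆,
        Subgroup.commutator_mem_commutator (Subgroup.mem_top _) (Subgroup.mem_top _)⟩
    have hinj : Function.Injective φ := by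
      intro n n' hnn
      have h1 : ⁅(a0 : G), (n : G)⁆ = ⁅(a0 : G), (n' : G)⁆ := congrArg Subtype.val hnn
      have hmem : (n' : G)⁻¹ * (n : G) ∈ commutator G :=
        (commutator G).mul_mem ((commutator G).inv_mem n'.2) n.2
      have hcomm : (a0 : G) * ((n' : G)⁻¹ * (n : G)) = ((n' : G)⁻¹ * (n : G)) * (a0 : G) := by
        rw [commutatorElement_def, commutatorElement_def] at h1
        have h2 : (n : G) * (a0 : G)⁻¹ * (n : G)⁻¹ = (n' : G) * (a0 : G)⁻¹ * (n' : G)⁻¹ := by
          have := congrArg (fun z => (a0 : G)⁻¹ * z) h1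
          simpa [mul_assoc] using this
        have h3 : (n' : G)⁻¹ * (n : G) * (a0 : G)⁻¹ = (a0 : G)⁻¹ * ((n' : G)⁻¹ * (n : G)) := by
          have := congrArg (fun z => (n' : G)⁻¹ * z * (n : G)) h2
          simpa [mul_assoc] using this
        have := congrArg (fun z => (a0 : G) * z * (a0 : G)) h3
        simpa [mul_assoc] using this
      have h4 := hfpf (a0 : G) ha0A ha0ne _ hmem hcomm
      apply Subtype.ext
      have : (n : G) = (n' : G) * ((n' : G)⁻¹ * (n : G)) := by group
      rw [this, h4, mul_one]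
    have hsurj : Function.Surjective φ := Finite.injective_iff_surjective.mp hinj
    intro x hx
    obtain ⟨m, hm⟩ := hsurj ⟨x, hx⟩
    have h5 : ⁅(a0 : G), (m : G)⁆ = x := congrArg Subtype.val hm
    rw [← h5]
    exact Subgroup.commutator_mem_commutator ha0A (hNP m.2)

end Cfsg.Agent.Helper30.CHM
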