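import Mathlib
import Cfsg.Agent.Lib.Helper30.CharP
import Cfsg.Prelude.Def_CaseTheorems

set_option autoImplicit false

/-!
# Characteristic 2 type from involution centralizers of characteristic 2 (helper30)
-/

namespace Cfsg.Agent.Helper30

open Subgroup Cfsg

/-- A nontrivial finite `2`-subgroup has a central involution. -/
theorem exists_central_involution {G : Type*} [Group G] [Finite G] (T : Subgroup G)
    (hT : IsPGroup 2 ↥T) (hne : T ≠ ⊥) :
    ∃ x : G, x ∈ T ∧ orderOf x = 2 ∧ ∀ t ∈ T, t * x = x * t := by
  have : Fact (Nat.Prime 2) := ⟨Nat.prime_two⟩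
  have : Nontrivial ↥T := (Subgroup.nontrivial_iff_ne_bot T).mpr hne
  have : Nontrivial ↥(center ↥T) := hT.center_nontrivial
  have hZ : IsPGroup 2 ↥(center ↥T) := hT.to_subgroup _
  obtain ⟨k, hk⟩ := IsPGroup.iff_card.mp hZ
  have hk0 : k ≠ 0 := by
    intro h0
    rw [h0, pow_zero] at hk
    have : Subsingleton ↥(center ↥T) := (Nat.card_eq_one_iff_unique.mp hk).1
    exact not_subsingleton _ this
  have hdvd : 2 ∣ Nat.card ↥(center ↥T) := by rw [hk]; exact dvd_pow_self 2 hk0
  obtain ⟨z, hz⟩ := exists_prime_orderOf_dvd_card' 2 hdvd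
  refine ⟨((z : ↥T) : G), (z : ↥T).2, ?_, ?_⟩
  · rw [Subgroup.orderOf_coe, Subgroup.orderOf_coe]; exact hz
  · intro t ht
    have := Subgroup.mem_center_iff.mp z.2 ⟨t, ht⟩
    exact congrArg Subtype.val this

/-- If `G` has even order and every involution centralizer has characteristic 2
(`F*(C) = O_2(C)`), then `G` is of characteristic 2 type. -/
theorem isCharacteristicTwoType_of_isCharP_centralizers {G : Type*} [Group G] [Finite G]
    (h2 : Even (Nat.card G))
    (hCC : ∀ x : G, orderOf x = 2 → IsCharP 2 ↥(centralizer ({x} : Set G))) :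
    IsCharacteristicTwoType G := by
  have : Fact (Nat.Prime 2) := ⟨Nat.prime_two⟩
  refine ⟨h2, ?_⟩
  · intro T hT hTne
    unfold IsOfCharacteristicTwo
    apply centralizer_pCore_le_of_isCharP
    obtain ⟨x, hxT, hx2, hxc⟩ := exists_central_involution T hT hTne
    have hC : IsCharP 2 ↥(centralizer ({x} : Set G)) := hCC x hx2
    have hTC : T ≤ centralizer ({x} : Set G) := by
      intro t ht
      rw [Subgroup.mem_centralizer_iff]
      intro y hy
      rw [Set.mem_singleton_iff] at hy
      rw [hy]; exact (hxc t ht).symm
    -- `N₁ = N_C(T)` has characteristic 2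
    have hN₁ : IsCharP 2 ↥(normalizer ((T.subgroupOf (centralizer ({x} : Set G)) :
        Subgroup ↥(centralizer ({x} : Set G))) : Set ↥(centralizer ({x} : Set G)))) :=
      hC.normalizer _ hT.comap_subtype
    -- notation
    have hTN : T ≤ normalizer (T : Set G) := Subgroup.le_normalizer
    have hTcore : T.subgroupOf (normalizer (T : Set G)) ≤ pCore 2 ↥(normalizer (T : Set G)) := by
      have : (T.subgroupOf (normalizer (T : Set G))).Normal := Subgroup.normal_in_normalizer
      exact Helper70.le_pCore _ hT.comap_subtype
    -- elements of `D` lie in `C`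
    have h1 : ∀ d : ↥(centralizer ((pCore 2 ↥(normalizer (T : Set G)) :
        Subgroup ↥(normalizer (T : Set G))) : Set ↥(normalizer (T : Set G)))),
        ((normalizer (T : Set G)).subtype.comp (Subgroup.subtype _)) d ∈
          centralizer ({x} : Set G) := by
      intro d
      rw [Subgroup.mem_centralizer_iff]
      intro y hy
      rw [Set.mem_singleton_iff] at hy
      rw [hy]
      have hxcore : (⟨x, hTN hxT⟩ : ↥(normalizer (T : Set G))) ∈
          pCore 2 ↥(normalizer (T : Set G)) := hTcore (Subgroup.mem_subgroupOf.mpr hxT)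
      have := (Subgroup.mem_centralizer_iff.mp d.2) _ hxcore
      exact congrArg Subtype.val this
    let ι₁ := ((normalizer (T : Set G)).subtype.comp (Subgroup.subtype _)).codRestrict _ h1
    have h2 : ∀ d, ι₁ d ∈ normalizer ((T.subgroupOf (centralizer ({x} : Set G)) :
        Subgroup ↥(centralizer ({x} : Set G))) : Set ↥(centralizer ({x} : Set G))) := by
      intro d
      rw [Subgroup.mem_normalizer_iff]
      intro h
      rw [Subgroup.mem_subgroupOf, Subgroup.mem_subgroupOf]
      exact Subgroup.mem_normalizer_iff.mp (d : ↥(normalizer (T : Set G))).2 (h : G)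
    let ι := ι₁.codRestrict _ h2
    have hι : Function.Injective ι := by
      intro a b hab
      have h3 : ((ι a : ↥(centralizer ({x} : Set G))) : G) = ((ι b : ↥(centralizer ({x} : Set G))) : G) := by
        rw [hab]
      exact Subtype.ext (Subtype.ext h3)
    -- the image of `D` is normal in `N₁`
    have hnormal : ι.range.Normal := by
      refine ⟨?_⟩
      rintro _ ⟨d, rfl⟩ n
      -- `n` normalizes `T` in `G`
      have hnN : ((n : ↥(centralizer ({x} : Set G))) : G) ∈ normalizer (T : Set G) := by
        rw [Subgroup.mem_normalizer_iff]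
        intro t
        have hn := Subgroup.mem_normalizer_iff.mp n.2
        constructor
        · intro ht
          have := (hn ⟨t, hTC ht⟩).mp (Subgroup.mem_subgroupOf.mpr ht)
          exact Subgroup.mem_subgroupOf.mp this
        · intro ht
          have htC : t ∈ centralizer ({x} : Set G) := by
            have h5 := hTC ht
            have h6 : t = ((n : ↥(centralizer ({x} : Set G))) : G)⁻¹ *
                (((n : ↥(centralizer ({x} : Set G))) : G) * t *
                  ((n : ↥(centralizer ({x} : Set G))) : G)⁻¹) *
                ((n : ↥(centralizer ({x} : Set G))) : G) := by group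
            rw [h6]
            exact Subgroup.mul_mem _ (Subgroup.mul_mem _ (Subgroup.inv_mem _ (n : ↥(centralizer ({x} : Set G))).2) h5)
              (n : ↥(centralizer ({x} : Set G))).2
          have := (hn ⟨t, htC⟩).mpr (Subgroup.mem_subgroupOf.mpr ht)
          exact Subgroup.mem_subgroupOf.mp this
      have hDn : (centralizer ((pCore 2 ↥(normalizer (T : Set G)) :
        Subgroup ↥(normalizer (T : Set G))) : Set ↥(normalizer (T : Set G)))).Normal := by
        have : (pCore 2 ↥(normalizer (T : Set G))).Normal := Helper70.pCore_normal 2 _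
        infer_instance
      have hconj := hDn.conj_mem d d.2 ⟨_, hnN⟩
      refine ⟨⟨_, hconj⟩, ?_⟩
      exact Subtype.ext (Subtype.ext rfl)
    have := hnormal
    have hD' : IsCharP 2 ↥ι.range := hN₁.of_normal ι.range
    exact hD'.of_mulEquiv (MonoidHom.ofInjective hι).symm

end Cfsg.Agent.Helper30
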