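import Mathlib
import Cfsg.Prelude.Def_GeometricClasses
import Cfsg.Agent.Lib.Helper97.ESDefs

/-!
# helper97 ES server (S5877): piece (A5a) `eq_exists`

Abstract form: `Z` central, `R` an `r`-group with `[R,R] ≤ Z`, `g` normalising `R ⊔ Z`, `g ^ r = 1`,
`g` not trivial on `R` modulo `Z`.  In `G ⧸ Z` the conjugation by `g` is a permutation of order
dividing `r` of the nontrivial `r`-group `W = {[g, b] | b ∈ R Z / Z}`; it has a nontrivial fixed point.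
-/

set_option autoImplicit false

namespace Cfsg.Agent.Helper30.ES

open Cfsg Cfsg.Geo Cfsg.Agent.Helper97.ES
open scoped MatrixGroups commutatorElement

theorem a5a_abstract {G : Type*} [Group G] [Finite G] (Z R : Subgroup G) {r : ℕ} (hr : r.Prime)
    (hZ : ∀ z ∈ Z, ∀ a : G, z * a = a * z) (hR : IsPGroup r R)
    (hc : ∀ a ∈ R, ∀ b ∈ R, a * b * a⁻¹ * b⁻¹ ∈ Z)
    (g : G) (hg : g ∈ Subgroup.normalizer ((R ⊔ Z : Subgroup G) : Set G)) (hpow : g ^ r = 1)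
    (hnt : ∃ x ∈ R, g * x * g⁻¹ * x⁻¹ ∉ Z) :
    ∃ x ∈ R, ∃ y ∈ R ⊔ Z, y ∉ Z ∧ g * x * g⁻¹ = y * x ∧ g * y * g⁻¹ * y⁻¹ ∈ Z := by
  classical
  haveI : Fact r.Prime := ⟨hr⟩
  haveI hZn : Z.Normal := ⟨fun z hz a => by
    have h1 : a * z * a⁻¹ = z := by rw [← hZ z hz a, mul_inv_cancel_right]
    rw [h1]
    exact hz⟩
  by_contra hcon
  push_neg at hcon
  let π : G →* G ⧸ Z := QuotientGroup.mk' Z
  have hπ1 : ∀ a : G, π a = 1 ↔ a ∈ Z := fun a => QuotientGroup.eq_one_iff a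
  let H' : Subgroup (G ⧸ Z) := R.map π
  let g' : G ⧸ Z := π g
  have hg'pow : g' ^ r = 1 := by
    show (π g) ^ r = 1
    rw [← map_pow, hpow, map_one]
  have hmemH : ∀ a, a ∈ H' ↔ ∃ ρ ∈ R, π ρ = a := fun a => Subgroup.mem_map
  have hcomm : ∀ a ∈ H', ∀ b ∈ H', a * b = b * a := by
    intro a ha b hb
    obtain ⟨ρ, hρ, rfl⟩ := (hmemH a).1 ha
    obtain ⟨ρ', hρ', rfl⟩ := (hmemH b).1 hb
    have h1 := (hπ1 _).2 (hc ρ hρ ρ' hρ')
    rw [map_mul, map_mul, map_mul, map_inv, map_inv] at h1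
    have h2 := mul_inv_eq_one.1 h1
    exact mul_inv_eq_iff_eq_mul.1 h2
  have hnorm : ∀ a ∈ H', g' * a * g'⁻¹ ∈ H' := by
    intro a ha
    obtain ⟨ρ, hρ, rfl⟩ := (hmemH a).1 ha
    have h1 : g * ρ * g⁻¹ ∈ R ⊔ Z :=
      (Subgroup.mem_normalizer_iff.1 hg ρ).1 (Subgroup.mem_sup_left hρ)
    have h2 : g * ρ * g⁻¹ ∈ ((R ⊔ Z : Subgroup G) : Set G) := h1
    rw [Subgroup.mul_normal] at h2
    obtain ⟨ρ', hρ', z, hz, h3⟩ := Set.mem_mul.1 h2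
    refine (hmemH _).2 ⟨ρ', hρ', ?_⟩
    have h4 : π (g * ρ * g⁻¹) = π ρ' * π z := by rw [← map_mul, h3]
    rw [(hπ1 z).2 hz, mul_one] at h4
    rw [← h4, map_mul, map_mul, map_inv]
  let τ : H' →* G ⧸ Z := MonoidHom.mk'
    (fun b => g' * (b : G ⧸ Z) * g'⁻¹ * (b : G ⧸ Z)⁻¹) (by
      intro a b
      have hu : g' * (b : G ⧸ Z) * g'⁻¹ ∈ H' := hnorm _ b.2
      have h1 : (a : G ⧸ Z)⁻¹ * (g' * (b : G ⧸ Z) * g'⁻¹) =
          (g' * (b : G ⧸ Z) * g'⁻¹) * (a : G ⧸ Z)⁻¹ := hcomm _ (H'.inv_mem a.2) _ hu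
      have h2 : (a : G ⧸ Z)⁻¹ * (b : G ⧸ Z)⁻¹ = (b : G ⧸ Z)⁻¹ * (a : G ⧸ Z)⁻¹ :=
        hcomm _ (H'.inv_mem a.2) _ (H'.inv_mem b.2)
      show g' * ((a : G ⧸ Z) * (b : G ⧸ Z)) * g'⁻¹ * ((a : G ⧸ Z) * (b : G ⧸ Z))⁻¹ =
        g' * (a : G ⧸ Z) * g'⁻¹ * (a : G ⧸ Z)⁻¹ * (g' * (b : G ⧸ Z) * g'⁻¹ * (b : G ⧸ Z)⁻¹)
      calc g' * ((a : G ⧸ Z) * (b : G ⧸ Z)) * g'⁻¹ * ((a : G ⧸ Z) * (b : G ⧸ Z))⁻¹
          = (g' * (a : G ⧸ Z) * g'⁻¹) * (g' * (b : G ⧸ Z) * g'⁻¹) *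
              ((b : G ⧸ Z)⁻¹ * (a : G ⧸ Z)⁻¹) := by group
        _ = (g' * (a : G ⧸ Z) * g'⁻¹) * (g' * (b : G ⧸ Z) * g'⁻¹) *
              ((a : G ⧸ Z)⁻¹ * (b : G ⧸ Z)⁻¹) := by rw [h2]
        _ = (g' * (a : G ⧸ Z) * g'⁻¹) * ((g' * (b : G ⧸ Z) * g'⁻¹) * (a : G ⧸ Z)⁻¹) *
              (b : G ⧸ Z)⁻¹ := by simp only [mul_assoc]
        _ = (g' * (a : G ⧸ Z) * g'⁻¹) * ((a : G ⧸ Z)⁻¹ * (g' * (b : G ⧸ Z) * g'⁻¹)) *
              (b : G ⧸ Z)⁻¹ := by rw [h1]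
        _ = g' * (a : G ⧸ Z) * g'⁻¹ * (a : G ⧸ Z)⁻¹ *
              (g' * (b : G ⧸ Z) * g'⁻¹ * (b : G ⧸ Z)⁻¹) := by simp only [mul_assoc])
  have hτ : ∀ b : H', τ b = g' * (b : G ⧸ Z) * g'⁻¹ * (b : G ⧸ Z)⁻¹ := fun b => rfl
  let W : Subgroup (G ⧸ Z) := τ.range
  have hW_le : W ≤ H' := by
    rintro w ⟨b, rfl⟩
    rw [hτ]
    exact H'.mul_mem (hnorm _ b.2) (H'.inv_mem b.2)
  have hWp : IsPGroup r W := (hR.map π).to_le hW_le
  obtain ⟨k, hk⟩ := (IsPGroup.iff_card).1 hWp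
  -- `W` is non-trivial
  obtain ⟨x0, hx0R, hx0⟩ := hnt
  have hw0 : π (g * x0 * g⁻¹ * x0⁻¹) ∈ W := by
    refine ⟨⟨π x0, (hmemH _).2 ⟨x0, hx0R, rfl⟩⟩, ?_⟩
    rw [hτ]
    show π g * π x0 * (π g)⁻¹ * (π x0)⁻¹ = _
    rw [map_mul, map_mul, map_mul, map_inv, map_inv]
  have hw0ne : π (g * x0 * g⁻¹ * x0⁻¹) ≠ 1 := fun h => hx0 ((hπ1 _).1 h)
  have hk0 : k ≠ 0 := by
    rintro rfl
    rw [pow_zero] at hk
    have hWbot : W = ⊥ := Subgroup.card_eq_one.1 hk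
    rw [hWbot, Subgroup.mem_bot] at hw0
    exact hw0ne hw0
  -- the permutation
  have hσmem : ∀ w ∈ W, g' * w * g'⁻¹ ∈ W := by
    rintro w ⟨b, rfl⟩
    refine ⟨⟨g' * (b : G ⧸ Z) * g'⁻¹, hnorm _ b.2⟩, ?_⟩
    rw [hτ, hτ]
    show g' * (g' * (b : G ⧸ Z) * g'⁻¹) * g'⁻¹ * (g' * (b : G ⧸ Z) * g'⁻¹)⁻¹ =
      g' * (g' * (b : G ⧸ Z) * g'⁻¹ * (b : G ⧸ Z)⁻¹) * g'⁻¹
    group
  let σfun : W → W := fun w => ⟨g' * (w : G ⧸ Z) * g'⁻¹, hσmem _ w.2⟩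
  have hσinj : Function.Injective σfun := by
    intro w w' hww
    have h1 : g' * (w : G ⧸ Z) * g'⁻¹ = g' * (w' : G ⧸ Z) * g'⁻¹ := congrArg Subtype.val hww
    apply Subtype.ext
    exact mul_left_cancel (mul_right_cancel h1)
  let σ : Equiv.Perm W := Equiv.ofBijective σfun (Finite.injective_iff_bijective.1 hσinj)
  have hσ : ∀ w : W, ((σ w : W) : G ⧸ Z) = g' * (w : G ⧸ Z) * g'⁻¹ := fun w => rfl
  have hσpow : ∀ (m : ℕ) (w : W),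
      (((σ ^ m) w : W) : G ⧸ Z) = g' ^ m * (w : G ⧸ Z) * (g' ^ m)⁻¹ := by
    intro m
    induction m with
    | zero => intro w; simp
    | succ m ih =>
      intro w
      rw [pow_succ', Equiv.Perm.mul_apply, hσ, ih, pow_succ', mul_inv_rev]
      simp only [mul_assoc]
  have hσr : σ ^ r ^ 1 = 1 := by
    apply Equiv.ext
    intro w
    apply Subtype.ext
    rw [pow_one, hσpow, hg'pow]
    simp
  haveI : Fintype W := Fintype.ofFinite W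
  have hmod := Equiv.Perm.card_compl_support_modEq hσr
  have hfix : σ.supportᶜ = {1} := by
    ext w
    rw [Finset.mem_compl, Equiv.Perm.mem_support, not_not, Finset.mem_singleton]
    constructor
    · intro hw
      by_contra hw1
      obtain ⟨b, hb⟩ := w.2
      obtain ⟨x, hxR, hxb⟩ := (hmemH _).1 b.2
      have hy : π (g * x * g⁻¹ * x⁻¹) = (w : G ⧸ Z) := by
        rw [← hb, hτ, ← hxb]
        show _ = π g * π x * (π g)⁻¹ * (π x)⁻¹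
        rw [map_mul, map_mul, map_mul, map_inv, map_inv]
      have hyH : g * x * g⁻¹ * x⁻¹ ∈ R ⊔ Z :=
        (R ⊔ Z).mul_mem ((Subgroup.mem_normalizer_iff.1 hg x).1 (Subgroup.mem_sup_left hxR))
          ((R ⊔ Z).inv_mem (Subgroup.mem_sup_left hxR))
      have hyZ : g * x * g⁻¹ * x⁻¹ ∉ Z := by
        intro h
        apply hw1
        apply Subtype.ext
        rw [← hy, (hπ1 _).2 h]
        rfl
      have h1 := hcon x hxR _ hyH hyZ (by group)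
      apply h1
      rw [← hπ1]
      have h2 : (w : G ⧸ Z) = g' * (w : G ⧸ Z) * g'⁻¹ := by
        rw [← hσ, hw]
      rw [map_mul, map_mul, map_mul, map_inv, map_inv, hy]
      show g' * (w : G ⧸ Z) * g'⁻¹ * (w : G ⧸ Z)⁻¹ = 1
      rw [← h2, mul_inv_cancel]
    · rintro rfl
      apply Subtype.ext
      rw [hσ]
      simp
  rw [hfix, Finset.card_singleton, Fintype.card_eq_nat_card, hk] at hmod
  have h1 : r ∣ r ^ k := dvd_pow_self r hk0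
  have h2 : r ^ k ≡ 0 [MOD r] := (Nat.modEq_zero_iff_dvd).2 h1
  have h3 : r ∣ 1 := (Nat.modEq_zero_iff_dvd).1 (hmod.trans h2)
  exact hr.one_lt.ne' (Nat.dvd_one.1 h3)

section grp

variable {F : Type*} [Field F] [Finite F] {n r : ℕ} {R : Subgroup (GL (Fin n) F)}

theorem a5a_scalar_comm (z : GL (Fin n) F) (hz : z ∈ scalars (Fin n) F) (a : GL (Fin n) F) :
    z * a = a * z := by
  obtain ⟨c, hc⟩ := (mem_scalars_iff z).1 hz
  apply Units.ext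
  rw [Units.val_mul, Units.val_mul, hc]
  simp

theorem a5a_center_le (S : Setup r R) (y : GL (Fin n) F)
    (hc : ∀ x ∈ R, x * y = y * x) : y ∈ scalars (Fin n) F := by
  obtain ⟨c, hcM⟩ := S.hirr.2 (y : Matrix (Fin n) (Fin n) F) (by
    rintro s ⟨x, hx, rfl⟩
    have := congrArg (fun u : GL (Fin n) F => (u : Matrix (Fin n) (Fin n) F)) (hc x hx)
    simpa [Units.val_mul] using this.symm)
  by_cases hc0 : c = 0
  · have h0 : (y : Matrix (Fin n) (Fin n) F) = 0 := by rw [hcM, hc0, zero_smul]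
    have h1 : (1 : Matrix (Fin n) (Fin n) F) = 0 := by
      have : (y : Matrix (Fin n) (Fin n) F) * ((y⁻¹ : GL (Fin n) F) : Matrix (Fin n) (Fin n) F)
          = 1 := by rw [← Units.val_mul, mul_inv_cancel, Units.val_one]
      rw [← this, h0, zero_mul]
    refine (mem_scalars_iff y).2 ⟨1, ?_⟩
    rw [h0, Units.val_one, one_smul, h1]
  · exact (mem_scalars_iff y).2 ⟨Units.mk0 c hc0, hcM⟩

theorem a5a_comm_mem (S : Setup r R) (a b : GL (Fin n) F) (ha : a ∈ R) (hb : b ∈ R) :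
    a * b * a⁻¹ * b⁻¹ ∈ scalars (Fin n) F := by
  have h1 : ⁅(⟨a, ha⟩ : R), (⟨b, hb⟩ : R)⁆ ∈ commutator R := by
    rw [commutator_def]
    exact Subgroup.commutator_mem_commutator (Subgroup.mem_top _) (Subgroup.mem_top _)
  rw [S.hext, Subgroup.mem_center_iff] at h1
  apply a5a_center_le S
  intro x hx
  have h2 := congrArg (fun u : R => (u : GL (Fin n) F)) (h1 ⟨x, hx⟩)
  simpa [commutatorElement_def] using h2

/-- **(A5a) g^r = 1, non-trivial: a second-layer element.** -/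
theorem eq_exists (S : Setup r R) (g : GL (Fin n) F)
    (hg : g ∈ subgroupNormalizer (HZ R)) (hnt : ¬ Triv R g) (hpow : g ^ r = 1) :
    ∃ x ∈ R, ∃ y ∈ HZ R, y ∉ scalars (Fin n) F ∧ g * x * g⁻¹ = y * x ∧
      g * y * g⁻¹ * y⁻¹ ∈ scalars (Fin n) F := by
  have hnt' : ∃ x ∈ R, g * x * g⁻¹ * x⁻¹ ∉ scalars (Fin n) F := by
    unfold Triv at hnt
    push_neg at hnt
    exact hnt
  exact a5a_abstract (scalars (Fin n) F) R S.hr a5a_scalar_comm S.hR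
    (fun a ha b hb => a5a_comm_mem S a b ha hb) g hg hpow hnt'

end grp

end Cfsg.Agent.Helper30.ES
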