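import Mathlib
import Cfsg.Prelude.Def_GeometricClasses
import Cfsg.Agent.Lib.Helper97.ESDefs

/-!
# helper97 ES server (S5877): piece (G2) `exists_perm`
-/

set_option autoImplicit false

namespace Cfsg.Agent.Helper30.ES

open Cfsg Cfsg.Geo Cfsg.Agent.Helper97.ES
open scoped MatrixGroups

section grp

variable {F : Type*} [Field F] [Finite F] {n r : ℕ} {R : Subgroup (GL (Fin n) F)}

/-- in a linearly independent family, proportional members (nonzero factor) coincide -/
theorem g2_eq_of_smul_eq {ι M : Type*} [AddCommGroup M] [Module F M] {v : ι → M}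
    (li : LinearIndependent F v) {t s : ι} {a b : F} (ha : a ≠ 0)
    (h : a • v t = b • v s) : t = s := by
  have h1 : Finsupp.linearCombination F v (Finsupp.single t a) =
      Finsupp.linearCombination F v (Finsupp.single s b) := by
    simp [h]
  have h2 := li h1
  rcases (Finsupp.single_eq_single_iff _ _ _ _).1 h2 with h3 | h3
  · exact h3.1
  · exact absurd h3.1 ha

/-- **(G2) conjugation by g permutes the nice basis up to scalars.** -/
theorem exists_perm (S : Setup r R) (x : Fin (n * n) → Matrix (Fin n) (Fin n) F)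
    (hx : NiceBasis R x) (g : GL (Fin n) F) (hg : g ∈ subgroupNormalizer (HZ R)) (ϖ : ℕ)
    (hpow : g ^ ϖ = 1) :
    ∃ σ : Equiv.Perm (Fin (n * n)), ∃ μ : Fin (n * n) → F,
      (∀ t, conjLin g (x t) = μ t • x (σ t)) ∧ σ ^ ϖ = 1 := by
  classical
  -- step 1: the image of each basis element
  have h1 : ∀ t, ∃ t' : Fin (n * n), ∃ c : F, conjLin g (x t) = c • x t' := by
    intro t
    obtain ⟨y, hyR, hy⟩ := hx.mem t
    have hyH : y ∈ HZ R := Subgroup.mem_sup_left hyR
    have hgy : g * y * g⁻¹ ∈ HZ R := (Subgroup.mem_normalizer_iff.1 hg y).1 hyH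
    obtain ⟨t', c, hc⟩ := hx.cover _ hgy
    refine ⟨t', c, ?_⟩
    rw [conjLin_apply, ← hy, ← hc]
    simp [Units.val_mul]
  choose f μ hf using h1
  -- `conjLin g` is injective
  have hinj : ∀ A : Matrix (Fin n) (Fin n) F, conjLin g A = 0 → A = 0 := by
    intro A hA
    rw [conjLin_apply] at hA
    have h2 : ((g⁻¹ : GL (Fin n) F) : Matrix (Fin n) (Fin n) F) *
        ((g : Matrix (Fin n) (Fin n) F) * A * ((g⁻¹ : GL (Fin n) F) : Matrix (Fin n) (Fin n) F)) *
        (g : Matrix (Fin n) (Fin n) F) = A := by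
      have e1 : ((g⁻¹ : GL (Fin n) F) : Matrix (Fin n) (Fin n) F) *
          (g : Matrix (Fin n) (Fin n) F) = 1 := by
        rw [← Units.val_mul, inv_mul_cancel, Units.val_one]
      calc ((g⁻¹ : GL (Fin n) F) : Matrix (Fin n) (Fin n) F) *
          ((g : Matrix (Fin n) (Fin n) F) * A *
            ((g⁻¹ : GL (Fin n) F) : Matrix (Fin n) (Fin n) F)) *
          (g : Matrix (Fin n) (Fin n) F)
          = (((g⁻¹ : GL (Fin n) F) : Matrix (Fin n) (Fin n) F) *
              (g : Matrix (Fin n) (Fin n) F)) * A *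
            (((g⁻¹ : GL (Fin n) F) : Matrix (Fin n) (Fin n) F) *
              (g : Matrix (Fin n) (Fin n) F)) := by
            simp only [mul_assoc]
        _ = A := by rw [e1, one_mul, mul_one]
    rw [← h2, hA, mul_zero, zero_mul]
  have hμ : ∀ t, μ t ≠ 0 := by
    intro t h0
    have h2 := hf t
    rw [h0, zero_smul] at h2
    exact hx.li.ne_zero t (hinj _ h2)
  have hfinj : Function.Injective f := by
    intro t s hts
    have h2 : conjLin g (μ s • x t) = conjLin g (μ t • x s) := by
      rw [map_smul, map_smul, hf t, hf s, hts, smul_smul, smul_smul, mul_comm]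
    have h3 : μ s • x t - μ t • x s = 0 := by
      apply hinj
      rw [map_sub, h2, sub_self]
    exact g2_eq_of_smul_eq hx.li (hμ s) (sub_eq_zero.1 h3)
  have hfbij : Function.Bijective f := Finite.injective_iff_bijective.1 hfinj
  let σ : Equiv.Perm (Fin (n * n)) := Equiv.ofBijective f hfbij
  have hσ : ∀ t, σ t = f t := fun t => rfl
  refine ⟨σ, μ, fun t => by rw [hσ]; exact hf t, ?_⟩
  -- step 2: iterate
  have hiter : ∀ k : ℕ, ∀ t, ∃ c : F, c ≠ 0 ∧
      ((g ^ k : GL (Fin n) F) : Matrix (Fin n) (Fin n) F) * x t *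
        (((g ^ k)⁻¹ : GL (Fin n) F) : Matrix (Fin n) (Fin n) F) = c • x ((σ ^ k) t) := by
    intro k
    induction k with
    | zero =>
      intro t
      exact ⟨1, one_ne_zero, by simp⟩
    | succ k ih =>
      intro t
      obtain ⟨c, hc0, hc⟩ := ih t
      refine ⟨c * μ ((σ ^ k) t), mul_ne_zero hc0 (hμ _), ?_⟩
      have e1 : ((g ^ (k + 1) : GL (Fin n) F) : Matrix (Fin n) (Fin n) F) =
          (g : Matrix (Fin n) (Fin n) F) * ((g ^ k : GL (Fin n) F) : Matrix (Fin n) (Fin n) F) := by
        rw [pow_succ', Units.val_mul]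
      have e2 : (((g ^ (k + 1))⁻¹ : GL (Fin n) F) : Matrix (Fin n) (Fin n) F) =
          (((g ^ k)⁻¹ : GL (Fin n) F) : Matrix (Fin n) (Fin n) F) *
            ((g⁻¹ : GL (Fin n) F) : Matrix (Fin n) (Fin n) F) := by
        rw [pow_succ', mul_inv_rev, Units.val_mul]
      have e3 : (σ ^ (k + 1)) t = σ ((σ ^ k) t) := by
        rw [pow_succ', Equiv.Perm.mul_apply]
      rw [e1, e2, e3]
      calc (g : Matrix (Fin n) (Fin n) F) * ((g ^ k : GL (Fin n) F) : Matrix (Fin n) (Fin n) F) *
            x t * ((((g ^ k)⁻¹ : GL (Fin n) F) : Matrix (Fin n) (Fin n) F) *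
            ((g⁻¹ : GL (Fin n) F) : Matrix (Fin n) (Fin n) F))
          = (g : Matrix (Fin n) (Fin n) F) *
              (((g ^ k : GL (Fin n) F) : Matrix (Fin n) (Fin n) F) * x t *
                (((g ^ k)⁻¹ : GL (Fin n) F) : Matrix (Fin n) (Fin n) F)) *
              ((g⁻¹ : GL (Fin n) F) : Matrix (Fin n) (Fin n) F) := by
            simp only [mul_assoc]
        _ = c • conjLin g (x ((σ ^ k) t)) := by
            rw [hc, conjLin_apply, Matrix.mul_smul, Matrix.smul_mul]
        _ = (c * μ ((σ ^ k) t)) • x (σ ((σ ^ k) t)) := by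
            rw [hσ, hf, smul_smul]
  apply Equiv.ext
  intro t
  obtain ⟨c, hc0, hc⟩ := hiter ϖ t
  rw [hpow] at hc
  simp only [inv_one, Units.val_one, one_mul, mul_one] at hc
  have h4 : (1 : F) • x t = c • x ((σ ^ ϖ) t) := by rw [one_smul]; exact hc
  have h5 := g2_eq_of_smul_eq hx.li one_ne_zero h4
  rw [Equiv.Perm.one_apply]
  exact h5.symm

end grp

end Cfsg.Agent.Helper30.ES
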