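import Mathlib
import Cfsg.Agent.Lib.Helper52.FCDefs

/-!
# FC (helper52 server, S3816): piece (A8) caseA_cent (helper30)
-/

set_option autoImplicit false

namespace Cfsg.Agent.Helper30.FC

open Subgroup Cfsg.Agent.Helper52.FC
open scoped commutatorElement

universe u

variable {G : Type u} [Group G]

theorem h30_pow_conj_mem (a : G) (X : Subgroup G) (hX : Inv a X) (x : G) (hx : x ∈ X) (i : ℕ) :
    a ^ i * x * (a ^ i)⁻¹ ∈ X := by
  induction i with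
  | zero => simpa using hx
  | succ i ih =>
    have h1 := hX _ ih
    have e : a ^ (i + 1) * x * (a ^ (i + 1))⁻¹ = a * (a ^ i * x * (a ^ i)⁻¹) * a⁻¹ := by
      rw [pow_succ']; group
    rw [e]; exact h1

theorem h30_mem_sup_comm (A B : Subgroup G) (hAB : ∀ x ∈ A, ∀ y ∈ B, x * y = y * x) (g : G)
    (hg : g ∈ A ⊔ B) : ∃ x ∈ A, ∃ y ∈ B, g = x * y := by
  rw [Subgroup.sup_eq_closure] at hg
  induction hg using Subgroup.closure_induction with
  | mem x hx =>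
    rcases hx with hx | hx
    · exact ⟨x, hx, 1, B.one_mem, by simp⟩
    · exact ⟨1, A.one_mem, x, hx, by simp⟩
  | one => exact ⟨1, A.one_mem, 1, B.one_mem, by simp⟩
  | mul x y _ _ hx hy =>
    obtain ⟨x1, hx1, y1, hy1, rfl⟩ := hx
    obtain ⟨x2, hx2, y2, hy2, rfl⟩ := hy
    refine ⟨x1 * x2, A.mul_mem hx1 hx2, y1 * y2, B.mul_mem hy1 hy2, ?_⟩
    have h := hAB x2 hx2 y1 hy1
    calc x1 * y1 * (x2 * y2) = x1 * (y1 * x2) * y2 := by group
      _ = x1 * (x2 * y1) * y2 := by rw [h]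
      _ = x1 * x2 * (y1 * y2) := by group
  | inv x _ hx =>
    obtain ⟨x1, hx1, y1, hy1, rfl⟩ := hx
    refine ⟨x1⁻¹, A.inv_mem hx1, y1⁻¹, B.inv_mem hy1, ?_⟩
    have h := hAB x1⁻¹ (A.inv_mem hx1) y1⁻¹ (B.inv_mem hy1)
    rw [mul_inv_rev, h]

/-- `comm a N ≤ N` for `a`-invariant `N`. -/
theorem h30_comm_le (a : G) (N : Subgroup G) (hNa : Inv a N) : comm a N ≤ N := by
  unfold Cfsg.Agent.Helper52.FC.comm
  rw [Subgroup.closure_le]
  rintro c ⟨h, hh, i, rfl⟩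
  exact N.mul_mem (N.inv_mem hh) (h30_pow_conj_mem a N hNa h hh i)

/-- the `δ`-trick: an abelian `a`-invariant finite `N` with `N = [N,P]` has no fixed points. -/
theorem h30_fix_bot_of_comm_eq [Finite G] (a : G) (N : Subgroup G) (hNa : Inv a N) (hNab : Ab N)
    (hc : N ≤ comm a N) : N ⊓ Fix a = ⊥ := by
  -- the hom δ
  have hδmem : ∀ n : N, (n : G)⁻¹ * (a * (n : G) * a⁻¹) ∈ N := fun n =>
    N.mul_mem (N.inv_mem n.2) (hNa _ n.2)
  let δ : N →* N := MonoidHom.mk' (fun n => ⟨(n : G)⁻¹ * (a * (n : G) * a⁻¹), hδmem n⟩) (by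
    intro x y
    apply Subtype.ext
    simp only [Subgroup.coe_mul]
    have h := hNab _ (hδmem x) _ (N.inv_mem y.2)
    calc ((x : G) * (y : G))⁻¹ * (a * ((x : G) * (y : G)) * a⁻¹)
        = (y : G)⁻¹ * ((x : G)⁻¹ * (a * (x : G) * a⁻¹)) * (a * (y : G) * a⁻¹) := by group
      _ = ((x : G)⁻¹ * (a * (x : G) * a⁻¹)) * (y : G)⁻¹ * (a * (y : G) * a⁻¹) := by rw [h]
      _ = _ := by group)
  have hδ : ∀ n : N, ((δ n : N) : G) = (n : G)⁻¹ * (a * (n : G) * a⁻¹) := fun n => rfl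
  -- the image contains comm a N
  have hT : comm a N ≤ (δ.range).map N.subtype := by
    unfold Cfsg.Agent.Helper52.FC.comm
    rw [Subgroup.closure_le]
    rintro c ⟨h, hh, i, rfl⟩
    induction i with
    | zero =>
      have : h⁻¹ * (a ^ 0 * h * (a ^ 0)⁻¹) = 1 := by simp
      rw [this]; exact Subgroup.one_mem _
    | succ i ih =>
      have hm := h30_pow_conj_mem a N hNa h hh i
      have e : h⁻¹ * (a ^ (i + 1) * h * (a ^ (i + 1))⁻¹) =
          (h⁻¹ * (a ^ i * h * (a ^ i)⁻¹)) *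
            ((a ^ i * h * (a ^ i)⁻¹)⁻¹ * (a * (a ^ i * h * (a ^ i)⁻¹) * a⁻¹)) := by
        rw [pow_succ']; group
      rw [e]
      refine Subgroup.mul_mem _ ih ?_
      refine Subgroup.mem_map.mpr ⟨δ ⟨_, hm⟩, ⟨⟨_, hm⟩, rfl⟩, ?_⟩
      rfl
  have hsurj : Function.Surjective δ := by
    intro n
    have h1 : (n : G) ∈ (δ.range).map N.subtype := hT (hc n.2)
    obtain ⟨m, ⟨k, rfl⟩, hk⟩ := Subgroup.mem_map.mp h1
    exact ⟨k, Subtype.ext hk⟩
  have hinj : Function.Injective δ := Finite.injective_iff_surjective.mpr hsurj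
  rw [eq_bot_iff]
  intro c hc'
  rw [Subgroup.mem_inf] at hc'
  obtain ⟨hcN, hcF⟩ := hc'
  have hca : a * c = c * a := by
    have := Subgroup.mem_centralizer_iff.mp hcF a (Set.mem_singleton a)
    exact this
  have h1 : δ ⟨c, hcN⟩ = δ 1 := by
    apply Subtype.ext
    rw [hδ, hδ]
    simp only [Subgroup.coe_one]
    rw [hca]; group
  have h2 := hinj h1
  have h3 : c = 1 := by
    have := congrArg (fun n : N => (n : G)) h2
    simpa using this
  rw [h3]; exact Subgroup.one_mem _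

/-- (A8) [M] `⁅N,L⁆ = 1`, `H = N ⊔ L`: `comm a H = comm a N ⊔ L`, so `N = comm a N` (Dedekind, `N ⊓ L = ⊥`), `N ⊓ Fix a = ⊥` (abelian, coprime),
but `⊥ ≠ ZZ a H ≤ N ⊓ Fix a`. -/
theorem caseA_cent [Finite G] {p : ℕ} {a : G} {H : Subgroup G} (mx : MCX p G a H) (N : Subgroup G) (hN : Chief a H N) (hNab : Ab N)
    (hZ : ZZ a H ≠ ⊥) (L : Subgroup G) (hLH : L ≤ H) (hLa : Inv a L) (hNL : N ⊔ L = H) (hNL' : N ⊓ L = ⊥)
    (hcent : ∀ n ∈ N, ∀ y ∈ L, n * y = y * n) : False := by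
  have hNa := hN.inv
  have hcN : comm a N ≤ N := h30_comm_le a N hNa
  -- comm a H ≤ comm a N ⊔ L
  have h1 : comm a H ≤ comm a N ⊔ L := by
    conv_lhs => unfold Cfsg.Agent.Helper52.FC.comm
    rw [Subgroup.closure_le]
    rintro c ⟨h, hh, i, rfl⟩
    rw [← hNL] at hh
    obtain ⟨n, hn, y, hy, rfl⟩ := h30_mem_sup_comm N L hcent h hh
    have hm := h30_pow_conj_mem a N hNa n hn i
    have hd : n⁻¹ * (a ^ i * n * (a ^ i)⁻¹) ∈ N := N.mul_mem (N.inv_mem hn) hm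
    have hcomm := hcent _ hd y⁻¹ (L.inv_mem hy)
    have e : (n * y)⁻¹ * (a ^ i * (n * y) * (a ^ i)⁻¹) =
        (n⁻¹ * (a ^ i * n * (a ^ i)⁻¹)) * (y⁻¹ * (a ^ i * y * (a ^ i)⁻¹)) := by
      calc (n * y)⁻¹ * (a ^ i * (n * y) * (a ^ i)⁻¹)
          = y⁻¹ * (n⁻¹ * (a ^ i * n * (a ^ i)⁻¹)) * (a ^ i * y * (a ^ i)⁻¹) := by group
        _ = (n⁻¹ * (a ^ i * n * (a ^ i)⁻¹)) * y⁻¹ * (a ^ i * y * (a ^ i)⁻¹) := by rw [hcomm]
        _ = _ := by group
    rw [e]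
    refine Subgroup.mul_mem _ (Subgroup.mem_sup_left ?_) (Subgroup.mem_sup_right ?_)
    · exact Subgroup.subset_closure ⟨n, hn, i, rfl⟩
    · exact L.mul_mem (L.inv_mem hy) (h30_pow_conj_mem a L hLa y hy i)
  -- N ≤ comm a N
  have h2 : N ≤ comm a N := by
    intro n hn
    have hnH : n ∈ comm a H := by rw [mx.comm_eq]; exact hN.le hn
    obtain ⟨c, hc, y, hy, rfl⟩ := h30_mem_sup_comm (comm a N) L
      (fun x hx y hy => hcent x (hcN hx) y hy) n (h1 hnH)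
    have hyN : y ∈ N := by
      have : y = c⁻¹ * (c * y) := by group
      rw [this]; exact N.mul_mem (N.inv_mem (hcN hc)) hn
    have hy1 : y ∈ N ⊓ L := Subgroup.mem_inf.mpr ⟨hyN, hy⟩
    rw [hNL', Subgroup.mem_bot] at hy1
    rw [hy1, mul_one]; exact hc
  have h3 := h30_fix_bot_of_comm_eq a N hNa hNab h2
  apply hZ
  rw [eq_bot_iff, ← h3]
  intro z hz
  refine Subgroup.mem_inf.mpr ⟨hN.zle hz, ?_⟩
  unfold ZZ at hz
  exact (Subgroup.mem_inf.mp (Subgroup.mem_inf.mp hz).1).2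

end Cfsg.Agent.Helper30.FC
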