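import Mathlib
import Cfsg.Agent.Lib.Helper52.FCDefs

/-!
# FC (helper52 server, S3816): piece (ALG) alg_biadd (helper30)
-/

set_option autoImplicit false

namespace Cfsg.Agent.Helper30.FC

open Subgroup Cfsg.Agent.Helper52.FC
open scoped commutatorElement

universe u

variable {G : Type u} [Group G]

theorem h30_mul_apply {W : Type*} [AddCommGroup W] (f g : AddMonoid.End W) (w : W) :
    (f * g) w = f (g w) := rfl

theorem h30_pow_fix {W : Type*} [AddCommGroup W] (f : AddMonoid.End W) (w : W) (h : f w = w) (k : ℕ) :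
    (f ^ k) w = w := by
  induction k with
  | zero => simp
  | succ k ih => rw [pow_succ, h30_mul_apply, h, ih]

/-- (ALG) [M] see (5)(ALG). -/
theorem alg_biadd {U W Z : Type*} [AddCommGroup U] [AddCommGroup W] [AddCommGroup Z] [Finite W] (p : ℕ) (hp : p.Prime) (hp2 : p ≠ 2)
    (α : AddMonoid.End U) (β : AddMonoid.End W) (hβ : β ^ p = 1) (hfix : ∀ w : W, β w = w → w = 0)
    (B : U →+ W →+ Z) (hinv : ∀ u w, B (α u) (β w) = B u w)
    (hsym : ∀ (i j : ℕ) u w, B ((α ^ i) u - u) ((β ^ j) w - w) = B ((α ^ j) u - u) ((β ^ i) w - w)) : ∀ u w, B u w = 0 := by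
  -- the two injective maps
  have hf1 : Function.Injective (fun w : W => β w - w) := by
    intro x y hxy
    simp only at hxy
    have h1 : β (x - y) = x - y := by
      rw [map_sub]
      have : β x - β y = x - y := by
        have h2 : β x - x - (β y - y) = 0 := by rw [hxy, sub_self]
        have h3 : β x - β y - (x - y) = β x - x - (β y - y) := by abel
        rw [← sub_eq_zero, h3, h2]
      exact this
    exact sub_eq_zero.mp (hfix _ h1)
  have hsq : ∀ w : W, β (β w) = w → w = 0 := by
    intro w hw
    apply hfix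
    obtain ⟨m, hm⟩ := hp.odd_of_ne_two hp2
    have h2 : (β ^ 2) w = w := by rw [pow_two, h30_mul_apply]; exact hw
    have h3 : ((β ^ 2) ^ (m + 1)) w = w := h30_pow_fix (β ^ 2) w h2 (m + 1)
    have h4 : (β ^ 2) ^ (m + 1) = β := by
      rw [← pow_mul, show 2 * (m + 1) = p + 1 by omega, pow_succ, hβ, one_mul]
    rw [h4] at h3
    exact h3
  have hf2 : Function.Injective (fun w : W => β (β w) - w) := by
    intro x y hxy
    simp only at hxy
    have h1 : β (β (x - y)) = x - y := by
      rw [map_sub, map_sub]
      have h2 : β (β x) - x - (β (β y) - y) = 0 := by rw [hxy, sub_self]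
      have h3 : β (β x) - β (β y) - (x - y) = β (β x) - x - (β (β y) - y) := by abel
      rw [← sub_eq_zero, h3, h2]
    exact sub_eq_zero.mp (hsq _ h1)
  have hη : Function.Injective
      (fun v : W => β (β ((β (β v - v)) - (β v - v))) - ((β (β v - v)) - (β v - v))) :=
    hf2.comp (hf1.comp hf1)
  have hηs := Finite.injective_iff_surjective.mp hη
  -- the identity
  have key : ∀ u v, B u (β (β ((β (β v - v)) - (β v - v))) - ((β (β v - v)) - (β v - v))) = 0 := by
    intro u v
    have h := hsym 1 2 u (β (β v))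
    simp only [pow_one, pow_two, h30_mul_apply] at h
    simp only [map_sub, AddMonoidHom.sub_apply] at h ⊢
    have e1 : B (α u) (β (β (β (β v)))) = B u (β (β (β v))) := hinv u _
    have e2 : B (α u) (β (β v)) = B u (β v) := hinv u _
    have e3 : B (α (α u)) (β (β (β v))) = B u (β v) := by rw [hinv, hinv]
    have e4 : B (α (α u)) (β (β v)) = B u v := by rw [hinv, hinv]
    rw [e1, e2, e3, e4] at h
    have h' := sub_eq_zero.mpr h
    rw [← neg_eq_zero, ← h']
    abel
  intro u w
  obtain ⟨v, hv⟩ := hηs w
  rw [← hv]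
  exact key u v

end Cfsg.Agent.Helper30.FC
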