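import Mathlib
import Cfsg.Agent.Lib.Helper97.FXDefs
import Cfsg.Agent.Lib.Helper97.FXDefs2
import Cfsg.Agent.Lib.Helper48.SympRep

/-!
# helper97 FX server, wave 2 (S3818): piece (SIMEIG) — simultaneous eigenspace decomposition
-/

set_option autoImplicit false

namespace Cfsg.Agent.Helper30.FX

open Cfsg.Agent.Helper97.FX Cfsg.Agent.Helper48.SympRep
open scoped TensorProduct

universe u

section RT
variable {K : Type*} [Field K] [IsAlgClosed K] {G : Type*} [Group G] [Finite G]
variable {V : Type u} [AddCommGroup V] [Module K V] [FiniteDimensional K V] [Nontrivial V]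

/-- (SIMEIG) commuting operators of order dividing `m`, `m` invertible in `K`: the simultaneous eigenspaces
are independent and span. -/
theorem simul_eigen {ι : Type*} [Finite ι] (f : ι → Module.End K V)
    (hcomm : ∀ i j, f i * f j = f j * f i) (m : ℕ) (hm : (m : K) ≠ 0) (hfm : ∀ i, f i ^ m = 1) :
    iSupIndep (fun χ : ι → K => ⨅ i, Module.End.eigenspace (f i) (χ i)) ∧
      ⨆ χ : ι → K, ⨅ i, Module.End.eigenspace (f i) (χ i) = ⊤ := by
  have hss : ∀ i, (f i).IsSemisimple := by
    intro i
    apply Module.End.isSemisimple_of_squarefree_aeval_eq_zero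
      (p := Polynomial.X ^ m - Polynomial.C (1 : K))
    · exact (Polynomial.separable_X_pow_sub_C (1 : K) hm one_ne_zero).squarefree
    · simp [hfm i]
  have heq : ∀ i μ, (f i).maxGenEigenspace μ = (f i).eigenspace μ := fun i μ =>
    (hss i).isFinitelySemisimple.maxGenEigenspace_eq_eigenspace μ
  have h1 := Module.End.independent_iInf_maxGenEigenspace_of_forall_mapsTo f
    (fun i j φ => Module.End.mapsTo_maxGenEigenspace_of_comm (hcomm j i : Commute (f j) (f i)) φ)
  have h2 := Module.End.iSup_iInf_maxGenEigenspace_eq_top_of_iSup_maxGenEigenspace_eq_top_of_commute f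
    (fun i j _ => hcomm i j) (fun i => Module.End.iSup_maxGenEigenspace_eq_top (f i))
  simp only [heq] at h1 h2
  exact ⟨h1, h2⟩

end RT

end Cfsg.Agent.Helper30.FX
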