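import Mathlib
import Cfsg.Agent.Lib.Helper97.FXDefs
import Cfsg.Agent.Lib.Helper97.FXDefs2
import Cfsg.Agent.Lib.Helper48.SympRep
import Cfsg.Agent.Lib.Helper30.FXSIMEIG

/-!
# helper97 FX server, wave 2 (S3818): piece (WT) — the weight decomposition for an abelian normal subgroup
-/

set_option autoImplicit false

namespace Cfsg.Agent.Helper30.FX

open Cfsg.Agent.Helper97.FX Cfsg.Agent.Helper48.SympRep
open scoped TensorProduct

universe u

section RT
variable {K : Type*} [Field K] [IsAlgClosed K] {G : Type*} [Group G] [Finite G]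
variable {V : Type u} [AddCommGroup V] [Module K V] [FiniteDimensional K V] [Nontrivial V]

omit [IsAlgClosed K] [Finite G] [FiniteDimensional K V] [Nontrivial V] in
theorem h30_mem_wt (ρ : G →* Module.End K V) (N : Subgroup G) (χ : ↥N → K) (v : V) :
    v ∈ (⨅ n : ↥N, Module.End.eigenspace (ρ (n : G)) (χ n)) ↔ ∀ n : ↥N, ρ (n : G) v = χ n • v := by
  simp [Submodule.mem_iInf, Module.End.mem_eigenspace_iff]

/-- the conjugate character -/
def h30conj (N : Subgroup G) [hN : N.Normal] (g : G) (χ : ↥N → K) : ↥N → K :=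
  fun n => χ ⟨g⁻¹ * n * g, by
    have := hN.conj_mem n n.2 g⁻¹
    simpa using this⟩

omit [IsAlgClosed K] [Finite G] [FiniteDimensional K V] [Nontrivial V] in
theorem h30_map_le (ρ : G →* Module.End K V) (N : Subgroup G) [hN : N.Normal] (g : G) (χ : ↥N → K) :
    (⨅ n : ↥N, Module.End.eigenspace (ρ (n : G)) (χ n)).map (ρ g) ≤
      ⨅ n : ↥N, Module.End.eigenspace (ρ (n : G)) (h30conj N g χ n) := by
  rintro _ ⟨v, hv, rfl⟩
  rw [SetLike.mem_coe, h30_mem_wt] at hv
  rw [h30_mem_wt]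
  intro n
  have h1 : ρ (n : G) (ρ g v) = ρ g (ρ (g⁻¹ * n * g) v) := by
    rw [← Module.End.mul_apply, ← Module.End.mul_apply, ← map_mul, ← map_mul]
    congr 2
    group
  have h2 := hv ⟨g⁻¹ * n * g, by
    have := hN.conj_mem n n.2 g⁻¹
    simpa using this⟩
  rw [h1]
  show ρ g (ρ (g⁻¹ * n * g) v) = h30conj N g χ n • ρ g v
  rw [h2, map_smul]
  rfl

omit [IsAlgClosed K] [Finite G] [FiniteDimensional K V] [Nontrivial V] in
theorem h30_map_eq (ρ : G →* Module.End K V) (N : Subgroup G) [hN : N.Normal] (g : G) (χ : ↥N → K) :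
    (⨅ n : ↥N, Module.End.eigenspace (ρ (n : G)) (χ n)).map (ρ g) =
      ⨅ n : ↥N, Module.End.eigenspace (ρ (n : G)) (h30conj N g χ n) := by
  apply le_antisymm (h30_map_le ρ N g χ)
  intro w hw
  have h1 := h30_map_le ρ N g⁻¹ (h30conj N g χ)
  have h2 : h30conj N g⁻¹ (h30conj N g χ) = χ := by
    funext n
    show χ _ = χ n
    congr 1
    apply Subtype.ext
    show g⁻¹ * (g⁻¹⁻¹ * (n : G) * g⁻¹) * g = n
    group
  rw [h2] at h1
  refine ⟨ρ g⁻¹ w, h1 ⟨w, hw, rfl⟩, ?_⟩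
  rw [← Module.End.mul_apply, ← map_mul, mul_inv_cancel, map_one, Module.End.one_apply]

/-- (WT) the weight decomposition. -/
theorem weight_decomp (ρ : G →* Module.End K V) (hirr : Irr ρ) (N : Subgroup G) [N.Normal]
    (hab : ∀ a ∈ N, ∀ b ∈ N, a * b = b * a) (hcard : (Nat.card N : K) ≠ 0) :
    ∃ W₀ : Submodule K V, W₀ ≠ ⊥ ∧ (∀ n ∈ N, ∃ c : K, ∀ w ∈ W₀, ρ n w = c • w) ∧
      iSupIndep (fun i : WtOrbit ρ W₀ => i.1) ∧ (⨆ i : WtOrbit ρ W₀, i.1) = ⊤ := by
  classical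
  have hcomm : ∀ i j : ↥N, ρ (i : G) * ρ (j : G) = ρ (j : G) * ρ (i : G) := by
    intro i j
    rw [← map_mul, ← map_mul, hab i i.2 j j.2]
  have hfm : ∀ i : ↥N, ρ (i : G) ^ (Nat.card N) = 1 := by
    intro i
    rw [← map_pow]
    have h1 : (i : ↥N) ^ Nat.card ↥N = 1 := pow_card_eq_one'
    have h2 : (i : G) ^ Nat.card ↥N = 1 := by
      have h3 := congrArg Subtype.val h1
      rw [Subgroup.coe_pow] at h3
      exact h3
    rw [h2, map_one]
  obtain ⟨hind, hsup⟩ := simul_eigen (fun n : ↥N => ρ (n : G)) hcomm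
    (Nat.card N) hcard hfm
  -- a nonzero weight space
  have hex : ∃ χ₀ : ↥N → K, (⨅ n : ↥N, Module.End.eigenspace (ρ (n : G)) (χ₀ n)) ≠ ⊥ := by
    by_contra hcon
    push_neg at hcon
    have : (⊤ : Submodule K V) = ⊥ := by
      rw [← hsup]
      simp only [hcon, iSup_bot]
    exact top_ne_bot this
  obtain ⟨χ₀, hχ₀⟩ := hex
  set W₀ : Submodule K V := ⨅ n : ↥N, Module.End.eigenspace (ρ (n : G)) (χ₀ n) with hW₀
  refine ⟨W₀, hχ₀, ?_, ?_, ?_⟩
  · intro n hn
    refine ⟨χ₀ ⟨n, hn⟩, fun w hw => ?_⟩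
    exact (h30_mem_wt ρ N χ₀ w).mp hw ⟨n, hn⟩
  · -- independence
    have hmem : ∀ i : WtOrbit ρ W₀, ∃ χ : ↥N → K,
        i.1 = ⨅ n : ↥N, Module.End.eigenspace (ρ (n : G)) (χ n) := by
      rintro ⟨W, g, hg⟩
      refine ⟨h30conj N g χ₀, ?_⟩
      show W = _
      rw [hg, hW₀, h30_map_eq]
    choose φ hφ using hmem
    have hφinj : Function.Injective φ := by
      intro i j hij
      apply Subtype.ext
      rw [hφ i, hφ j, hij]
    have h1 := hind.comp hφinj
    have h2 : (fun i : WtOrbit ρ W₀ => i.1) =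
        (fun χ : ↥N → K => ⨅ n : ↥N, Module.End.eigenspace (ρ (n : G)) (χ n)) ∘ φ := by
      funext i
      exact hφ i
    rw [h2]
    exact h1
  · -- the sum is invariant and nonzero
    set U : Submodule K V := ⨆ i : WtOrbit ρ W₀, i.1 with hU
    have hinv : ∀ g, ∀ w ∈ U, ρ g w ∈ U := by
      intro g w hw
      have h1 : U.map (ρ g) ≤ U := by
        rw [hU, Submodule.map_iSup]
        apply iSup_le
        intro i
        exact le_iSup (fun i : WtOrbit ρ W₀ => i.1) (g • i)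
      exact h1 ⟨w, hw, rfl⟩
    rcases hirr U hinv with hb | ht
    · exfalso
      apply hχ₀
      have : W₀ ≤ U := le_iSup (fun i : WtOrbit ρ W₀ => i.1) (WtOrbit.base ρ W₀)
      rw [hb] at this
      exact le_bot_iff.mp this
    · exact ht

end RT

end Cfsg.Agent.Helper30.FX
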