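import Mathlib

set_option autoImplicit false

/-! G24 server (helper92, S1679), piece (ABS): the diagonal argument. Generic group theory, Mathlib only. -/

namespace Cfsg.Agent.Helper30.G24

/-- A surjective hom from a finite group of at most `N` elements onto a group of exactly `N > 0` elements is
bijective. -/
theorem h30_bij_of_surj {T H : Type*} [Group T] [Group H] [Finite T] (N : ℕ) (hN : 0 < N)
    (hT : Nat.card T ≤ N) (hH : Nat.card H = N) (φ : T →* H) (hφ : Function.Surjective φ) :
    Function.Bijective φ := by
  haveI : Finite H := Finite.of_surjective φ hφ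
  have h1 : Nat.card H ≤ Nat.card T := Nat.card_le_card_of_surjective φ hφ
  have h2 : Nat.card T = Nat.card H := le_antisymm (hT.trans hH.ge) h1
  exact (Nat.bijective_iff_surjective_and_card φ).mpr ⟨hφ, h2⟩

/-- The first projection of the diagonal closure is the closure of the first components. -/
theorem h30_map_fst {P G : Type*} [Group P] [Group G] (x : ℕ → P) (y : ℕ → G) (S : Set ℕ) :
    (Subgroup.closure ((fun g => ((x g, y g) : P × G)) '' S)).map (MonoidHom.fst P G) =
      Subgroup.closure (x '' S) := by
  rw [MonoidHom.map_closure, Set.image_image]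
  rfl

/-- The second projection of the diagonal closure is the closure of the second components. -/
theorem h30_map_snd {P G : Type*} [Group P] [Group G] (x : ℕ → P) (y : ℕ → G) (S : Set ℕ) :
    (Subgroup.closure ((fun g => ((x g, y g) : P × G)) '' S)).map (MonoidHom.snd P G) =
      Subgroup.closure (y '' S) := by
  rw [MonoidHom.map_closure, Set.image_image]
  rfl

/-- A subgroup `T` with `T.map f = K`, `|T| ≤ N`, `|K| = N > 0` is isomorphic to `K`. -/
theorem h30_equiv_of_map {Q K' : Type*} [Group Q] [Group K'] (N : ℕ) (hN : 0 < N) (T : Subgroup Q)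
    [Finite T] (hT : Nat.card T ≤ N) (f : Q →* K') (K : Subgroup K') (hmap : T.map f = K)
    (hK : Nat.card K = N) : Nonempty (T ≃* K) := by
  subst hmap
  have hsurj : Function.Surjective (f.subgroupMap T) := f.subgroupMap_surjective T
  have hbij := h30_bij_of_surj N hN hT hK (f.subgroupMap T) hsurj
  exact ⟨MulEquiv.ofBijective (f.subgroupMap T) hbij⟩

/-- (ABS) the diagonal argument. -/
theorem iso_of_diagonal {P G : Type*} [Group P] [Group G] (N : ℕ) (hN : 0 < N) (x : ℕ → P) (y : ℕ → G) (m : ℕ)
    (hfin : Finite ↥(Subgroup.closure ((fun g => ((x g, y g) : P × G)) '' {g | g < m})))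
    (hbound : Nat.card ↥(Subgroup.closure ((fun g => ((x g, y g) : P × G)) '' {g | g < m})) ≤ N)
    (hH : Nat.card ↥(Subgroup.closure (x '' {g | g < m})) = N)
    (hS : Nat.card ↥(Subgroup.closure (y '' {g | g < m})) = N) :
    Nonempty (↥(Subgroup.closure (x '' {g | g < m})) ≃* ↥(Subgroup.closure (y '' {g | g < m}))) := by
  haveI := hfin
  obtain ⟨e1⟩ := h30_equiv_of_map N hN _ hbound (MonoidHom.fst P G) _ (h30_map_fst x y {g | g < m}) hH
  obtain ⟨e2⟩ := h30_equiv_of_map N hN _ hbound (MonoidHom.snd P G) _ (h30_map_snd x y {g | g < m}) hS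
  exact ⟨e1.symm.trans e2⟩

end Cfsg.Agent.Helper30.G24
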