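import Mathlib

/-!
# G2 server (helper31, S3795), piece (ORB) `g2_orb` (helper30): Burnside counting
-/

set_option autoImplicit false

namespace Cfsg.Agent.Helper30.G2

open MulAction

/-- powers of a multiplicative permutation are multiplicative -/
theorem h30_pow_mul {X : Type*} [Group X] (σ : Equiv.Perm X)
    (hmul : ∀ a b : X, σ (a * b) = σ a * σ b) (n : ℕ) (a b : X) :
    (σ ^ n) (a * b) = (σ ^ n) a * (σ ^ n) b := by
  induction n with
  | zero => simp
  | succ n ih => rw [pow_succ', Equiv.Perm.mul_apply, Equiv.Perm.mul_apply, Equiv.Perm.mul_apply, ih, hmul]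

/-- in a group of odd order, `a = a⁻¹` forces `a = 1` -/
theorem h30_eq_one_of_eq_inv {X : Type*} [Group X] [Finite X] (hodd : Odd (Nat.card X)) (a : X)
    (h : a = a⁻¹) : a = 1 := by
  have h2 : a ^ 2 = 1 := by
    rw [sq]; nth_rewrite 2 [h]; exact mul_inv_cancel a
  have hd2 : orderOf a ∣ 2 := orderOf_dvd_of_pow_eq_one h2
  have hdX : orderOf a ∣ Nat.card X := orderOf_dvd_natCard a
  have hcop : Nat.Coprime 2 (Nat.card X) := Nat.coprime_two_left.mpr hodd
  have h1 : orderOf a ∣ Nat.gcd 2 (Nat.card X) := Nat.dvd_gcd hd2 hdX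
  rw [hcop] at h1
  exact orderOf_eq_one_iff.mp (Nat.dvd_one.mp h1)

/-- `|X| = |Fix t| * |{a | t a = a⁻¹}|` for a multiplicative involutory permutation `t` of an
abelian group of odd order -/
theorem h30_card_split {X : Type*} [Group X] [Finite X] (hcomm : ∀ a b : X, a * b = b * a)
    (hodd : Odd (Nat.card X)) (t : Equiv.Perm X) (htmul : ∀ a b : X, t (a * b) = t a * t b)
    (ht2 : ∀ a : X, t (t a) = a) :
    Nat.card X = Nat.card {a : X // t a = a} * Nat.card {a : X // t a = a⁻¹} := by
  classical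
  have ht1 : t 1 = 1 := by
    have h := htmul 1 1
    rw [mul_one] at h
    exact (mul_eq_left.mp h.symm)
  let φ : X →* X :=
    { toFun := fun a => a * t a
      map_one' := by rw [ht1, mul_one]
      map_mul' := by
        intro a b
        show a * b * t (a * b) = a * t a * (b * t b)
        rw [htmul a b]
        calc a * b * (t a * t b) = a * (b * t a) * t b := by group
          _ = a * (t a * b) * t b := by rw [hcomm b (t a)]
          _ = a * t a * (b * t b) := by group }
  have hφ : ∀ a, φ a = a * t a := fun _ => rfl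
  have htpow : ∀ (n : ℕ) (a : X), t (a ^ n) = (t a) ^ n := by
    intro n a
    induction n with
    | zero => simpa using ht1
    | succ n ih => rw [pow_succ, htmul, ih, pow_succ]
  have hker : Nat.card φ.ker = Nat.card {a : X // t a = a⁻¹} := by
    apply Nat.card_congr
    apply Equiv.subtypeEquivRight
    intro a
    rw [MonoidHom.mem_ker, hφ]
    constructor
    · intro h; exact (eq_inv_of_mul_eq_one_right h)
    · intro h; rw [h]; exact mul_inv_cancel a
  have hrange : Nat.card φ.range = Nat.card {a : X // t a = a} := by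
    apply Nat.card_congr
    apply Equiv.subtypeEquivRight
    intro a
    rw [MonoidHom.mem_range]
    constructor
    · rintro ⟨b, rfl⟩
      rw [hφ, htmul, ht2, hcomm]
    · intro ha
      obtain ⟨k, hk⟩ := hodd
      refine ⟨a ^ (k + 1), ?_⟩
      rw [hφ, htpow, ha, ← pow_add]
      have h1 : a ^ Nat.card X = 1 := pow_card_eq_one'
      have h2 : k + 1 + (k + 1) = Nat.card X + 1 := by omega
      rw [h2, pow_succ, h1, one_mul]
  have h1 := Subgroup.card_mul_index φ.ker
  rw [Subgroup.index_ker, hker, hrange] at h1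
  rw [← h1, mul_comm]


theorem h30_pow_fix {X : Type*} (g : Equiv.Perm X) (n : ℕ) (a : X) (h : g a = a) :
    (g ^ n) a = a := by
  induction n with
  | zero => rfl
  | succ n ih => rw [pow_succ, Equiv.Perm.mul_apply, h, ih]

/-- (ORB) Burnside counting on a finite abelian group of odd order. -/
theorem g2_orb {X : Type*} [Group X] [Finite X] (hcomm : ∀ a b : X, a * b = b * a)
    (hodd : Odd (Nat.card X)) (σ : Equiv.Perm X) (hmul : ∀ a b : X, σ (a * b) = σ a * σ b)
    (c : ℕ) (hc : 1 ≤ c) (hσ : σ ^ 2 ^ c = 1)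
    (hd : Nat.card X ≤
      (2 ^ c - 1) * Nat.card (MulAction.orbitRel.Quotient (Subgroup.zpowers σ) X)) :
    Nat.card {a : X // (σ ^ 2 ^ (c - 1)) a = a⁻¹} ≤ (2 ^ c - 1) ^ 2 ∧
    (Nat.card {a : X // (σ ^ 2 ^ (c - 1)) a = a⁻¹} = (2 ^ c - 1) ^ 2 →
      ∀ a : X, (σ ^ 2 ^ (c - 1)) a = a → σ a = a) := by
  classical
  obtain ⟨c', rfl⟩ : ∃ c', c = c' + 1 := ⟨c - 1, by omega⟩
  simp only [Nat.add_sub_cancel]
  have htt : σ ^ 2 ^ c' * σ ^ 2 ^ c' = 1 := by
    rw [← pow_add, ← two_mul, ← pow_succ']; exact hσ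
  have ht2 : ∀ a, (σ ^ 2 ^ c') ((σ ^ 2 ^ c') a) = a := fun a => by
    rw [← Equiv.Perm.mul_apply, htt]; rfl
  have htmul : ∀ a b, (σ ^ 2 ^ c') (a * b) = (σ ^ 2 ^ c') a * (σ ^ 2 ^ c') b :=
    h30_pow_mul σ hmul _
  have hm2 : 2 ≤ 2 ^ (c' + 1) := by
    calc 2 = 2 ^ 1 := rfl
      _ ≤ 2 ^ (c' + 1) := Nat.pow_le_pow_right (by norm_num) (by omega)
  by_cases ht1 : σ ^ 2 ^ c' = 1
  · -- degenerate case
    have hI : Nat.card {a : X // (σ ^ 2 ^ c') a = a⁻¹} = 1 := by
      have hiff : ∀ a : X, (σ ^ 2 ^ c') a = a⁻¹ ↔ a = 1 := by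
        intro a; rw [ht1]; constructor
        · intro h; exact h30_eq_one_of_eq_inv hodd a h
        · intro h; rw [h]; simp
      rw [Nat.card_congr (Equiv.subtypeEquivRight hiff)]
      simp
    rw [hI]
    constructor
    · have h1 : 1 ≤ 2 ^ (c' + 1) - 1 := by omega
      exact Nat.one_le_pow _ _ h1
    · intro heq a _
      have h1 : 2 ^ (c' + 1) - 1 = 1 := by
        rcases Nat.pow_eq_one.mp heq.symm with h | h
        · exact h
        · exact absurd h (by norm_num)
      have h2 : 2 ^ (c' + 1) = 2 ^ 1 := by omega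
      have h3 : c' + 1 = 1 := Nat.pow_right_injective (le_refl 2) h2
      have h4 : c' = 0 := by omega
      subst h4
      have h5 : σ = 1 := by simpa using ht1
      rw [h5]; rfl
  · -- main case
    have hord : orderOf σ = 2 ^ (c' + 1) := orderOf_eq_prime_pow ht1 hσ
    -- fixed points of nontrivial powers are fixed by `t`
    have hfixsub : ∀ g ∈ Subgroup.zpowers σ, g ≠ 1 → ∀ a : X, g a = a → (σ ^ 2 ^ c') a = a := by
      intro g hg hg1 a hga
      rw [← mem_powers_iff_mem_zpowers, Submonoid.mem_powers_iff] at hg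
      obtain ⟨j, rfl⟩ := hg
      have hj : σ ^ (j % 2 ^ (c' + 1)) = σ ^ j := by rw [← hord]; exact pow_mod_orderOf σ j
      have hj0 : j % 2 ^ (c' + 1) ≠ 0 := by
        intro h0; apply hg1; rw [← hj, h0, pow_zero]
      have hjlt : j % 2 ^ (c' + 1) < 2 ^ (c' + 1) := Nat.mod_lt _ (by positivity)
      obtain ⟨i, d, hdodd, hjd⟩ := Nat.exists_eq_two_pow_mul_odd hj0
      have hi : i < c' + 1 := by
        by_contra hcon
        push_neg at hcon
        have h1 : 2 ^ (c' + 1) ≤ 2 ^ i := Nat.pow_le_pow_right (by norm_num) hcon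
        have h2 : 2 ^ i ≤ 2 ^ i * d := Nat.le_mul_of_pos_right _ hdodd.pos
        omega
      -- `(σ^j)^(2^(c'-i)) = t^d = t`
      have hpow : (σ ^ j) ^ 2 ^ (c' - i) = σ ^ 2 ^ c' := by
        rw [← hj, hjd, ← pow_mul]
        have h1 : 2 ^ i * d * 2 ^ (c' - i) = 2 ^ c' * d := by
          have h2 : 2 ^ i * 2 ^ (c' - i) = 2 ^ c' := by
            rw [← pow_add]; congr 1; omega
          calc 2 ^ i * d * 2 ^ (c' - i) = (2 ^ i * 2 ^ (c' - i)) * d := by ring
            _ = 2 ^ c' * d := by rw [h2]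
        rw [h1, pow_mul]
        obtain ⟨e, he⟩ := hdodd
        rw [he, pow_succ, pow_mul, sq, htt, one_pow, one_mul]
      rw [← hpow]
      exact h30_pow_fix _ _ a hga
    -- cardinalities
    have hZcard : Nat.card (Subgroup.zpowers σ) = 2 ^ (c' + 1) := by
      rw [Nat.card_zpowers, hord]
    haveI : Fintype (Subgroup.zpowers σ) := Fintype.ofFinite _
    haveI : ∀ g : Subgroup.zpowers σ, Fintype (fixedBy X g) := fun g => Fintype.ofFinite _
    haveI : Fintype (Quotient (orbitRel (Subgroup.zpowers σ) X)) := Fintype.ofFinite _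
    have hB := MulAction.sum_card_fixedBy_eq_card_orbits_mul_card_group (Subgroup.zpowers σ) X
    simp only [← Nat.card_eq_fintype_card] at hB
    rw [hZcard] at hB
    -- split off the identity
    have hsplit := Finset.add_sum_erase (Finset.univ : Finset (Subgroup.zpowers σ))
      (fun g => Nat.card (fixedBy X g)) (Finset.mem_univ 1)
    have hfix1 : Nat.card (fixedBy X (1 : Subgroup.zpowers σ)) = Nat.card X :=
      Nat.card_congr (Equiv.subtypeUnivEquiv (fun x => one_smul (Subgroup.zpowers σ) x))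
    have hC : ∀ g ∈ (Finset.univ : Finset (Subgroup.zpowers σ)).erase 1,
        Nat.card (fixedBy X g) ≤ Nat.card {a : X // (σ ^ 2 ^ c') a = a} := by
      intro g hg
      have hg1 : g ≠ 1 := (Finset.mem_erase.mp hg).1
      have hg1' : (g : Equiv.Perm X) ≠ 1 := fun h => hg1 (Subtype.ext h)
      rw [Nat.card_coe_set_eq]
      have : Nat.card {a : X // (σ ^ 2 ^ c') a = a} = ({a : X | (σ ^ 2 ^ c') a = a} : Set X).ncard :=
        Nat.card_coe_set_eq _
      rw [this]
      apply Set.ncard_le_ncard _ (Set.toFinite _)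
      intro a ha
      exact hfixsub g g.2 hg1' a ha
    have hcardE : ((Finset.univ : Finset (Subgroup.zpowers σ)).erase 1).card = 2 ^ (c' + 1) - 1 := by
      rw [Finset.card_erase_of_mem (Finset.mem_univ _), Finset.card_univ, ← Nat.card_eq_fintype_card,
        hZcard]
    have hS : ∑ g ∈ (Finset.univ : Finset (Subgroup.zpowers σ)).erase 1, Nat.card (fixedBy X g) ≤
        (2 ^ (c' + 1) - 1) * Nat.card {a : X // (σ ^ 2 ^ c') a = a} := by
      have h := Finset.sum_le_card_nsmul _ _ _ hC
      rw [hcardE, smul_eq_mul] at h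
      exact h
    have hsplitX := h30_card_split hcomm hodd (σ ^ 2 ^ c') htmul ht2
    have hCpos : 0 < Nat.card {a : X // (σ ^ 2 ^ c') a = a} := by
      haveI : Nonempty {a : X // (σ ^ 2 ^ c') a = a} := ⟨⟨1, by
        have h := htmul 1 1
        rw [mul_one] at h
        exact (mul_eq_left.mp h.symm)⟩⟩
      exact Nat.card_pos
    -- arithmetic
    generalize hk : 2 ^ (c' + 1) - 1 = k at *
    have hm : 2 ^ (c' + 1) = k + 1 := by omega
    have hk1 : 1 ≤ k := by omega
    generalize hx : Nat.card X = x at *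
    generalize hN : Nat.card (orbitRel.Quotient (Subgroup.zpowers σ) X) = N at *
    generalize hCC : Nat.card {a : X // (σ ^ 2 ^ c') a = a} = C at *
    generalize hII : Nat.card {a : X // (σ ^ 2 ^ c') a = a⁻¹} = I at *
    generalize hSS : ∑ g ∈ (Finset.univ : Finset (Subgroup.zpowers σ)).erase 1,
      Nat.card (fixedBy X g) = S at *
    have hBS : x + S = N * (k + 1) := by rw [← hfix1, hsplit, hB, hm]
    have hmain : x * (k + 1) ≤ k * (x + S) := by
      calc x * (k + 1) ≤ (k * N) * (k + 1) := Nat.mul_le_mul_right _ hd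
        _ = k * (N * (k + 1)) := by ring
        _ = k * (x + S) := by rw [hBS]
    have hxle : x ≤ k * k * C := by
      have h1 : k * (x + S) ≤ k * (x + k * C) := Nat.mul_le_mul_left _ (by omega)
      have h2 : x * (k + 1) = k * x + x := by ring
      have h3 : k * (x + k * C) = k * x + k * k * C := by ring
      omega
    have hIle : I ≤ k ^ 2 := by
      rw [hsplitX] at hxle
      have h1 : C * I ≤ C * (k * k) := by
        calc C * I ≤ k * k * C := hxle
          _ = C * (k * k) := by ring
      rw [sq]; exact Nat.le_of_mul_le_mul_left h1 hCpos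
    refine ⟨hIle, ?_⟩
    intro hIeq a ha
    have hSeq : S = k * C := by
      apply le_antisymm hS
      have hxeq : x = C * (k * k) := by rw [hsplitX, hIeq, sq]
      rw [hxeq] at hmain
      have h2 : C * (k * k) * (k + 1) = k * (C * (k * k)) + k * (k * C) := by ring
      have h3 : k * (C * (k * k) + S) = k * (C * (k * k)) + k * S := by ring
      have h4 : k * (k * C) ≤ k * S := by omega
      exact Nat.le_of_mul_le_mul_left h4 (by omega)
    have hall : ∀ g ∈ (Finset.univ : Finset (Subgroup.zpowers σ)).erase 1,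
        Nat.card (fixedBy X g) = C := by
      have hsum : ∑ g ∈ (Finset.univ : Finset (Subgroup.zpowers σ)).erase 1, Nat.card (fixedBy X g)
          = ∑ _g ∈ (Finset.univ : Finset (Subgroup.zpowers σ)).erase 1, C := by
        rw [hSS, Finset.sum_const, hcardE, smul_eq_mul, hSeq]
      exact (Finset.sum_eq_sum_iff_of_le hC).mp hsum
    have hσ1 : σ ≠ 1 := by
      intro h; apply ht1; rw [h, one_pow]
    have hg0 : (⟨σ, Subgroup.mem_zpowers σ⟩ : Subgroup.zpowers σ) ∈
        (Finset.univ : Finset (Subgroup.zpowers σ)).erase 1 := by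
      rw [Finset.mem_erase]
      exact ⟨fun h => hσ1 (congrArg Subtype.val h), Finset.mem_univ _⟩
    have hcard0 := hall _ hg0
    have hsub : (fixedBy X (⟨σ, Subgroup.mem_zpowers σ⟩ : Subgroup.zpowers σ) : Set X) ⊆
        {a : X | (σ ^ 2 ^ c') a = a} := by
      intro b hb
      exact hfixsub σ (Subgroup.mem_zpowers σ) hσ1 b hb
    have heqset := Set.eq_of_subset_of_ncard_le hsub (by
      rw [← Nat.card_coe_set_eq, ← Nat.card_coe_set_eq, hcard0]; exact hCC.le) (Set.toFinite _)
    have hmem : a ∈ (fixedBy X (⟨σ, Subgroup.mem_zpowers σ⟩ : Subgroup.zpowers σ) : Set X) := by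
      rw [heqset]; exact ha
    exact hmem

end Cfsg.Agent.Helper30.G2
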