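import Mathlib
import Cfsg.Agent.Lib.Helper14.GLIDefs

/-!
# GLI (helper14 server, S5958): piece (CYCB) exists_cyclic_basis (helper30)
V is a module over AdjoinRoot (X ^ r - C z) (through Module.AEval' and IsTorsionBySet.module);
a basis over that field times the power basis gives the basis x ^ j (e k).
-/

set_option autoImplicit false
set_option linter.style.haveILetI false

namespace Cfsg.Agent.Helper30.GLI

open Module Polynomial Cfsg.Agent.Helper14.GLI

/-- (CYCB) if `x ^ r = z` with `z` not an `r`-th power, `X ^ r - C z` is irreducible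
(`X_pow_sub_C_irreducible_of_prime`), `V` is a vector space over `AdjoinRoot (X ^ r - C z)` and has a
basis `x ^ j (e k)`. -/
theorem exists_cyclic_basis {F V : Type*} [Field F] [AddCommGroup V] [Module F V]
    [FiniteDimensional F V] (x : V →ₗ[F] V) (r : ℕ) [Fact r.Prime] (z : F)
    (hz : ∀ w : F, w ^ r ≠ z) (hxr : x ^ r = z • 1) :
    ∃ (n₁ : ℕ) (e : Fin n₁ → V) (b : Basis (Fin n₁ × Fin r) F V),
      ∀ (k : Fin n₁) (j : Fin r), b (k, j) = (x ^ (j : ℕ)) (e k) := by
  classical
  have hr : r.Prime := Fact.out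
  have hirr : Irreducible (X ^ r - C z : F[X]) := X_pow_sub_C_irreducible_of_prime hr hz
  haveI : Fact (Irreducible (X ^ r - C z : F[X])) := ⟨hirr⟩
  have hf0 : (X ^ r - C z : F[X]) ≠ 0 := hirr.ne_zero
  have hdeg : (X ^ r - C z : F[X]).natDegree = r := natDegree_X_pow_sub_C
  have haev : aeval x (X ^ r - C z : F[X]) = 0 := by
    rw [map_sub, map_pow, aeval_X, aeval_C, hxr, Algebra.algebraMap_eq_smul_one, sub_self]
  have hfm : ∀ m : Module.AEval' x, (X ^ r - C z : F[X]) • m = 0 := by
    intro m
    apply (Module.AEval'.of x).symm.injective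
    rw [Module.AEval.of_symm_smul, haev, map_zero]
    rfl
  have htors : Module.IsTorsionBySet F[X] (Module.AEval' x)
      (Ideal.span {(X ^ r - C z : F[X])} : Set F[X]) := by
    intro m a
    obtain ⟨g, hg⟩ := Ideal.mem_span_singleton.mp a.2
    rw [hg, mul_comm, mul_smul, hfm, smul_zero]
  letI modK : Module (AdjoinRoot (X ^ r - C z : F[X])) (Module.AEval' x) := htors.module
  have hmk : ∀ (p : F[X]) (m : Module.AEval' x),
      (AdjoinRoot.mk (X ^ r - C z : F[X]) p) • m = p • m := fun p m => rfl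
  haveI : IsScalarTower F (AdjoinRoot (X ^ r - C z : F[X])) (Module.AEval' x) := by
    refine ⟨fun a k m => ?_⟩
    obtain ⟨p, rfl⟩ := AdjoinRoot.mk_surjective k
    rw [AdjoinRoot.smul_mk, hmk, hmk, smul_assoc]
  haveI : Module.Finite (AdjoinRoot (X ^ r - C z : F[X])) (Module.AEval' x) :=
    Module.Finite.of_restrictScalars_finite F _ _
  let e := Module.finBasis (AdjoinRoot (X ^ r - C z : F[X])) (Module.AEval' x)
  let pb := AdjoinRoot.powerBasis hf0
  have hpbdim : pb.dim = r := hdeg
  let bK : Basis (Fin r) F (AdjoinRoot (X ^ r - C z : F[X])) :=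
    pb.basis.reindex (finCongr hpbdim)
  have hbK : ∀ j : Fin r, bK j = AdjoinRoot.mk (X ^ r - C z : F[X]) (X ^ (j : ℕ)) := by
    intro j
    show (pb.basis.reindex (finCongr hpbdim)) j = _
    rw [Basis.reindex_apply, PowerBasis.basis_eq_pow, map_pow]
    rfl
  let B : Basis (Fin r × Fin (finrank (AdjoinRoot (X ^ r - C z : F[X])) (Module.AEval' x))) F
      (Module.AEval' x) := bK.smulTower e
  refine ⟨finrank (AdjoinRoot (X ^ r - C z : F[X])) (Module.AEval' x),
    fun k => (Module.AEval'.of x).symm (e k),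
    (B.reindex (Equiv.prodComm _ _)).map (Module.AEval'.of x).symm, ?_⟩
  intro k j
  rw [Basis.map_apply, Basis.reindex_apply]
  show (Module.AEval'.of x).symm (B (j, k)) = _
  rw [Basis.smulTower_apply, hbK, hmk, Module.AEval.of_symm_smul, map_pow, aeval_X]
  rfl

end Cfsg.Agent.Helper30.GLI
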