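import Mathlib
import Cfsg.Agent.Lib.Helper14.GLIDefs

/-!
# GLI (helper14 server, S5958): piece (POW) `rth_roots` (helper30)
-/

set_option autoImplicit false

namespace Cfsg.Agent.Helper30.GLI

open Module Polynomial Cfsg.Agent.Helper14.GLI

/-- (POW) if `r ∤ q - 1` (i.e. `1 < c`) the `r`-th power map of `F` is bijective. -/
theorem rth_roots {F : Type*} [Field F] [Fintype F] (r : ℕ) [Fact r.Prime]
    (hrq : ¬ r ∣ Fintype.card F)
    (hc1 : 1 < orderOf ((Fintype.card F : ℕ) : ZMod r)) :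
    (∀ z : F, ∃ w : F, w ^ r = z) ∧ (∀ μ : F, μ ^ r = 1 → μ = 1) := by
  have hr : r.Prime := Fact.out
  have hq1 : ((Fintype.card F : ℕ) : ZMod r) ≠ 1 := by
    intro h
    rw [h, orderOf_one] at hc1
    exact lt_irrefl _ hc1
  have hnd : ¬ r ∣ Fintype.card F - 1 := by
    intro hd
    apply hq1
    have hpos : 1 ≤ Fintype.card F := Fintype.card_pos
    have h0 : ((Fintype.card F - 1 : ℕ) : ZMod r) = 0 := (ZMod.natCast_eq_zero_iff _ _).mpr hd
    rw [Nat.cast_sub hpos, Nat.cast_one, sub_eq_zero] at h0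
    exact h0
  have hcop : Nat.Coprime r (Fintype.card F - 1) := (Nat.Prime.coprime_iff_not_dvd hr).mpr hnd
  have h2 : ∀ μ : F, μ ^ r = 1 → μ = 1 := by
    intro μ hμ
    have hμ0 : μ ≠ 0 := by
      rintro rfl
      rw [zero_pow hr.ne_zero] at hμ
      exact zero_ne_one hμ
    have h1 : orderOf μ ∣ r := orderOf_dvd_of_pow_eq_one hμ
    have h3 : orderOf μ ∣ Fintype.card F - 1 :=
      orderOf_dvd_of_pow_eq_one (FiniteField.pow_card_sub_one_eq_one μ hμ0)
    exact orderOf_eq_one_iff.mp (Nat.eq_one_of_dvd_coprimes hcop h1 h3)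
  refine ⟨?_, h2⟩
  have hinj : Function.Injective (fun w : F => w ^ r) := by
    intro w v hwv
    simp only at hwv
    by_cases hv : v = 0
    · subst hv
      rw [zero_pow hr.ne_zero] at hwv
      exact (pow_eq_zero_iff hr.ne_zero).mp hwv
    · have h4 : (w / v) ^ r = 1 := by rw [div_pow, hwv, div_self (pow_ne_zero r hv)]
      have h5 := h2 _ h4
      exact (div_eq_one_iff_eq hv).mp h5
  have hsurj := Finite.injective_iff_surjective.mp hinj
  exact fun z => hsurj z

end Cfsg.Agent.Helper30.GLI
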