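import Mathlib

/-!
# GS4 (helper87 server, S2608): piece (K) `core_facts` (helper30)
-/

set_option autoImplicit false

namespace Cfsg.Agent.Helper30.GS4

/-- the core of a non-normal-looking subgroup of index 3 has index 6 -/
theorem h30_core_index {G : Type*} [Group G] [Finite G] (H : Subgroup G) (hHidx : H.index = 3)
    (r : G) (hrH : r ∈ H) (hrK : r ∉ H.normalCore) : H.normalCore.index = 6 := by
  classical
  have hKH : H.normalCore ≤ H := Subgroup.normalCore_le H
  have h3 : 3 ∣ H.normalCore.index := by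
    have := Subgroup.index_dvd_of_le hKH
    rwa [hHidx] at this
  have h6 : H.normalCore.index ∣ 6 := by
    rw [Subgroup.normalCore_eq_ker, Subgroup.index_ker]
    haveI : Fintype (G ⧸ H) := Fintype.ofFinite _
    have h1 : Nat.card (MulAction.toPermHom G (G ⧸ H)).range ∣ Nat.card (Equiv.Perm (G ⧸ H)) :=
      Subgroup.card_subgroup_dvd_card _
    have h2 : Nat.card (Equiv.Perm (G ⧸ H)) = 6 := by
      rw [Nat.card_eq_fintype_card, Fintype.card_perm, ← Nat.card_eq_fintype_card]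
      have : Nat.card (G ⧸ H) = 3 := hHidx
      rw [this]; rfl
    rwa [h2] at h1
  have hne3 : H.normalCore.index ≠ 3 := by
    intro h
    have := Subgroup.relIndex_mul_index hKH
    rw [hHidx, h] at this
    have h1 : H.normalCore.relIndex H = 1 := by omega
    exact hrK (Subgroup.relIndex_eq_one.mp h1 hrH)
  have hle : H.normalCore.index ≤ 6 := Nat.le_of_dvd (by norm_num) h6
  interval_cases h : H.normalCore.index <;> omega

/-- (K) the core of `H`. -/
theorem core_facts {G : Type*} [Group G] [Finite G] (f : ℕ) (hf : 1 ≤ f)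
    (hG : Nat.card G = 24 * f) (H N : Subgroup G) (hHidx : H.index = 3) (hNH : N ≤ H)
    (hN8 : Nat.card N = 8) (c : G) (hcz : ∀ g : G, c * g = g * c) (hcH : c ∈ H)
    (hcf : c ^ f = 1) (hHgen : ∀ h ∈ H, ∃ i : ℕ, h * c ^ i ∈ N)
    (r : G) (hr : r ∈ N) (hrK : ∃ g : G, g * r * g⁻¹ ∉ H) :
    ∃ K : Subgroup G, K.Normal ∧ K ≤ H ∧ K.index = 6 ∧ Nat.card K = 4 * f ∧ c ∈ K ∧ r ∉ K ∧
      (∀ a ∈ K, ∀ b ∈ K, a * b = b * a) ∧
      (∀ a ∈ N, ∀ b ∈ N, a * b * a⁻¹ * b⁻¹ ∈ K) ∧
      (∀ k ∈ K, ∃ v ∈ K, ∃ i : ℕ, k = v * c ^ i ∧ v ^ 4 = 1) := by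
  classical
  have hKn : (H.normalCore).Normal := Subgroup.normalCore_normal H
  have hKH : H.normalCore ≤ H := Subgroup.normalCore_le H
  have hrnK : r ∉ H.normalCore := by
    intro h
    obtain ⟨g, hg⟩ := hrK
    exact hg (hKH (hKn.conj_mem r h g))
  have hidx : H.normalCore.index = 6 := h30_core_index H hHidx r (hNH hr) hrnK
  have hcard : Nat.card H.normalCore = 4 * f := by
    have := Subgroup.card_mul_index H.normalCore
    rw [hidx, hG] at this
    omega
  have hcK : c ∈ H.normalCore := by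
    intro b
    have : b * c * b⁻¹ = c := by rw [← hcz b]; group
    rw [this]; exact hcH
  have hci : ∀ (i : ℕ) (g : G), c ^ i * g = g * c ^ i := fun i g =>
    (Commute.pow_left (show Commute c g from hcz g) i).eq
  -- `K` has index 2 in `H`
  have hrel : (H.normalCore.subgroupOf H).index = 2 := by
    have := Subgroup.relIndex_mul_index hKH
    rw [hHidx, hidx] at this
    have h2 : H.normalCore.relIndex H = 2 := by omega
    exact h2
  have hmul : ∀ a ∈ H, ∀ b ∈ H,
      (a * b ∈ H.normalCore ↔ (a ∈ H.normalCore ↔ b ∈ H.normalCore)) := by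
    intro a ha b hb
    have := Subgroup.mul_mem_iff_of_index_two hrel (a := ⟨a, ha⟩) (b := ⟨b, hb⟩)
    simpa [Subgroup.mem_subgroupOf] using this
  -- commutators of `H` lie in `K`
  have hcomm : ∀ a ∈ H, ∀ b ∈ H, a * b * a⁻¹ * b⁻¹ ∈ H.normalCore := by
    intro a ha b hb
    have e : a * b * a⁻¹ * b⁻¹ = (a * b) * (a⁻¹ * b⁻¹) := by group
    rw [e, hmul (a * b) (H.mul_mem ha hb) (a⁻¹ * b⁻¹) (H.mul_mem (H.inv_mem ha) (H.inv_mem hb)),
      hmul a ha b hb, hmul a⁻¹ (H.inv_mem ha) b⁻¹ (H.inv_mem hb), inv_mem_iff, inv_mem_iff]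
  -- `V₀ = K ∩ N` has index 2 in `N`
  have hV2 : (H.normalCore.subgroupOf N).index = 2 := by
    rw [Subgroup.index_eq_two_iff]
    refine ⟨⟨r, hr⟩, ?_⟩
    intro b
    simp only [Subgroup.mem_subgroupOf, Subgroup.coe_mul]
    by_cases hb : (b : G) ∈ H.normalCore
    · refine Or.inr ⟨hb, ?_⟩
      intro h
      exact hrnK ((Subgroup.mul_mem_cancel_left _ hb).mp h)
    · refine Or.inl ⟨?_, hb⟩
      rw [hmul (b : G) (hNH b.2) r (hNH hr)]
      exact ⟨fun h => absurd h hb, fun h => absurd h hrnK⟩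
  have hV4 : Nat.card (H.normalCore.subgroupOf N) = 4 := by
    have := Subgroup.card_mul_index (H.normalCore.subgroupOf N)
    rw [hV2, hN8] at this
    omega
  haveI : Fact (Nat.Prime 2) := ⟨Nat.prime_two⟩
  have hVab : ∀ a b : H.normalCore.subgroupOf N, a * b = b * a :=
    IsPGroup.commutative_of_card_eq_prime_sq (p := 2) (by rw [hV4]; norm_num)
  -- decomposition
  have hdec : ∀ k ∈ H.normalCore, ∃ v ∈ H.normalCore, ∃ hvN : v ∈ N, ∃ i : ℕ,
      k = v * c ^ i ∧ v ^ 4 = 1 := by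
    intro k hk
    obtain ⟨i, hi⟩ := hHgen k (hKH hk)
    have hvK : k * c ^ i ∈ H.normalCore := Subgroup.mul_mem _ hk (Subgroup.pow_mem _ hcK i)
    refine ⟨k * c ^ i, hvK, hi, i * (f - 1), ?_, ?_⟩
    · have h1 : i + i * (f - 1) = f * i := by
        obtain ⟨f', rfl⟩ : ∃ f', f = f' + 1 := ⟨f - 1, by omega⟩
        simp only [Nat.add_sub_cancel]
        ring
      rw [mul_assoc, ← pow_add, h1, pow_mul, hcf, one_pow, mul_one]
    · have h1 : (⟨⟨k * c ^ i, hi⟩, hvK⟩ : H.normalCore.subgroupOf N) ^ 4 = 1 := by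
        rw [← hV4]; exact pow_card_eq_one'
      have h2 := congrArg (fun x : H.normalCore.subgroupOf N => ((x : N) : G)) h1
      simpa using h2
  refine ⟨H.normalCore, hKn, hKH, hidx, hcard, hcK, hrnK, ?_, ?_, ?_⟩
  · intro a ha b hb
    obtain ⟨v, hvK, hvN, i, rfl, -⟩ := hdec a ha
    obtain ⟨w, hwK, hwN, j, rfl, -⟩ := hdec b hb
    have hvw : v * w = w * v := by
      have := hVab ⟨⟨v, hvN⟩, hvK⟩ ⟨⟨w, hwN⟩, hwK⟩
      have h2 := congrArg (fun x : H.normalCore.subgroupOf N => ((x : N) : G)) this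
      simpa using h2
    have e1 : v * c ^ i * (w * c ^ j) = v * w * (c ^ i * c ^ j) := by
      calc v * c ^ i * (w * c ^ j) = v * (c ^ i * w) * c ^ j := by group
        _ = v * (w * c ^ i) * c ^ j := by rw [hci i w]
        _ = v * w * (c ^ i * c ^ j) := by group
    have e2 : w * c ^ j * (v * c ^ i) = w * v * (c ^ j * c ^ i) := by
      calc w * c ^ j * (v * c ^ i) = w * (c ^ j * v) * c ^ i := by group
        _ = w * (v * c ^ j) * c ^ i := by rw [hci j v]
        _ = w * v * (c ^ j * c ^ i) := by group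
    rw [e1, e2, hvw, ← pow_add, ← pow_add, add_comm]
  · intro a ha b hb
    exact hcomm a (hNH ha) b (hNH hb)
  · intro k hk
    obtain ⟨v, hvK, _, i, h1, h2⟩ := hdec k hk
    exact ⟨v, hvK, i, h1, h2⟩

end Cfsg.Agent.Helper30.GS4
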