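import Mathlib

/-!
# GS4 (helper87 server, S2608): piece (S3) `s3_sub` (helper30)
-/

set_option autoImplicit false

namespace Cfsg.Agent.Helper30.GS4

section aux
variable {G : Type*} [Group G]

theorem h30_inv_eq_sq {t : G} (ht3 : t ^ 3 = 1) : t⁻¹ = t ^ 2 := by
  have : t * t ^ 2 = 1 := by rw [← pow_succ', ht3]
  exact inv_eq_of_mul_eq_one_right this

theorem h30_rt {r t : G} (hrr : r * r = 1) (ht3 : t ^ 3 = 1) (hrt : r * t * r = t⁻¹) :
    r * t = t ^ 2 * r := by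
  calc r * t = r * t * (r * r) := by rw [hrr, mul_one]
    _ = (r * t * r) * r := by group
    _ = t ^ 2 * r := by rw [hrt, h30_inv_eq_sq ht3]

theorem h30_rtj {r t : G} (hrr : r * r = 1) (ht3 : t ^ 3 = 1) (hrt : r * t * r = t⁻¹) (j : ℕ) :
    r * t ^ j = t ^ (2 * j) * r := by
  induction j with
  | zero => simp
  | succ j ih =>
    calc r * t ^ (j + 1) = (r * t ^ j) * t := by rw [pow_succ, mul_assoc]
      _ = t ^ (2 * j) * (r * t) := by rw [ih, mul_assoc]
      _ = t ^ (2 * j) * (t ^ 2 * r) := by rw [h30_rt hrr ht3 hrt]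
      _ = t ^ (2 * (j + 1)) * r := by
        rw [← mul_assoc, ← pow_add, show 2 * j + 2 = 2 * (j + 1) by ring]

theorem h30_pow_three_mul {t : G} (ht3 : t ^ 3 = 1) (i : ℕ) : t ^ (3 * i) = 1 := by
  rw [pow_mul, ht3, one_pow]

/-- the subgroup `{t^i, t^i r}` -/
def h30_U (r t : G) (hrr : r * r = 1) (ht3 : t ^ 3 = 1) (hrt : r * t * r = t⁻¹) : Subgroup G where
  carrier := {u | ∃ i : ℕ, u = t ^ i ∨ u = t ^ i * r}
  one_mem' := ⟨0, Or.inl (pow_zero t).symm⟩
  mul_mem' := by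
    rintro a b ⟨i, rfl | rfl⟩ ⟨j, rfl | rfl⟩
    · exact ⟨i + j, Or.inl (pow_add t i j).symm⟩
    · refine ⟨i + j, Or.inr ?_⟩
      rw [← mul_assoc, ← pow_add]
    · refine ⟨i + 2 * j, Or.inr ?_⟩
      rw [mul_assoc, h30_rtj hrr ht3 hrt j, ← mul_assoc, ← pow_add]
    · refine ⟨i + 2 * j, Or.inl ?_⟩
      calc t ^ i * r * (t ^ j * r) = t ^ i * (r * t ^ j) * r := by group
        _ = t ^ i * (t ^ (2 * j) * r) * r := by rw [h30_rtj hrr ht3 hrt j]
        _ = t ^ i * t ^ (2 * j) * (r * r) := by group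
        _ = t ^ (i + 2 * j) := by rw [hrr, mul_one, ← pow_add]
  inv_mem' := by
    rintro a ⟨i, rfl | rfl⟩
    · refine ⟨2 * i, Or.inl ?_⟩
      apply inv_eq_of_mul_eq_one_right
      rw [← pow_add, show i + 2 * i = 3 * i by ring, h30_pow_three_mul ht3]
    · refine ⟨4 * i, Or.inr ?_⟩
      apply inv_eq_of_mul_eq_one_right
      calc t ^ i * r * (t ^ (4 * i) * r) = t ^ i * (r * t ^ (4 * i)) * r := by group
        _ = t ^ i * (t ^ (2 * (4 * i)) * r) * r := by rw [h30_rtj hrr ht3 hrt]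
        _ = t ^ i * t ^ (2 * (4 * i)) * (r * r) := by group
        _ = 1 := by
          rw [hrr, mul_one, ← pow_add, show i + 2 * (4 * i) = 3 * (3 * i) by ring,
            h30_pow_three_mul ht3]

theorem h30_mem_U {r t : G} (hrr : r * r = 1) (ht3 : t ^ 3 = 1) (hrt : r * t * r = t⁻¹) (u : G) :
    u ∈ h30_U r t hrr ht3 hrt ↔ ∃ i : ℕ, u = t ^ i ∨ u = t ^ i * r := Iff.rfl

/-- members of `zpowers a` when `a ^ 3 = 1` -/
theorem h30_zpowers_three (a : G) (h3 : a ^ 3 = 1) (y : G) (hy : y ∈ Subgroup.zpowers a) :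
    y = 1 ∨ y = a ∨ y = a⁻¹ := by
  obtain ⟨k, rfl⟩ := Subgroup.mem_zpowers_iff.mp hy
  have h0 := Int.emod_nonneg k (by norm_num : (3 : ℤ) ≠ 0)
  have h1 := Int.emod_lt_of_pos k (by norm_num : (0 : ℤ) < 3)
  have hk : k % 3 + 3 * (k / 3) = k := Int.emod_add_mul_ediv k 3
  have h3' : a ^ (3 : ℤ) = 1 := by
    have : a ^ ((3 : ℕ) : ℤ) = a ^ 3 := zpow_natCast a 3
    rw [← h3, ← this]; rfl
  have e : a ^ k = a ^ (k % 3) := by
    conv_lhs => rw [← hk]
    rw [zpow_add, zpow_mul, h3', one_zpow, mul_one]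
  rw [e]
  generalize k % 3 = m at h0 h1
  interval_cases m
  · left; simp
  · right; left; simp
  · right; right
    have : a ^ (2 : ℤ) = a ^ 2 := by
      have : a ^ ((2 : ℕ) : ℤ) = a ^ 2 := zpow_natCast a 2
      rw [← this]; rfl
    rw [this, h30_inv_eq_sq h3]

end aux

/-- (S3) the complement `U = ⟨t, r⟩ ≅ S₃` of `K`. -/
theorem s3_sub {G : Type*} [Group G] [Finite G] (K : Subgroup G) [K.Normal] (hKidx : K.index = 6)
    (r t : G) (hrr : r * r = 1) (ht3 : t ^ 3 = 1) (hrt : r * t * r = t⁻¹) (htK : t ∉ K)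
    (hrK : r ∉ K) :
    (∀ g : G, ∃ k ∈ K, g * t * g⁻¹ = k * t ∨ g * t * g⁻¹ = k * t⁻¹) ∧
    ∃ U : Subgroup G, t ∈ U ∧ r ∈ U ∧ Nat.card U = 6 ∧ (∀ u ∈ U, u ∈ K → u = 1) ∧
      (∀ u ∈ U, ∃ i : ℕ, u = t ^ i ∨ u = t ^ i * r) ∧ (∀ g : G, ∃ u ∈ U, ∃ k ∈ K, g = u * k) := by
  classical
  have hQ : Nat.card (G ⧸ K) = 6 := by rw [← Subgroup.index_eq_card, hKidx]
  have htb1 : (QuotientGroup.mk t : G ⧸ K) ≠ 1 := fun h => htK ((QuotientGroup.eq_one_iff t).mp h)
  have hrb1 : (QuotientGroup.mk r : G ⧸ K) ≠ 1 := fun h => hrK ((QuotientGroup.eq_one_iff r).mp h)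
  have htb3 : (QuotientGroup.mk t : G ⧸ K) ^ 3 = 1 := by
    rw [← QuotientGroup.mk_pow, ht3, QuotientGroup.mk_one]
  have hrb2 : (QuotientGroup.mk r : G ⧸ K) ^ 2 = 1 := by
    rw [← QuotientGroup.mk_pow, pow_two, hrr, QuotientGroup.mk_one]
  haveI : Fact (Nat.Prime 3) := ⟨Nat.prime_three⟩
  haveI : Fact (Nat.Prime 2) := ⟨Nat.prime_two⟩
  have hot : orderOf (QuotientGroup.mk t : G ⧸ K) = 3 := orderOf_eq_prime htb3 htb1
  have ht1 : t ≠ 1 := fun h => htK (h ▸ K.one_mem)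
  have hr1 : r ≠ 1 := fun h => hrK (h ▸ K.one_mem)
  have hot' : orderOf t = 3 := orderOf_eq_prime ht3 ht1
  have hor' : orderOf r = 2 := orderOf_eq_prime (by rw [pow_two, hrr]) hr1
  constructor
  · -- conjugates of `t`
    intro g
    have hS3 : Nat.card (Subgroup.zpowers (QuotientGroup.mk t : G ⧸ K)) = 3 := by
      rw [Nat.card_zpowers, hot]
    have hS2 : (Subgroup.zpowers (QuotientGroup.mk t : G ⧸ K)).index = 2 := by
      have := Subgroup.card_mul_index (Subgroup.zpowers (QuotientGroup.mk t : G ⧸ K))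
      rw [hS3, hQ] at this
      omega
    have hSn : (Subgroup.zpowers (QuotientGroup.mk t : G ⧸ K)).Normal :=
      Subgroup.normal_of_index_eq_two hS2
    have hmem := hSn.conj_mem _ (Subgroup.mem_zpowers (QuotientGroup.mk t : G ⧸ K))
      (QuotientGroup.mk g : G ⧸ K)
    rcases h30_zpowers_three _ htb3 _ hmem with h | h | h
    · exfalso
      apply htb1
      have : (QuotientGroup.mk t : G ⧸ K) =
          (QuotientGroup.mk g : G ⧸ K)⁻¹ * ((QuotientGroup.mk g : G ⧸ K) *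
            (QuotientGroup.mk t : G ⧸ K) * (QuotientGroup.mk g : G ⧸ K)⁻¹) *
            (QuotientGroup.mk g : G ⧸ K) := by group
      rw [this, h]; group
    · refine ⟨g * t * g⁻¹ * t⁻¹, ?_, Or.inl (by group)⟩
      rw [← QuotientGroup.eq_one_iff]
      have : ((g * t * g⁻¹ * t⁻¹ : G) : G ⧸ K) =
          ((QuotientGroup.mk g : G ⧸ K) * (QuotientGroup.mk t : G ⧸ K) *
            (QuotientGroup.mk g : G ⧸ K)⁻¹) * (QuotientGroup.mk t : G ⧸ K)⁻¹ := rfl
      rw [this, h, mul_inv_cancel]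
    · refine ⟨g * t * g⁻¹ * t, ?_, Or.inr (by group)⟩
      rw [← QuotientGroup.eq_one_iff]
      have : ((g * t * g⁻¹ * t : G) : G ⧸ K) =
          ((QuotientGroup.mk g : G ⧸ K) * (QuotientGroup.mk t : G ⧸ K) *
            (QuotientGroup.mk g : G ⧸ K)⁻¹) * (QuotientGroup.mk t : G ⧸ K) := rfl
      rw [this, h, inv_mul_cancel]
  · -- the subgroup `U`
    have htU : t ∈ h30_U r t hrr ht3 hrt := ⟨1, Or.inl (pow_one t).symm⟩
    have hrU : r ∈ h30_U r t hrr ht3 hrt := ⟨0, Or.inr (by simp)⟩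
    have hUK : ∀ u ∈ h30_U r t hrr ht3 hrt, u ∈ K → u = 1 := by
      rintro u ⟨i, rfl | rfl⟩ huK
      · have h1 : (QuotientGroup.mk t : G ⧸ K) ^ i = 1 := by
          rw [← QuotientGroup.mk_pow]; exact (QuotientGroup.eq_one_iff _).mpr huK
        have h2 : 3 ∣ i := by rw [← hot]; exact orderOf_dvd_of_pow_eq_one h1
        obtain ⟨j, rfl⟩ := h2
        exact h30_pow_three_mul ht3 j
      · exfalso
        have h1 : (QuotientGroup.mk t : G ⧸ K) ^ i * (QuotientGroup.mk r : G ⧸ K) = 1 := by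
          rw [← QuotientGroup.mk_pow, ← QuotientGroup.mk_mul]
          exact (QuotientGroup.eq_one_iff _).mpr huK
        have h2 : (QuotientGroup.mk r : G ⧸ K) = ((QuotientGroup.mk t : G ⧸ K) ^ i)⁻¹ :=
          eq_inv_of_mul_eq_one_right h1
        have h3 : (QuotientGroup.mk r : G ⧸ K) ^ 3 = 1 := by
          rw [h2, inv_pow, ← pow_mul, mul_comm, pow_mul, htb3, one_pow, inv_one]
        apply hrb1
        calc (QuotientGroup.mk r : G ⧸ K) = (QuotientGroup.mk r : G ⧸ K) ^ 3 *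
              ((QuotientGroup.mk r : G ⧸ K) ^ 2)⁻¹ := by group
          _ = 1 := by rw [h3, hrb2]; simp
    -- injectivity of `U → G ⧸ K`
    let φ : (h30_U r t hrr ht3 hrt) →* G ⧸ K :=
      (QuotientGroup.mk' K).comp (h30_U r t hrr ht3 hrt).subtype
    have hφinj : Function.Injective φ := by
      rw [injective_iff_map_eq_one]
      intro u hu
      have : (u : G) ∈ K := (QuotientGroup.eq_one_iff (u : G)).mp hu
      exact Subtype.ext (hUK u u.2 this)
    have hle : Nat.card (h30_U r t hrr ht3 hrt) ≤ 6 := by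
      rw [← hQ]; exact Nat.card_le_card_of_injective φ hφinj
    have h3d : 3 ∣ Nat.card (h30_U r t hrr ht3 hrt) := by
      rw [← hot']; exact Subgroup.orderOf_dvd_natCard _ htU
    have h2d : 2 ∣ Nat.card (h30_U r t hrr ht3 hrt) := by
      rw [← hor']; exact Subgroup.orderOf_dvd_natCard _ hrU
    have hpos : 0 < Nat.card (h30_U r t hrr ht3 hrt) := Nat.card_pos
    have hcard : Nat.card (h30_U r t hrr ht3 hrt) = 6 := by omega
    have hφbij : Function.Bijective φ :=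
      Function.Injective.bijective_of_nat_card_le hφinj (by rw [hcard, hQ])
    refine ⟨h30_U r t hrr ht3 hrt, htU, hrU, hcard, hUK, fun u hu => hu, ?_⟩
    intro g
    obtain ⟨u, hu⟩ := hφbij.2 (QuotientGroup.mk g)
    refine ⟨u, u.2, (u : G)⁻¹ * g, ?_, by group⟩
    exact QuotientGroup.eq.mp hu

end Cfsg.Agent.Helper30.GS4
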