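import Mathlib
import Cfsg.Agent.Lib.Helper31.H2Defs

/-!
# helper31 H2 server (S3786): piece (A1) — Theorem B in trace form, non-exceptional case
-/

set_option autoImplicit false
set_option maxHeartbeats 400000

namespace Cfsg.Agent.Helper30.H2

open Cfsg Cfsg.Agent.Helper31.H2 Cfsg.Agent.Helper31.HHB Cfsg.Agent.Helper48.Wreath

theorem thmB_ne_aux {H : Type*} [Group H] [Finite H] {p : ℕ} [hp : Fact p.Prime] (hp2 : p ≠ 2)
    (hsol : IsPSolvable p H) (hO : pCore p H = ⊥) (hne : NE p H)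
    {W : Type*} [CommGroup W] [Finite W] [Module (ZMod p) (Additive W)]
    (ψ : H →* MulAut W) (hψ : Function.Injective ψ) (n : ℕ) (x : H)
    (hx : x ^ p ^ (n + 1) = 1)
    (htr : ∀ w : W, ∏ j ∈ Finset.range (p ^ (n + 1)), ((ψ x) ^ j) w = 1) :
    x ^ p ^ n = 1 := by
  by_contra hx1
  have hp0 : 0 < p := hp.out.pos
  obtain ⟨q, hq, hqp, Q, hQ, hQx, g, hgQ, hgx⟩ :=
    Cfsg.Agent.Helper31.HH.exists_invariant_q_not_centralized hsol hO n x hx hx1
  have : Fact q.Prime := ⟨hq⟩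
  have : Module.Finite (ZMod p) (Additive W) := Module.Finite.of_finite
  set ρ0 := linRep p ψ with hρ0
  have hρ0inj : Function.Injective ρ0 := linRep_injective p ψ hψ
  have hnorm : (∑ j ∈ Finset.range (p ^ (n + 1)), (ρ0 x) ^ j) = 0 := by
    ext v
    induction v using Additive.rec with
    | ofMul w =>
      apply Additive.toMul.injective
      rw [linRep_sum_apply, htr w]
      rfl
  have hgeom : (ρ0 x - 1) ^ (p ^ (n + 1) - 1) = 0 := by
    have := Cfsg.Agent.Helper31.HH.alg_geom_eq (K := ZMod p) p (n + 1) (ρ0 x)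
    rw [← this, hnorm]
  have hex : ∃ r, (ρ0 x - 1) ^ r = 0 := ⟨_, hgeom⟩
  classical
  have hr : (ρ0 x - 1) ^ (Nat.find hex) = 0 := Nat.find_spec hex
  have hmin : ∀ k < Nat.find hex, (ρ0 x - 1) ^ k ≠ 0 := fun k hk => Nat.find_min hex hk
  have hrle : Nat.find hex ≤ p ^ (n + 1) - 1 := Nat.find_min' hex hgeom
  have key := theoremB_hom ρ0 hρ0inj q (Ne.symm hqp) Q hQ x hQx n hx
    ⟨g, hgQ, hgx⟩ (Nat.find hex) hr hmin
  rcases key with h | ⟨⟨a, ha, b, hb, hab⟩, n₀, m, h1, h2, h3, h4, h5⟩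
  · have hpos : 0 < p ^ (n + 1) := pow_pos hp0 _
    omega
  · -- `p ^ n₀ - 1 = q ^ m` with `p` odd forces `q = 2`
    have hodd : p % 2 = 1 := by
      rcases hp.out.eq_two_or_odd with h | h
      · exact absurd h hp2
      · exact h
    have hpodd : (p ^ n₀) % 2 = 1 := by
      rw [Nat.pow_mod, hodd, one_pow]
      rfl
    have h2dvd : 2 ∣ q ^ m := by
      rw [← h4]
      omega
    have hq2 : q = 2 := by
      have := (Nat.prime_two.dvd_of_dvd_pow h2dvd)
      exact ((Nat.prime_dvd_prime_iff_eq Nat.prime_two hq).mp this).symm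
    subst hq2
    rcases hne with hnf | hab2
    · apply hnf
      have hdvd : p - 1 ∣ 2 ^ m := by
        rw [← h4]
        exact Nat.sub_one_dvd_pow_sub_one p n₀
      obtain ⟨k, -, hk⟩ := (Nat.dvd_prime_pow Nat.prime_two).mp hdvd
      exact ⟨k, by omega⟩
    · obtain ⟨S, hS⟩ := IsPGroup.exists_le_sylow hQ
      exact hab (hab2 S a (hS ha) b (hS hb))

/-- (A1) Theorem B in trace form, non-exceptional case. -/
theorem thmB_ne {H : Type*} [Group H] [Finite H] {p : ℕ} [hp : Fact p.Prime] (hp2 : p ≠ 2)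
    (hsol : IsPSolvable p H) (hO : pCore p H = ⊥) (hne : NE p H)
    {W : Type*} [CommGroup W] [Finite W] (hexp : ∀ w : W, w ^ p = 1)
    (ψ : H →* MulAut W) (hψ : Function.Injective ψ) (n : ℕ) (x : H)
    (hx : x ^ p ^ (n + 1) = 1)
    (htr : ∀ w : W, ∏ j ∈ Finset.range (p ^ (n + 1)), ((ψ x) ^ j) w = 1) :
    x ^ p ^ n = 1 := by
  let _inst : Module (ZMod p) (Additive W) := AddCommGroup.zmodModule (by
    intro v
    induction v using Additive.rec with
    | ofMul w =>
      rw [← ofMul_pow, hexp w]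
      rfl)
  exact thmB_ne_aux hp2 hsol hO hne ψ hψ n x hx htr

end Cfsg.Agent.Helper30.H2
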