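import Mathlib
import Cfsg.Agent.Lib.Helper31.H2Defs

/-!
# helper31 H2 server (S3786): piece (S1) — the lower set-up for an arbitrary `p`-soluble `G`
-/

set_option autoImplicit false
set_option maxHeartbeats 400000
set_option linter.style.haveILetI false

namespace Cfsg.Agent.Helper30.H2

open Cfsg Cfsg.Agent.Helper31.H2 Cfsg.Agent.Helper31.HHB Cfsg.Agent.Helper48.Wreath

universe u

/-- (S1) Lower set-up for arbitrary `G`. -/
theorem setup_low {p : ℕ} [Fact p.Prime] (hS2 : SetupUp.{u} p) (G : Type u) [Group G] [Finite G]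
    (hsol : IsPSolvable p G) :
    ∃ (W : Type u) (_ : CommGroup W) (_ : Finite W) (ψ : G ⧸ pPrimePCore p G →* MulAut W),
      (∀ w : W, w ^ p = 1) ∧ Function.Injective ψ ∧
      ∀ n : ℕ, ExpLE p (n + 1) G → ∀ x : G, (∃ k : ℕ, x ^ p ^ k = 1) → ∀ w : W,
        ∏ j ∈ Finset.range (p ^ (n + 1)),
          ((ψ (QuotientGroup.mk' (pPrimePCore p G) x)) ^ j) w = 1 := by
  haveI hKn : (pPrimeCore p G).Normal := inferInstance
  have hsol' : IsPSolvable p (G ⧸ pPrimeCore p G) := Cfsg.Agent.Helper76.IsPSolvable.quotient hsol (pPrimeCore p G)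
  have hbot : pPrimeCore p (G ⧸ pPrimeCore p G) = ⊥ := Cfsg.Agent.Helper55.pPrimeCore_quotient_eq_bot p
  obtain ⟨W, instC, instF, φ, cls, hexp, hker, hsurj, heq⟩ := hS2 (G ⧸ pPrimeCore p G) hsol' hbot
  haveI hPn : (pCore p (G ⧸ pPrimeCore p G)).Normal := Cfsg.pCore_normal p (G ⧸ pPrimeCore p G)
  have hPp : IsPGroup p (pCore p (G ⧸ pPrimeCore p G)) := Cfsg.Agent.Helper55.isPGroup_pCore
  set φ' : G →* MulAut W := φ.comp (QuotientGroup.mk' (pPrimeCore p G)) with hφ'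
  have hker' : ∀ a : G, φ' a = 1 ↔ a ∈ pPrimePCore p G := by
    intro a
    show φ (QuotientGroup.mk' (pPrimeCore p G) a) = 1 ↔ QuotientGroup.mk' (pPrimeCore p G) a ∈ pCore p (G ⧸ pPrimeCore p G)
    rw [← hker, MonoidHom.mem_ker]
  have hle : pPrimePCore p G ≤ φ'.ker := fun a ha => MonoidHom.mem_ker.mpr ((hker' a).mpr ha)
  set ψ : G ⧸ pPrimePCore p G →* MulAut W := QuotientGroup.lift (pPrimePCore p G) φ' hle with hψ
  have hψinj : Function.Injective ψ := by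
    rw [injective_iff_map_eq_one]
    intro g' hg'
    obtain ⟨a, rfl⟩ := QuotientGroup.mk_surjective g'
    have h1 : φ' a = 1 := hg'
    exact (QuotientGroup.eq_one_iff a).mpr ((hker' a).mp h1)
  refine ⟨W, instC, instF, ψ, hexp, hψinj, ?_⟩
  intro n hE x hx w
  obtain ⟨v, rfl⟩ := hsurj w
  have hE' : ExpLE p (n + 1) (G ⧸ pPrimeCore p G) := hE.quotient (pPrimeCore p G)
  set xb : G ⧸ pPrimeCore p G := QuotientGroup.mk' (pPrimeCore p G) x with hxb
  have hψx : ψ (QuotientGroup.mk' (pPrimePCore p G) x) = φ xb := rfl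
  rw [hψx]
  have hxbp : ∃ k : ℕ, xb ^ p ^ k = 1 := by
    obtain ⟨k, hk⟩ := hx
    exact ⟨k, by rw [hxb, ← map_pow, hk, map_one]⟩
  -- the conjugates of `v`
  set c : ℕ → ↥(pCore p (G ⧸ pPrimeCore p G)) := fun j => ⟨xb ^ j * v * (xb ^ j)⁻¹, hPn.conj_mem _ v.2 (xb ^ j)⟩ with hc
  have hterm : ∀ j : ℕ, ((φ xb) ^ j) (cls v) = cls (c j) := by
    intro j
    rw [← map_pow, heq]
  have hprod : ∀ m : ℕ, ∃ u : ↥(pCore p (G ⧸ pPrimeCore p G)),
      (u : G ⧸ pPrimeCore p G) = ((v : G ⧸ pPrimeCore p G) * xb) ^ m * (xb ^ m)⁻¹ ∧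
      ∏ j ∈ Finset.range m, ((φ xb) ^ j) (cls v) = cls u := by
    intro m
    induction m with
    | zero => exact ⟨1, by simp, by simp⟩
    | succ m ih =>
      obtain ⟨u, hu1, hu2⟩ := ih
      refine ⟨u * c m, ?_, ?_⟩
      · rw [Subgroup.coe_mul, hu1]
        show ((v : G ⧸ pPrimeCore p G) * xb) ^ m * (xb ^ m)⁻¹ * (xb ^ m * v * (xb ^ m)⁻¹) = _
        rw [pow_succ, pow_succ]
        group
      · rw [Finset.prod_range_succ, hu2, hterm, map_mul]
  have hvx : ∃ k : ℕ, ((v : G ⧸ pPrimeCore p G) * xb) ^ p ^ k = 1 := by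
    have hZ : IsPGroup p (Subgroup.zpowers xb) := by
      obtain ⟨k, hk⟩ := hxbp
      rintro ⟨g, hg⟩
      obtain ⟨i, rfl⟩ := Subgroup.mem_zpowers_iff.mp hg
      refine ⟨k, ?_⟩
      apply Subtype.ext
      rw [Subgroup.coe_pow]
      show (xb ^ i) ^ p ^ k = 1
      rw [← zpow_natCast, ← zpow_mul, mul_comm, zpow_mul, zpow_natCast, hk, one_zpow]
    have hsup : IsPGroup p (pCore p (G ⧸ pPrimeCore p G) ⊔ Subgroup.zpowers xb : Subgroup (G ⧸ pPrimeCore p G)) :=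
      IsPGroup.to_sup_of_normal_left hPp hZ
    have hmem : (v : G ⧸ pPrimeCore p G) * xb ∈ pCore p (G ⧸ pPrimeCore p G) ⊔ Subgroup.zpowers xb :=
      Subgroup.mul_mem _ (Subgroup.mem_sup_left v.2)
        (Subgroup.mem_sup_right (Subgroup.mem_zpowers xb))
    obtain ⟨k, hk⟩ := hsup ⟨(v : G ⧸ pPrimeCore p G) * xb, hmem⟩
    refine ⟨k, ?_⟩
    have := congrArg Subtype.val hk
    rwa [Subgroup.coe_pow] at this
  obtain ⟨u, hu1, hu2⟩ := hprod (p ^ (n + 1))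
  rw [hu2]
  have hone : u = 1 := by
    apply Subtype.ext
    rw [hu1, hE' _ hvx, hE' _ hxbp]
    simp
  rw [hone, map_one]

end Cfsg.Agent.Helper30.H2
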