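import Mathlib
import Cfsg.Agent.Lib.Helper31.H2Defs

/-!
# helper31 H2 server (S3786): piece (S2) — the action on the Frattini quotient of `O_p(G)`
-/

set_option autoImplicit false
set_option maxHeartbeats 400000
set_option linter.style.haveILetI false

namespace Cfsg.Agent.Helper30.H2

open Cfsg Cfsg.Agent.Helper31.H2 Cfsg.Agent.Helper31.HHB Cfsg.Agent.Helper48.Wreath
open Cfsg.Agent.Helper31.GT

universe u

/-- (S2) The action on the Frattini quotient of `O_p(G)` when `O_{p'}(G) = 1`. -/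
theorem setup_up {p : ℕ} [Fact p.Prime] : SetupUp.{u} p := by
  intro G _ _ hsol hcore
  set P₁ := pCore p G with hP₁
  haveI hPn : P₁.Normal := Cfsg.pCore_normal p G
  have hPp : IsPGroup p P₁ := Cfsg.Agent.Helper55.isPGroup_pCore
  set Φ := (frattini ↥P₁).map P₁.subtype with hΦ
  haveI hΦn : Φ.Normal := by
    rw [← Subgroup.normalizer_eq_top_iff, eq_top_iff]
    have h1 := Cfsg.Agent.Helper24.normalizer_le_normalizer_map_subtype_of_characteristic P₁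
      (frattini ↥P₁)
    rw [Subgroup.normalizer_eq_top_iff.mpr hPn] at h1
    exact h1
  obtain ⟨hfc, hfe⟩ := Cfsg.Agent.S4208.frattini_quot_props
    (IsPGroup.of_equiv hPp (MulEquiv.refl _) : IsPGroup p ↥P₁)
  have hΦ1 : ∀ u ∈ P₁, ∀ v ∈ P₁, u * v * u⁻¹ * v⁻¹ ∈ Φ := by
    intro u hu v hv
    refine ⟨⟨u, hu⟩ * ⟨v, hv⟩ * ⟨u, hu⟩⁻¹ * ⟨v, hv⟩⁻¹, ?_, rfl⟩
    rw [SetLike.mem_coe, ← QuotientGroup.eq_one_iff, QuotientGroup.mk_mul, QuotientGroup.mk_mul,
      QuotientGroup.mk_mul, QuotientGroup.mk_inv, QuotientGroup.mk_inv,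
      hfc (⟨u, hu⟩ : ↥P₁) (⟨v, hv⟩ : ↥P₁)]
    group
  have hΦ2 : ∀ v ∈ P₁, v ^ p ∈ Φ := by
    intro v hv
    refine ⟨⟨v, hv⟩ ^ p, ?_, rfl⟩
    rw [SetLike.mem_coe, ← QuotientGroup.eq_one_iff, QuotientGroup.mk_pow]
    exact hfe _
  set mk := QuotientGroup.mk' Φ with hmk
  have hmk1 : ∀ g : G, mk g = 1 ↔ g ∈ Φ := fun g => QuotientGroup.eq_one_iff g
  set φ := secAct P₁ Φ with hφ
  have hUcomm : ∀ u u' : ↥(P₁.map mk), u * u' = u' * u := by
    rintro ⟨_, v, hv, rfl⟩ ⟨_, v', hv', rfl⟩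
    apply Subtype.ext
    show mk v * mk v' = mk v' * mk v
    have h3 := (hmk1 _).mpr (hΦ1 v hv v' hv')
    rw [map_mul, map_mul, map_mul, map_inv, map_inv] at h3
    calc mk v * mk v' = (mk v * mk v' * (mk v)⁻¹ * (mk v')⁻¹) * (mk v' * mk v) := by group
      _ = mk v' * mk v := by rw [h3, one_mul]
  have hWexp : ∀ w : ↥(P₁.map mk), w ^ p = 1 := by
    rintro ⟨_, v, hv, rfl⟩
    apply Subtype.ext
    show (mk v) ^ p = 1
    rw [← map_pow]
    exact (hmk1 _).mpr (hΦ2 v hv)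
  have hPker : P₁ ≤ φ.ker := fun g hg =>
    (mem_ker_secAct P₁ Φ g).mpr (fun v hv => hΦ1 g hg v hv)
  have hkerP : φ.ker ≤ P₁ := fun g hg =>
    Cfsg.Agent.Helper24.mem_pCore_of_commutator_mem_frattini hsol hcore g
      ((mem_ker_secAct P₁ Φ g).mp hg)
  have hker : φ.ker = P₁ := le_antisymm hkerP hPker
  set cls : ↥P₁ →* ↥(P₁.map mk) := mk.subgroupMap P₁ with hcls
  have hsurj : Function.Surjective cls := MonoidHom.subgroupMap_surjective mk P₁
  have heq : ∀ (g : G) (v : ↥P₁),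
      φ g (cls v) = cls ⟨g * v * g⁻¹, hPn.conj_mem _ v.2 g⟩ := by
    intro g v
    apply Subtype.ext
    rw [secAct_apply_coe]
    show mk g * mk (v : G) * (mk g)⁻¹ = mk (g * v * g⁻¹)
    rw [map_mul, map_mul, map_inv]
  letI instC : CommGroup ↥(P₁.map mk) :=
    { (inferInstance : Group ↥(P₁.map mk)) with mul_comm := hUcomm }
  exact ⟨↥(P₁.map mk), instC, inferInstance, φ, cls, hWexp, hker, hsurj, heq⟩

end Cfsg.Agent.Helper30.H2
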