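import Mathlib
import Cfsg.Agent.Lib.Helper31.H2Defs

/-!
# helper31 H2 server (S3786): piece (TBL) — Theorem B lower bound `r ≥ 2 p ^ n`
-/

set_option autoImplicit false
set_option maxHeartbeats 400000

namespace Cfsg.Agent.Helper30.H2

open Cfsg Cfsg.Agent.Helper31.H2 Cfsg.Agent.Helper31.HHB Cfsg.Agent.Helper48.Wreath

/-- (TBL) Theorem B lower bound `r ≥ p^n (p-1) ≥ 2 p^n`. -/
theorem tb_lower {G : Type*} [Group G] [Finite G] {p : ℕ} [Fact p.Prime] (hp2 : p ≠ 2)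
    (hsol : IsPSolvable p G) {W : Type*} [CommGroup W] [Finite W] [Module (ZMod p) (Additive W)]
    (φ : G →* MulAut W) (hker : φ.ker = pCore p G) (g : G) (n : ℕ)
    (hg : g ^ p ^ (n + 1) ∈ pCore p G) (hg' : g ^ p ^ n ∉ pCore p G) :
    (linRep p φ g - 1) ^ (2 * p ^ n - 1) ≠ 0 := by
  intro hzero
  have hp : p.Prime := Fact.out
  have hp0 : 0 < p := hp.pos
  have hp3 : 3 ≤ p := by
    rcases hp.eq_two_or_odd with h | h
    · exact absurd h hp2
    · have := hp.two_le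
      omega
  set P₁ := pCore p G with hP₁
  haveI hPn : P₁.Normal := Cfsg.pCore_normal p G
  have hPker : P₁ ≤ φ.ker := le_of_eq hker.symm
  set ψ : G ⧸ P₁ →* MulAut W := QuotientGroup.lift P₁ φ hPker with hψ
  have hψinj : Function.Injective ψ := by
    rw [injective_iff_map_eq_one]
    intro g' hg'
    obtain ⟨a, rfl⟩ := QuotientGroup.mk_surjective g'
    have h1 : φ a = 1 := hg'
    have h2 : a ∈ φ.ker := MonoidHom.mem_ker.mpr h1
    rw [hker] at h2
    exact (QuotientGroup.eq_one_iff a).mpr h2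
  have hsolH : IsPSolvable p (G ⧸ P₁) := Cfsg.Agent.Helper76.IsPSolvable.quotient hsol P₁
  have hOH : pCore p (G ⧸ P₁) = ⊥ := pCore_quot_pCore_eq_bot p
  set x : G ⧸ P₁ := QuotientGroup.mk' P₁ g with hxdef
  have hx : x ^ p ^ (n + 1) = 1 := by
    rw [hxdef, ← map_pow]
    exact (QuotientGroup.eq_one_iff _).mpr hg
  have hx1 : x ^ p ^ n ≠ 1 := by
    rw [hxdef, ← map_pow]
    intro h
    exact hg' ((QuotientGroup.eq_one_iff _).mp h)
  obtain ⟨q, hq, hqp, Q, hQ, hQx, y, hyQ, hyx⟩ :=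
    Cfsg.Agent.Helper31.HH.exists_invariant_q_not_centralized hsolH hOH n x hx hx1
  have : Fact q.Prime := ⟨hq⟩
  have : Module.Finite (ZMod p) (Additive W) := Module.Finite.of_finite
  set ρ0 := linRep p ψ with hρ0
  have hρ0inj : Function.Injective ρ0 := linRep_injective p ψ hψinj
  have hρx : ρ0 x = linRep p φ g := rfl
  have hgeom : (ρ0 x - 1) ^ (2 * p ^ n - 1) = 0 := by rw [hρx]; exact hzero
  have hex : ∃ r, (ρ0 x - 1) ^ r = 0 := ⟨_, hgeom⟩
  classical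
  have hr : (ρ0 x - 1) ^ (Nat.find hex) = 0 := Nat.find_spec hex
  have hmin : ∀ k < Nat.find hex, (ρ0 x - 1) ^ k ≠ 0 := fun k hk => Nat.find_min hex hk
  have hrle : Nat.find hex ≤ 2 * p ^ n - 1 := Nat.find_min' hex hgeom
  have key := theoremB_hom ρ0 hρ0inj q (Ne.symm hqp) Q hQ x hQx n hx
    ⟨y, hyQ, hyx⟩ (Nat.find hex) hr hmin
  have hN : 0 < p ^ n := pow_pos hp0 _
  have hsucc : p ^ (n + 1) = p * p ^ n := pow_succ' p n
  have h3N : 3 * p ^ n ≤ p * p ^ n := Nat.mul_le_mul_right _ hp3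
  rcases key with h | ⟨-, n₀, m, h1, h2, h3, h4, h5⟩
  · omega
  · have hA : p ^ (n + 1 - n₀) ≤ p ^ n := Nat.pow_le_pow_right hp0 (by omega)
    have hAB : p ^ (n + 1 - n₀) * p ^ n₀ = p ^ (n + 1) := by
      rw [← pow_add]
      congr 1
      omega
    have hmul : p ^ (n + 1 - n₀) * (p ^ n₀ - 1) = p ^ (n + 1 - n₀) * p ^ n₀ - p ^ (n + 1 - n₀) :=
      Nat.mul_sub_one _ _
    omega

end Cfsg.Agent.Helper30.H2
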