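import Mathlib
import Cfsg.Agent.Lib.Helper53.IPDefs

/-!
# IP (helper53 server, S4463): piece (NUM) `numeric` (helper30)
-/

set_option autoImplicit false

namespace Cfsg.Agent.Helper30.IP

open Cfsg Cfsg.Agent.Helper53.IP
open scoped ComplexConjugate commutatorElement

universe u

theorem h30_fact_div_ge2 (c m : ℕ) (hm : m ≤ c) :
    (c + 2) * (c + 1) ≤ (c + 2).factorial / m.factorial := by
  have hd : m.factorial ∣ c.factorial := Nat.factorial_dvd_factorial hm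
  have h1 : (c + 2).factorial = (c + 2) * (c + 1) * c.factorial := by
    rw [Nat.factorial_succ, Nat.factorial_succ, mul_assoc]
  rw [h1, Nat.mul_div_assoc _ hd]
  have h2 : 1 ≤ c.factorial / m.factorial :=
    Nat.div_pos (Nat.factorial_le hm) (Nat.factorial_pos m)
  calc (c + 2) * (c + 1) = (c + 2) * (c + 1) * 1 := (mul_one _).symm
    _ ≤ (c + 2) * (c + 1) * (c.factorial / m.factorial) := Nat.mul_le_mul_left _ h2

theorem h30_fact_div_ge3 (c m : ℕ) (hm : m ≤ c) :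
    (c + 3) * (c + 2) * (c + 1) ≤ (c + 3).factorial / m.factorial := by
  have hd : m.factorial ∣ c.factorial := Nat.factorial_dvd_factorial hm
  have h1 : (c + 3).factorial = (c + 3) * (c + 2) * (c + 1) * c.factorial := by
    rw [Nat.factorial_succ, Nat.factorial_succ, Nat.factorial_succ]
    ring
  rw [h1, Nat.mul_div_assoc _ hd]
  have h2 : 1 ≤ c.factorial / m.factorial :=
    Nat.div_pos (Nat.factorial_le hm) (Nat.factorial_pos m)
  calc (c + 3) * (c + 2) * (c + 1) = (c + 3) * (c + 2) * (c + 1) * 1 := (mul_one _).symm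
    _ ≤ (c + 3) * (c + 2) * (c + 1) * (c.factorial / m.factorial) := Nat.mul_le_mul_left _ h2

/-- (NUM) [S-M] the numeric facts. -/
theorem numeric (b : ℕ) :
    (3 ≤ b → b ^ 3 ≤ (b.factorial / (b / 2).factorial) ^ 2) ∧
    (5 ≤ b → b ^ 4 ≤ (b.factorial / (b / 2).factorial) ^ 2) ∧
    (1 ≤ b → b ^ 2 * ((b - 1).factorial) ^ 2 = (b.factorial) ^ 2) ∧
    ((b.factorial / (b / 2).factorial) ^ 2 * ((b / 2).factorial) ^ 2 = (b.factorial) ^ 2) := by
  refine ⟨?_, ?_, ?_, ?_⟩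
  · intro hb
    obtain ⟨c, rfl⟩ : ∃ c, b = c + 1 + 2 := ⟨b - 3, by omega⟩
    have hm : (c + 1 + 2) / 2 ≤ c + 1 := by omega
    have h := h30_fact_div_ge2 (c + 1) ((c + 1 + 2) / 2) hm
    have h1 : c + 1 + 2 ≤ (c + 1 + 1) ^ 2 := by nlinarith
    calc (c + 1 + 2) ^ 3 = (c + 1 + 2) ^ 2 * (c + 1 + 2) := by ring
      _ ≤ (c + 1 + 2) ^ 2 * (c + 1 + 1) ^ 2 := Nat.mul_le_mul_left _ h1
      _ = ((c + 1 + 2) * (c + 1 + 1)) ^ 2 := by ring
      _ ≤ _ := Nat.pow_le_pow_left h 2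
  · intro hb
    obtain ⟨c, rfl⟩ : ∃ c, b = c + 2 + 3 := ⟨b - 5, by omega⟩
    have hm : (c + 2 + 3) / 2 ≤ c + 2 := by omega
    have h := h30_fact_div_ge3 (c + 2) ((c + 2 + 3) / 2) hm
    have h1 : c + 2 + 3 ≤ (c + 2 + 2) * (c + 2 + 1) := by nlinarith
    calc (c + 2 + 3) ^ 4 = (c + 2 + 3) ^ 2 * (c + 2 + 3) ^ 2 := by ring
      _ ≤ (c + 2 + 3) ^ 2 * ((c + 2 + 2) * (c + 2 + 1)) ^ 2 :=
          Nat.mul_le_mul_left _ (Nat.pow_le_pow_left h1 2)
      _ = ((c + 2 + 3) * (c + 2 + 2) * (c + 2 + 1)) ^ 2 := by ring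
      _ ≤ _ := Nat.pow_le_pow_left h 2
  · intro hb
    obtain ⟨c, rfl⟩ : ∃ c, b = c + 1 := ⟨b - 1, by omega⟩
    rw [Nat.add_sub_cancel, Nat.factorial_succ, mul_pow]
  · have hd : (b / 2).factorial ∣ b.factorial := Nat.factorial_dvd_factorial (Nat.div_le_self b 2)
    rw [← mul_pow, Nat.div_mul_cancel hd]

end Cfsg.Agent.Helper30.IP
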