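import Mathlib
import Cfsg.Agent.Lib.Helper53.IPDefs
import Cfsg.Agent.Lib.Helper79.Inflation

/-!
# IP (helper53 server, S4463): piece (P3) `pcase_glue` (helper30)
-/

set_option autoImplicit false

namespace Cfsg.Agent.Helper30.IP

open Cfsg Cfsg.Agent.Helper53.IP
open scoped ComplexConjugate commutatorElement

universe u

/-- (P3) [M] glue for the `p`-group case: inflate `τ` and pull back the centre. -/
theorem pcase_glue {G : Type u} [Group G] [Finite G] (b : ℕ) (K : Subgroup G) [K.Normal]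
    (τ : IrrCharacter (G ⧸ K)) (hτ1 : 1 < charDegree (τ : G ⧸ K → ℂ))
    (hvan : ∀ x : G ⧸ K, x ∉ Subgroup.center (G ⧸ K) → (τ : G ⧸ K → ℂ) x = 0)
    (habs : ∀ z ∈ Subgroup.center (G ⧸ K),
      Complex.normSq ((τ : G ⧸ K → ℂ) z) = ((charDegree (τ : G ⧸ K → ℂ) : ℕ) : ℝ) ^ 2)
    (hidx : (Subgroup.center (G ⧸ K)).index = (charDegree (τ : G ⧸ K → ℂ)) ^ 2)
    (hQ : DegLe (G ⧸ K) b)
    (hP2 : ∀ (Z : Subgroup G) (τ' : IrrCharacter G), 1 < charDegree (τ' : G → ℂ) →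
      (∀ g : G, g ∉ Z → (τ' : G → ℂ) g = 0) →
      (∀ z ∈ Z, Complex.normSq ((τ' : G → ℂ) z) = ((charDegree (τ' : G → ℂ) : ℕ) : ℝ) ^ 2) →
      Z.index = (charDegree (τ' : G → ℂ)) ^ 2 → DegLe Z (b - 1)) :
    ∃ H : Subgroup G, H.index ≤ b ^ 2 ∧ DegLe H (b - 1) := by
  have hdeg : charDegree (Cfsg.Agent.Helper79.inflate K τ : G → ℂ) =
      charDegree (τ : G ⧸ K → ℂ) := Cfsg.Agent.Helper79.charDegree_inflate K τ
  have hZidx : ((Subgroup.center (G ⧸ K)).comap (QuotientGroup.mk' K)).index =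
      (Subgroup.center (G ⧸ K)).index :=
    Subgroup.index_comap_of_surjective _ (QuotientGroup.mk'_surjective K)
  refine ⟨(Subgroup.center (G ⧸ K)).comap (QuotientGroup.mk' K), ?_, ?_⟩
  · rw [hZidx, hidx]
    exact Nat.pow_le_pow_left (hQ τ) 2
  · apply hP2 _ (Cfsg.Agent.Helper79.inflate K τ)
    · rw [hdeg]; exact hτ1
    · intro g hg
      rw [Cfsg.Agent.Helper79.inflate_apply]
      apply hvan
      intro h
      exact hg h
    · intro z hz
      rw [Cfsg.Agent.Helper79.inflate_apply, hdeg]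
      exact habs _ hz
    · rw [hZidx, hidx, hdeg]

end Cfsg.Agent.Helper30.IP
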