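import Mathlib

/-!
Existence of normal subgroups of index `p`: abelian groups, `p`-groups, groups with a Sylow
`p`-subgroup not contained in the derived subgroup, groups with a normal Sylow `p`-subgroup centralized
by all `p'`-elements.  Also lifting of `p'`-elements through quotients as powers.
-/

set_option autoImplicit false
universe u

namespace Cfsg.Agent.Helper30

variable {p : ℕ} [hp : Fact p.Prime]

/-- A finite abelian group of order divisible by `p` has a subgroup of index `p`. -/
theorem exists_index_p_of_comm (A : Type u) [CommGroup A] [Finite A] (h : p ∣ Nat.card A) :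
    ∃ N : Subgroup A, N.index = p := by
  obtain ⟨ι, hι, n, hn, ⟨e⟩⟩ := CommGroup.equiv_prod_multiplicative_zmod_of_finite A
  have hcard : Nat.card A = ∏ i, n i := by
    rw [Nat.card_congr e.toEquiv, Nat.card_pi]
    apply Finset.prod_congr rfl
    intro i _
    exact (Nat.card_congr Multiplicative.toAdd).trans (Nat.card_zmod (n i))
  rw [hcard] at h
  obtain ⟨i, -, hi⟩ := (Prime.dvd_finsetProd_iff (Nat.Prime.prime hp.out) _).1 h
  let c : Multiplicative (ZMod (n i)) →* Multiplicative (ZMod p) :=
    AddMonoidHom.toMultiplicative (ZMod.castHom hi (ZMod p)).toAddMonoidHom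
  have hc : Function.Surjective c := by
    intro y
    obtain ⟨x, hx⟩ := ZMod.castHom_surjective hi (Multiplicative.toAdd y)
    exact ⟨Multiplicative.ofAdd x, by simpa [c] using congrArg Multiplicative.ofAdd hx⟩
  let g : A →* Multiplicative (ZMod p) := c.comp ((Pi.evalMonoidHom _ i).comp e.toMonoidHom)
  have hg : Function.Surjective g := by
    intro y
    obtain ⟨x, hx⟩ := hc y
    classical
    refine ⟨e.symm (Function.update 1 i x), ?_⟩
    simp only [g, MonoidHom.comp_apply, MulEquiv.toMonoidHom_eq_coe, MonoidHom.coe_coe,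
      MulEquiv.apply_symm_apply, Pi.evalMonoidHom_apply, Function.update_self]
    exact hx
  refine ⟨g.ker, ?_⟩
  rw [Subgroup.index_ker, MonoidHom.range_eq_top.2 hg, Nat.card_congr Subgroup.topEquiv.toEquiv]
  exact (Nat.card_congr Multiplicative.toAdd).trans (Nat.card_zmod p)

omit hp in
/-- Pull back a normal subgroup of index `p` along a surjection. -/
theorem exists_normal_index_p_of_surjective {X Y : Type*} [Group X] [Group Y] (f : X →* Y)
    (hf : Function.Surjective f) (h : ∃ N : Subgroup Y, N.Normal ∧ N.index = p) :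
    ∃ N : Subgroup X, N.Normal ∧ N.index = p := by
  obtain ⟨N, hN, hi⟩ := h
  exact ⟨N.comap f, hN.comap f, by rw [Subgroup.index_comap_of_surjective N hf, hi]⟩

/-- A nontrivial finite `p`-group has a normal subgroup of index `p`. -/
theorem exists_normal_index_p_of_pgroup (Y : Type u) [Group Y] [Finite Y] (hY : IsPGroup p Y)
    (hnt : Nontrivial Y) : ∃ N : Subgroup Y, N.Normal ∧ N.index = p := by
  obtain ⟨n, hn⟩ := hY.exists_card_eq
  have hn0 : n ≠ 0 := by
    rintro rfl
    rw [pow_zero] at hn
    have := Finite.one_lt_card_iff_nontrivial.2 hnt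
    omega
  obtain ⟨m, rfl⟩ := Nat.exists_eq_succ_of_ne_zero hn0
  obtain ⟨K, hK⟩ := Sylow.exists_subgroup_card_pow_prime (G := Y) p (n := m)
    (by rw [hn]; exact pow_dvd_pow p (Nat.le_succ m))
  have hidx : K.index = p := by
    have h1 := K.card_mul_index
    rw [hK, hn, pow_succ] at h1
    exact Nat.eq_of_mul_eq_mul_left (pow_pos hp.out.pos m) h1
  refine ⟨K, ?_, hidx⟩
  apply Subgroup.normal_of_index_eq_minFac_card
  rw [hidx, hn, Nat.Prime.pow_minFac hp.out (Nat.succ_ne_zero m)]

/-- If a `p`-subgroup is not contained in the derived subgroup, there is a normal subgroup of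
index `p`. -/
theorem exists_normal_index_p_of_not_le_commutator {X : Type u} [Group X] [Finite X]
    (T : Subgroup X) (hT : IsPGroup p ↥T) (h : ¬ T ≤ commutator X) :
    ∃ N : Subgroup X, N.Normal ∧ N.index = p := by
  let π : X →* Abelianization X := Abelianization.of
  have hπ : Function.Surjective π := fun x => QuotientGroup.induction_on x (fun g => ⟨g, rfl⟩)
  apply exists_normal_index_p_of_surjective π hπ
  have hTπ : IsPGroup p ↥(T.map π) := hT.map π
  have hne : T.map π ≠ ⊥ := by
    intro h0
    apply h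
    intro t ht
    have : π t ∈ T.map π := ⟨t, ht, rfl⟩
    rw [h0, Subgroup.mem_bot] at this
    have h2 : t ∈ π.ker := this
    rwa [Abelianization.ker_of] at h2
  have hdvd : p ∣ Nat.card (Abelianization X) := by
    obtain ⟨n, hn⟩ := hTπ.exists_card_eq
    have h1 : 1 < Nat.card ↥(T.map π) := (Subgroup.one_lt_card_iff_ne_bot _).2 hne
    have hn0 : n ≠ 0 := by
      rintro rfl
      rw [pow_zero] at hn
      omega
    have : p ∣ Nat.card ↥(T.map π) := by rw [hn]; exact dvd_pow_self p hn0
    exact this.trans (Subgroup.card_subgroup_dvd_card _)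
  obtain ⟨N, hN⟩ := exists_index_p_of_comm (Abelianization X) hdvd
  exact ⟨N, inferInstance, hN⟩

/-- A finite group with a normal Sylow `p`-subgroup `T ≠ 1` centralized by every `p'`-element has a
normal subgroup of index `p`. -/
theorem exists_normal_index_p_of_normal_sylow {X : Type u} [Group X] [Finite X]
    (T : Subgroup X) [hTn : T.Normal] (hT : IsPGroup p ↥T) (hi : ¬ p ∣ T.index) (hne : T ≠ ⊥)
    (hc : ∀ g : X, (orderOf g).Coprime p → g ∈ Subgroup.centralizer (T : Set X)) :
    ∃ N : Subgroup X, N.Normal ∧ N.index = p := by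
  obtain ⟨n, hn⟩ := hT.exists_card_eq
  have hcop : (Nat.card ↥T).Coprime T.index := by
    rw [hn]
    exact Nat.Coprime.pow_left n ((Nat.Prime.coprime_iff_not_dvd hp.out).2 hi)
  obtain ⟨K, hK⟩ := Subgroup.exists_right_complement'_of_coprime hcop
  have hcard := hK.card_mul_card
  have hKcard : Nat.card ↥K = T.index := by
    have h1 := T.card_mul_index
    rw [← hcard] at h1
    exact (Nat.eq_of_mul_eq_mul_left Nat.card_pos h1).symm
  have hKc : K ≤ Subgroup.centralizer (T : Set X) := by
    intro k hk
    apply hc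
    have h1 : orderOf k ∣ Nat.card ↥K := by
      have := orderOf_dvd_natCard (⟨k, hk⟩ : ↥K)
      rwa [← Subgroup.orderOf_coe] at this
    rw [hKcard] at h1
    exact Nat.Coprime.coprime_dvd_left h1 ((Nat.Prime.coprime_iff_not_dvd hp.out).2 hi).symm
  have hKn : K.Normal := by
    rw [← Subgroup.normalizer_eq_top_iff, eq_top_iff, ← hK.sup_eq_top, sup_le_iff]
    refine ⟨?_, Subgroup.le_normalizer⟩
    exact (Subgroup.le_centralizer_iff.1 hKc).trans (Subgroup.centralizer_le_normalizer _)
  have hidx : K.index = p ^ n := by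
    have h1 := K.card_mul_index
    rw [← hcard, hn, mul_comm] at h1
    exact Nat.eq_of_mul_eq_mul_right Nat.card_pos h1
  apply exists_normal_index_p_of_surjective (QuotientGroup.mk' K) (QuotientGroup.mk'_surjective K)
  have hQcard : Nat.card (X ⧸ K) = p ^ n := by rw [← Subgroup.index_eq_card, hidx]
  apply exists_normal_index_p_of_pgroup (X ⧸ K) (IsPGroup.of_card hQcard)
  apply Finite.one_lt_card_iff_nontrivial.1
  rw [hQcard, ← hn]
  exact (Subgroup.one_lt_card_iff_ne_bot _).2 hne

/-- Lifting a `p'`-element of a quotient to a `p'`-element that is a power of a given lift. -/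
theorem exists_pow_lift_coprime {X Y : Type*} [Group X] [Finite X] [Group Y] (f : X →* Y) (g : X)
    (h : (orderOf (f g)).Coprime p) :
    ∃ k : ℕ, f (g ^ k) = f g ∧ (orderOf (g ^ k)).Coprime p := by
  obtain ⟨o, ho⟩ : ∃ o, o = orderOf g := ⟨_, rfl⟩
  have ho0 : o ≠ 0 := by rw [ho]; exact (orderOf_pos g).ne'
  obtain ⟨a, ha⟩ : ∃ a, a = o.factorization p := ⟨_, rfl⟩
  have hmul : p ^ a * (o / p ^ a) = o := by rw [ha]; exact Nat.ordProj_mul_ordCompl_eq_self o p
  have hcop : p.Coprime (o / p ^ a) := by rw [ha]; exact Nat.coprime_ordCompl hp.out ho0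
  obtain ⟨c, hc⟩ := exists_pow_eq_self_of_coprime (x := f g) (n := p ^ a)
    (Nat.Coprime.pow_left a h.symm)
  refine ⟨p ^ a * c, ?_, ?_⟩
  · rw [map_pow, pow_mul]; exact hc
  · have h1 : (g ^ (p ^ a * c)) ^ (o / p ^ a) = 1 := by
      rw [← pow_mul, mul_right_comm, hmul, pow_mul, ho, pow_orderOf_eq_one, one_pow]
    exact Nat.Coprime.coprime_dvd_left (orderOf_dvd_of_pow_eq_one h1) hcop.symm

end Cfsg.Agent.Helper30
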