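import Mathlib
import Cfsg.Prelude.Def_Classification2

set_option autoImplicit false

namespace Cfsg.Agent.Helper30

open Cfsg

/-- `IsKnownSimple'` is invariant under isomorphism. -/
theorem isKnownSimple'_of_mulEquiv {G : Type*} {H : Type*} [Group G] [Group H] (e : G ≃* H)
    (h : IsKnownSimple' G) : IsKnownSimple' H := by
  have key : ∀ (X : Type) [Group X], Nonempty (G ≃* X) ↔ Nonempty (H ≃* X) :=
    fun X _ => ⟨fun ⟨f⟩ => ⟨e.symm.trans f⟩, fun ⟨f⟩ => ⟨e.trans f⟩⟩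
  have hc : Nat.card G = Nat.card H := Nat.card_congr e.toEquiv
  unfold IsKnownSimple' IsPrimeCyclic IsAlternating IsPSL IsPSp IsPSU IsPOmegaOdd IsPOmegaPlus
    IsPOmegaMinus IsExceptionalLieType IsSporadicGroup at *
  unfold Lie.IsoChevG2 Lie.IsoF4 Lie.IsoChevE6 Lie.IsoE7 Lie.IsoE8 Lie.Iso2E6 Lie.Iso3D4
    Lie.IsoSuzuki Lie.IsoRee Lie.Iso2F4 Lie.IsoTits Lie.ChevalleyDatum.IsGroupOver at *
  unfold Spor.IsoM11 Spor.IsoM12 Spor.IsoM22 Spor.IsoM23 Spor.IsoM24 Spor.IsoJ1 Spor.IsoJ2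
    Spor.IsoJ3 Spor.IsoJ4 Spor.IsoCo1 Spor.IsoCo2 Spor.IsoCo3 Spor.IsoMcL Spor.IsoHS Spor.IsoSuz
    Spor.IsoHe Spor.IsoRu Spor.IsoON Spor.IsoLy Spor.IsoFi22 Spor.IsoFi23 Spor.IsoFi24'
    Spor.IsoHN Spor.IsoTh Spor.IsoB Spor.IsoM at *
  simp only [key, hc] at h
  exact h

theorem isKnownSimple'_congr {G : Type*} {H : Type*} [Group G] [Group H] (e : G ≃* H) :
    IsKnownSimple' G ↔ IsKnownSimple' H :=
  ⟨isKnownSimple'_of_mulEquiv e, isKnownSimple'_of_mulEquiv e.symm⟩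

end Cfsg.Agent.Helper30
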