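import Mathlib
import Cfsg.Agent.Lib.Helper33.Syl
import Cfsg.Agent.Lib.Helper46.Involves2
import Cfsg.Agent.Lib.Helper11.QP8
import Cfsg.Agent.Lib.Helper11.DLA2

/-!
# Local form of Glauberman's lemma

If a section `K / R` of `G` is not `p`-stable (normalizer form), `p` odd, then `SL₂(p)` is involved in
`N_G(P₀)` for some nonidentity `p`-subgroup `P₀` of `G`.
-/

set_option autoImplicit false
set_option linter.style.haveILetI false
set_option linter.unusedSectionVars false

namespace Cfsg.Agent.Helper30.LI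

open Cfsg Cfsg.Agent.Helper33 Cfsg.Agent.Helper46
open scoped Pointwise

universe u w

section transport

variable {p : ℕ} [hp : Fact p.Prime]

/-- Frattini argument, elementwise. -/
theorem frattini_elt' {G : Type*} [Group G] [Finite G] {B R M : Subgroup G} (hR : IsSylIn p R B)
    (hn : M ≤ Subgroup.normalizer (B : Set G)) :
    ∀ m ∈ M, ∃ b ∈ B, b * m ∈ Subgroup.normalizer (R : Set G) := by
  intro m hm
  have hmB : MulAut.conj m • B = B := smul_eq_of_mem_normalizer (hn hm)
  have hR' : IsSylIn p (MulAut.conj m • R) B := by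
    have := hR.conj m
    rwa [hmB] at this
  obtain ⟨x, hx, hxR⟩ := hR.exists_conj_eq hR'
  refine ⟨x, hx, ?_⟩
  rw [mem_normalizer_iff_smul_eq, conj_mul_smul]
  exact hxR

/-- Pull a local involvement back along a quotient map. -/
theorem exists_local_of_quotient {K : Type*} [Group K] [Finite K] (R : Subgroup K) [R.Normal]
    {H : Type w} [Group H]
    (P : Subgroup (K ⧸ R)) (hP : IsPGroup p P) (hP1 : P ≠ ⊥)
    (hinv : Involves H ↥(Subgroup.normalizer (P : Set (K ⧸ R)))) :
    ∃ Q : Subgroup K, IsPGroup p Q ∧ Q ≠ ⊥ ∧ Involves H ↥(Subgroup.normalizer (Q : Set K)) := by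
  classical
  set π : K →* K ⧸ R := QuotientGroup.mk' R with hπ
  have hπs : Function.Surjective π := QuotientGroup.mk'_surjective R
  set Pt : Subgroup K := P.comap π with hPt
  obtain ⟨Q₀⟩ : Nonempty (Sylow p ↥Pt) := Sylow.nonempty
  set Q : Subgroup K := (Q₀ : Subgroup ↥Pt).map Pt.subtype with hQ
  have hQsyl : IsSylIn p Q Pt := isSylIn_of_sylow Pt Q₀
  -- the image of `Q` is `P`
  have hsurjP : Function.Surjective (π.subgroupComap P) :=
    π.subgroupComap_surjective_of_surjective P hπs
  have htop : ((Q₀.mapSurjective hsurjP : Sylow p ↥P) : Subgroup ↥P) = ⊤ := by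
    have h1 : IsPGroup p (⊤ : Subgroup ↥P) := fun x => by
      obtain ⟨k, hk⟩ := hP x.1
      exact ⟨k, Subtype.ext (by rw [Subgroup.coe_pow]; exact hk)⟩
    exact ((Q₀.mapSurjective hsurjP).3 h1 le_top).symm
  have himg : ∀ x ∈ P, ∃ q ∈ Q, π q = x := by
    intro x hx
    have hmem : (⟨x, hx⟩ : ↥P) ∈ ((Q₀.mapSurjective hsurjP : Sylow p ↥P) : Subgroup ↥P) := by
      rw [htop]; trivial
    rw [Sylow.coe_mapSurjective] at hmem
    obtain ⟨q, hq, hqx⟩ := hmem
    refine ⟨(q : K), ⟨q, hq, rfl⟩, ?_⟩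
    have := congrArg Subtype.val hqx
    exact this
  have hQP : Q ≤ Pt := hQsyl.le
  have hQ1 : Q ≠ ⊥ := by
    intro hbot
    apply hP1
    rw [eq_bot_iff]
    intro x hx
    obtain ⟨q, hq, rfl⟩ := himg x hx
    rw [hbot, Subgroup.mem_bot] at hq
    rw [hq, map_one]; exact Subgroup.mem_bot.mpr rfl
  refine ⟨Q, hQsyl.isPGroup, hQ1, ?_⟩
  -- the normalizer of `Pt`
  have hnorm : (Subgroup.normalizer (P : Set (K ⧸ R))).comap π
      = Subgroup.normalizer (Pt : Set K) := by
    rw [hPt]
    exact Subgroup.comap_normalizer_eq_of_surjective P hπs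
  set T : Subgroup K := Subgroup.normalizer (Q : Set K) ⊓
    (Subgroup.normalizer (P : Set (K ⧸ R))).comap π with hT
  -- restriction of π to T
  let πT : ↥T →* ↥(Subgroup.normalizer (P : Set (K ⧸ R))) :=
    { toFun := fun t => ⟨π t.1, (Subgroup.mem_inf.mp t.2).2⟩
      map_one' := by ext; simp
      map_mul' := fun a b => by ext; simp }
  have hπT : Function.Surjective πT := by
    rintro ⟨y, hy⟩
    obtain ⟨m, rfl⟩ := hπs y
    have hm : m ∈ Subgroup.normalizer (Pt : Set K) := by
      rw [← hnorm]; exact hy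
    obtain ⟨b, hb, hbm⟩ := frattini_elt' hQsyl (le_refl _) m hm
    obtain ⟨q, hq, hqb⟩ := himg (π b) hb
    have hqN : q ∈ Subgroup.normalizer (Q : Set K) := Subgroup.le_normalizer hq
    have hm' : q⁻¹ * (b * m) ∈ Subgroup.normalizer (Q : Set K) :=
      Subgroup.mul_mem _ (Subgroup.inv_mem _ hqN) hbm
    have hval : π (q⁻¹ * (b * m)) = π m := by
      rw [map_mul, map_mul, map_inv, hqb, inv_mul_cancel_left]
    refine ⟨⟨q⁻¹ * (b * m), Subgroup.mem_inf.mpr ⟨hm', ?_⟩⟩, ?_⟩
    · rw [Subgroup.mem_comap, hval]; exact hy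
    · apply Subtype.ext
      exact hval
  have h1 : Involves H ↥T := involves_of_involves_quotient πT hπT hinv
  have hTle : T ≤ Subgroup.normalizer (Q : Set K) := inf_le_left
  exact involves_of_injective (Subgroup.inclusion hTle) (Subgroup.inclusion_injective hTle) h1

/-- Push a local involvement from a subgroup to the ambient group. -/
theorem exists_local_of_subgroup {G : Type*} [Group G] (K : Subgroup G)
    {H : Type w} [Group H] (Q : Subgroup ↥K) (hQ : IsPGroup p Q) (hQ1 : Q ≠ ⊥)
    (hinv : Involves H ↥(Subgroup.normalizer (Q : Set ↥K))) :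
    ∃ P₀ : Subgroup G, IsPGroup p P₀ ∧ P₀ ≠ ⊥ ∧
      Involves H ↥(Subgroup.normalizer (P₀ : Set G)) := by
  refine ⟨Q.map K.subtype, hQ.map _, ?_, ?_⟩
  · intro h
    apply hQ1
    exact (Subgroup.map_eq_bot_iff_of_injective Q K.subtype_injective).mp h
  · have hle : (Subgroup.normalizer (Q : Set ↥K)).map K.subtype ≤
        Subgroup.normalizer ((Q.map K.subtype : Subgroup G) : Set G) :=
      Subgroup.le_normalizer_map K.subtype
    let f : ↥(Subgroup.normalizer (Q : Set ↥K)) →*
        ↥(Subgroup.normalizer ((Q.map K.subtype : Subgroup G) : Set G)) :=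
      { toFun := fun x => ⟨(x.1 : G), hle ⟨x.1, x.2, rfl⟩⟩
        map_one' := rfl
        map_mul' := fun a b => rfl }
    have hf : Function.Injective f := by
      intro a b hab
      have := congrArg Subtype.val hab
      exact Subtype.ext (Subtype.ext this)
    exact involves_of_injective f hf hinv

end transport

section glauberman

open Cfsg.Agent.Helper11.QP Cfsg.Agent.Helper10

variable {p : ℕ} [hp : Fact p.Prime]

/-- Local form of Glauberman's lemma: a group that is not `p`-stable in the normalizer form has a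
nonidentity `p`-subgroup whose normalizer involves `SL₂(p)`. -/
theorem exists_local_involves_sl2 (hp2 : p ≠ 2) {X : Type u} [Group X] [Finite X]
    (hns : ¬ Cfsg.IsNormalizerPStable p X) :
    ∃ P : Subgroup X, IsPGroup p P ∧ P ≠ ⊥ ∧
      Involves (Matrix.SpecialLinearGroup (Fin 2) (ZMod p))
        ↥(Subgroup.normalizer (P : Set X)) := by
  have hDL : DLHyp p := dlHyp p hp2
  unfold Cfsg.IsNormalizerPStable at hns
  push Not at hns
  obtain ⟨P, hPp, g, hg, hq, hnot⟩ := hns
  refine ⟨P, hPp, ?_, ?_⟩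
  · rintro rfl
    apply hnot
    have : (QuotientGroup.mk (s := (Subgroup.centralizer ((⊥ : Subgroup X) : Set X)).subgroupOf
        (Subgroup.normalizer ((⊥ : Subgroup X) : Set X)))
          (⟨g, hg⟩ : ↥(Subgroup.normalizer ((⊥ : Subgroup X) : Set X)))) = 1 := by
      rw [QuotientGroup.eq_one_iff, Subgroup.mem_subgroupOf, Subgroup.mem_centralizer_iff]
      intro x hx
      have hx1 : x = 1 := by simpa using hx
      subst hx1
      simp
    rw [this]
    exact Subgroup.one_mem _
  · set N := Subgroup.normalizer (P : Set X) with hN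
    have hPN : P ≤ N := Subgroup.le_normalizer
    haveI hP'n : (P.subgroupOf N).Normal := Subgroup.normal_in_normalizer
    have hP'p : IsPGroup p ↥(P.subgroupOf N) := hPp.comap_subtype
    have hq' : ⁅⁅P.subgroupOf N, Subgroup.zpowers (⟨g, hg⟩ : ↥N)⁆,
        Subgroup.zpowers (⟨g, hg⟩ : ↥N)⁆ = ⊥ := by
      apply quad_of_map N.subtype N.subtype_injective
      rw [Subgroup.subgroupOf_map_subtype, inf_eq_left.mpr hPN]
      exact hq
    apply involves_of_notInOp hDL
      (fun Z _ _ v w x y h => involves_sl2_of_isQdPair v w x y h) (P.subgroupOf N) hP'p ⟨g, hg⟩ hq'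
    intro L hLn hL hgL
    apply hnot
    haveI := hLn
    set C' := (Subgroup.centralizer (P : Set X)).subgroupOf N with hC'
    have hmapn : (L.map (QuotientGroup.mk' C')).Normal :=
      hLn.map _ (QuotientGroup.mk'_surjective C')
    have hmapp : IsPGroup p ↥(L.map (QuotientGroup.mk' C')) := by
      rintro ⟨_, l, hl, rfl⟩
      obtain ⟨k, hk⟩ := hL l hl
      refine ⟨k, ?_⟩
      apply Subtype.ext
      rw [Subgroup.coe_pow, Subgroup.coe_one, ← map_pow]
      apply (QuotientGroup.eq_one_iff _).mpr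
      rw [hC', Subgroup.mem_subgroupOf, Subgroup.mem_centralizer_iff]
      intro x hx
      have h1 := (Subgroup.mem_centralizer_iff.mp hk) ⟨x, hPN hx⟩
        (Subgroup.mem_subgroupOf.mpr hx)
      exact congrArg Subtype.val h1
    exact Cfsg.Agent.Helper10.le_pCore hmapn hmapp (Subgroup.mem_map_of_mem _ hgL)

/-- If `SL₂(p)` is involved in no `p`-local subgroup of `G` (`p` odd), every section of `G` is
`p`-stable in the normalizer form. -/
theorem sections_stable_of_local_sl2_free (hp2 : p ≠ 2) {G : Type u} [Group G] [Finite G]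
    (h : ∀ P : Subgroup G, IsPGroup p ↥P → P ≠ ⊥ →
      ¬ Cfsg.Involves (Matrix.SpecialLinearGroup (Fin 2) (ZMod p))
        ↥(Subgroup.normalizer ((P : Subgroup G) : Set G)))
    (K R : Subgroup G) [hR : (R.subgroupOf K).Normal] :
    Cfsg.IsNormalizerPStable p (↥K ⧸ R.subgroupOf K) := by
  by_contra hns
  obtain ⟨P, hPp, hP1, hinv⟩ := exists_local_involves_sl2 hp2 hns
  obtain ⟨Q, hQp, hQ1, hQinv⟩ := exists_local_of_quotient (R.subgroupOf K) P hPp hP1 hinv
  obtain ⟨P₀, hP₀p, hP₀1, hP₀inv⟩ := exists_local_of_subgroup K Q hQp hQ1 hQinv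
  exact h P₀ hP₀p hP₀1 hP₀inv

end glauberman

end Cfsg.Agent.Helper30.LI
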