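import Mathlib
import Cfsg.Agent.S1017

/-!
# Generic Sylow-intersection kit, part 2 (helper30): a Sylow `p`-subgroup `P` acts freely on the Sylow
`p`-subgroups meeting it trivially, so `|P|` divides their number.
-/

set_option autoImplicit false

namespace Cfsg.Agent.Helper30.SV

open MulAction Subgroup

open scoped Pointwise

variable {G : Type*} [Group G] [Finite G] {p : ℕ} [Fact p.Prime]

/-- (K4) `|P|` divides the number of Sylow `p`-subgroups `R` with `P ⊓ R = ⊥`. -/
theorem card_sylow_disjoint_dvd (P : Sylow p G) :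
    Nat.card (P : Subgroup G) ∣
      Nat.card {R : Sylow p G // (P : Subgroup G) ⊓ (R : Subgroup G) = ⊥} := by
  let S : SubMulAction ↥(P : Subgroup G) (Sylow p G) :=
    { carrier := {R | (P : Subgroup G) ⊓ (R : Subgroup G) = ⊥}
      smul_mem' := by
        rintro ⟨x, hx⟩ R hR
        show (P : Subgroup G) ⊓ ((x • R : Sylow p G) : Subgroup G) = ⊥
        rw [eq_bot_iff]
        intro g hg
        obtain ⟨hgP, hgR⟩ := Subgroup.mem_inf.mp hg
        have hgR' : g ∈ ((x • R : Sylow p G) : Subgroup G) := hgR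
        rw [Cfsg.Agent.S1017.mem_smul_sylow_iff] at hgR'
        have h1 : x⁻¹ * g * x ∈ (P : Subgroup G) ⊓ (R : Subgroup G) :=
          Subgroup.mem_inf.mpr ⟨mul_mem (mul_mem (inv_mem hx) hgP) hx, hgR'⟩
        have hR' : (P : Subgroup G) ⊓ (R : Subgroup G) = ⊥ := hR
        rw [hR', Subgroup.mem_bot] at h1
        rw [Subgroup.mem_bot]
        have h2 : g = x * (x⁻¹ * g * x) * x⁻¹ := by group
        rw [h2, h1]; group }
  have hstab : ∀ b : S, MulAction.stabilizer ↥(P : Subgroup G) b = ⊥ := by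
    intro b
    rw [eq_bot_iff]
    intro x hx
    rw [MulAction.mem_stabilizer_iff] at hx
    have hx' : (x : G) • (b : Sylow p G) = (b : Sylow p G) := congrArg Subtype.val hx
    have hN : (x : G) ∈ Subgroup.normalizer (((b : Sylow p G) : Subgroup G) : Set G) :=
      Sylow.smul_eq_iff_mem_normalizer.mp hx'
    have h1 := P.2.inf_normalizer_sylow (b : Sylow p G)
    have h2 : (x : G) ∈ (P : Subgroup G) ⊓ ((b : Sylow p G) : Subgroup G) := by
      rw [← h1]; exact Subgroup.mem_inf.mpr ⟨x.2, hN⟩
    have hb : (P : Subgroup G) ⊓ ((b : Sylow p G) : Subgroup G) = ⊥ := b.2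
    rw [hb, Subgroup.mem_bot] at h2
    rw [Subgroup.mem_bot]; exact Subtype.ext h2
  have e := MulAction.selfEquivOrbitsQuotientProd hstab
  have hc : Nat.card S =
      Nat.card (Quotient (MulAction.orbitRel ↥(P : Subgroup G) S)) * Nat.card (P : Subgroup G) := by
    rw [Nat.card_congr e, Nat.card_prod]
  have h3 : Nat.card {R : Sylow p G // (P : Subgroup G) ⊓ (R : Subgroup G) = ⊥} = Nat.card S := rfl
  rw [h3, hc]; exact dvd_mul_left _ _

end Cfsg.Agent.Helper30.SV
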