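import Mathlib
import Cfsg.Agent.S1017
import Cfsg.Agent.Lib.Helper25.N5400Defs
import Cfsg.Agent.Lib.Helper30.SVSylKit2

/-!
# N5400 (helper25 sub-server, S0983 order 5400): piece (FREE) free_orbits (helper30)
-/

set_option autoImplicit false

namespace Cfsg.Agent.Helper30.N5400

open Cfsg MulAction Cfsg.Agent.Helper25.N5400

universe u

section NoSimple

variable {G : Type u} [Group G] [Finite G]

/-- (FREE) [M] `P` acts on `Sylow 5 G` by conjugation, `{R | P ⊓ R = ⊥}` is invariant, the stabilizer of `R` in `P` is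
`P ⊓ N(R) = P ⊓ R = ⊥` (`IsPGroup.inf_normalizer_sylow`), all orbits have 25 elements. -/
theorem free_orbits (P : Sylow 5 G) (hP : Nat.card (P : Subgroup G) = 25) :
    25 ∣ Nat.card {R : Sylow 5 G // (P : Subgroup G) ⊓ (R : Subgroup G) = ⊥} := by
  haveI : Fact (Nat.Prime 5) := ⟨by norm_num⟩
  have h := Cfsg.Agent.Helper30.SV.card_sylow_disjoint_dvd P
  rwa [hP] at h

end NoSimple

end Cfsg.Agent.Helper30.N5400
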