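import Mathlib
import Cfsg.Agent.S1017
import Cfsg.Agent.Lib.Helper17.Simple
import Cfsg.Agent.Lib.Helper17.Sieve
import Cfsg.Agent.Lib.Helper75.FixKill
import Cfsg.Agent.Lib.Helper25.N5400Defs

/-!
# N5400 (helper25 sub-server, S0983 order 5400): piece (N5) n5_data (helper30)
-/

set_option autoImplicit false

namespace Cfsg.Agent.Helper30.N5400

open Cfsg MulAction Cfsg.Agent.Helper25.N5400

universe u

set_option maxRecDepth 100000 in
/-- the only candidate for the number of Sylow `5`-subgroups is `36` -/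
theorem h30_n5_cert_5400 : ∀ d ∈ List.range (216 + 1), d ∣ 216 → d % 5 = 1 →
    ¬ Cfsg.Agent.Helper17.Sieve.Bad (5 ^ 2 * 216) 5 2 216 d → d = 36 := by
  decide +kernel

section Simple

variable {G : Type u} [Group G] [Finite G] [IsSimpleGroup G]

/-- (N5) [M] `n_5 ∣ 216`, `n_5 ≡ 1 mod 5`: `n_5 ∈ {1, 6, 36, 216}`; `1`: simple; `6`: `2 * 5400 ∤ 6!`; `216`: `N(P) = P` abelian, Burnside
(these are exactly the cases `d = 1`, `¬ 2 n ∣ d!`, `k = 2 ∧ d = m` of `Cfsg.Agent.Helper17.Sieve.sylow_kill` - copy from there).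
`|P| = 25` by `sylow_card_eq`, `|N(P)| * n_5 = 5400`. -/
theorem n5_data (hG : Nat.card G = 5400) :
    Nat.card (Sylow 5 G) = 36 ∧ ∀ P : Sylow 5 G, Nat.card (P : Subgroup G) = 25 ∧
      Nat.card (Subgroup.normalizer ((P : Subgroup G) : Set G)) = 150 := by
  haveI : Fact (Nat.Prime 5) := ⟨by norm_num⟩
  have hna : ¬ IsMulCommutative G :=
    Cfsg.Agent.Helper17.not_comm_of_not_prime (by rw [hG]; norm_num)
  have hn : Nat.card G = 5 ^ 2 * 216 := by rw [hG]; norm_num
  have hpm : ¬ 5 ∣ 216 := by norm_num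
  obtain ⟨hdm, hdp⟩ := Cfsg.Agent.Helper17.sylow_count (G := G) hn hpm
  have hnb := Cfsg.Agent.Helper75.FixKill.not_bad hna 5 2 216 two_ne_zero (by norm_num) hn hpm
  have hdle : Nat.card (Sylow 5 G) ≤ 216 := Nat.le_of_dvd (by norm_num) hdm
  have hd : Nat.card (Sylow 5 G) = 36 :=
    h30_n5_cert_5400 _ (List.mem_range.2 (by omega)) hdm hdp hnb
  refine ⟨hd, fun P => ⟨?_, ?_⟩⟩
  · have h0 := Cfsg.Agent.Helper17.sylow_card_eq P hn hpm
    rw [h0]; norm_num
  · have hNd := Cfsg.Agent.Helper17.card_normalizer_mul_sylow_count P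
    rw [hd, hG] at hNd
    omega

end Simple

end Cfsg.Agent.Helper30.N5400
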