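import Mathlib
import Cfsg.Agent.Lib.Helper32.N5Defs

/-!
# N5 server (helper32, S1904), piece (A2) `alpha_two` (helper30)
-/

set_option autoImplicit false

namespace Cfsg.Agent.Helper30.N5

open Cfsg Cfsg.Agent.Helper32.N5
open scoped commutatorElement

universe u

variable {X : Type u} [Group X] [Finite X]

/-- enumeration of a four-group -/
theorem h30_four_group_enum {V : Subgroup X} (hcard : Nat.card V = 4) (hel : ∀ v ∈ V, v ^ 2 = 1)
    {a b : X} (ha : a ∈ V) (hb : b ∈ V) (ha1 : a ≠ 1) (hb1 : b ≠ 1) (hab : a ≠ b) :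
    ∀ v ∈ V, v = 1 ∨ v = a ∨ v = b ∨ v = a * b := by
  classical
  have hab1 : a * b ≠ 1 := by
    intro h
    have ha2 : a * a = 1 := by rw [← sq]; exact hel a ha
    have h1 : b = a⁻¹ := eq_inv_of_mul_eq_one_right h
    have h2 : a⁻¹ = a := inv_eq_of_mul_eq_one_right ha2
    exact hab (by rw [h1, h2])
  have haba : a * b ≠ a := by
    intro h; apply hb1; simpa using h
  have habb : a * b ≠ b := by
    intro h; apply ha1; simpa using h
  let T : Finset X := {1, a, b, a * b}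
  have hT : T.card = 4 := by
    have h1 : b ∉ ({a * b} : Finset X) := by
      simp only [Finset.mem_singleton]; exact fun h => habb h.symm
    have h2 : a ∉ ({b, a * b} : Finset X) := by
      simp only [Finset.mem_insert, Finset.mem_singleton, not_or]
      exact ⟨hab, fun h => haba h.symm⟩
    have h3 : (1 : X) ∉ ({a, b, a * b} : Finset X) := by
      simp only [Finset.mem_insert, Finset.mem_singleton, not_or]
      exact ⟨ha1.symm, hb1.symm, hab1.symm⟩
    show (insert 1 (insert a (insert b ({a * b} : Finset X)))).card = 4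
    rw [Finset.card_insert_of_notMem h3, Finset.card_insert_of_notMem h2,
      Finset.card_insert_of_notMem h1, Finset.card_singleton]
  have hsub : (T : Set X) ⊆ (V : Set X) := by
    intro t ht
    simp only [T, Finset.coe_insert, Finset.coe_singleton, Set.mem_insert_iff,
      Set.mem_singleton_iff] at ht
    rcases ht with rfl | rfl | rfl | rfl
    exacts [V.one_mem, ha, hb, V.mul_mem ha hb]
  have heq : (T : Set X) = (V : Set X) := by
    apply Set.eq_of_subset_of_ncard_le hsub _ (Set.toFinite _)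
    rw [Set.ncard_coe_finset, hT, ← hcard]
    exact (Nat.card_coe_set_eq (V : Set X)).symm.le
  intro v hv
  have hvT : v ∈ (T : Set X) := by rw [heq]; exact hv
  simpa [T] using hvT


/-- (A2) `B` self-centralizing of exponent 4 implies `X^2 ≤ V = Z(X) = X'`. -/
theorem alpha_two (hX : IsPGroup 2 X) (σ : MulAut X) (hσ3 : ∀ x : X, σ (σ (σ x)) = x)
    (hgen : ComGen1 σ) (V : Subgroup X) (hV : VData V σ)
    (B : Subgroup X) (hBn : B.Normal) (hBσ : ∀ b ∈ B, σ b ∈ B) (hBab : Ab B)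
    (hBc : Subgroup.centralizer (B : Set X) = B) (hVB : V ≤ B)
    (hVΩ : ∀ b ∈ B, b ^ 2 = 1 → b ∈ V) (hB4 : ∀ b ∈ B, b ^ 4 = 1) (hne : ∃ x : X, x ∉ B) :
    (∀ x : X, x ^ 2 ∈ V) ∧ Subgroup.center X = V ∧ commutator X = V := by
  classical
  -- basic facts on V
  have hVc : ∀ v ∈ V, ∀ x : X, x * v = v * x := fun v hv x =>
    (Subgroup.mem_center_iff.mp (hV.cen hv) x)
  have hVsq : ∀ v ∈ V, v * v = 1 := fun v hv => by rw [← sq]; exact hV.el v hv
  have hVinv : ∀ v ∈ V, v⁻¹ = v := fun v hv => inv_eq_of_mul_eq_one_right (hVsq v hv)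
  have hσinj : Function.Injective σ := σ.injective
  have hσ1 : ∀ v ∈ V, σ v = v → v = 1 := hV.fpf
  -- squares of B lie in V
  have hB2 : ∀ b ∈ B, b ^ 2 ∈ V := by
    intro b hb
    apply hVΩ _ (B.pow_mem hb 2)
    rw [← pow_mul]; exact hB4 b hb
  -- conjugates
  have hconjB : ∀ x : X, ∀ b ∈ B, x⁻¹ * b * x ∈ B := by
    intro x b hb
    have := hBn.conj_mem b hb x⁻¹
    simpa using this
  -- c x b := b⁻¹ * (x⁻¹ * b * x) ∈ V
  have hcV : ∀ x : X, ∀ b ∈ B, b⁻¹ * (x⁻¹ * b * x) ∈ V := by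
    intro x b hb
    have hb' := hconjB x b hb
    apply hVΩ _ (B.mul_mem (B.inv_mem hb) hb')
    have hcomm : (x⁻¹ * b * x) * b⁻¹ = b⁻¹ * (x⁻¹ * b * x) := hBab _ hb' _ (B.inv_mem hb)
    have hsq : (x⁻¹ * b * x) * (x⁻¹ * b * x) = b * b := by
      have h1 : (x⁻¹ * b * x) * (x⁻¹ * b * x) = x⁻¹ * (b * b * x) := by group
      have h2 : b * b * x = x * (b * b) := by
        have := hVc _ (hB2 b hb) x
        rw [sq] at this
        exact this.symm
      rw [h1, h2]; group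
    rw [sq]
    calc (b⁻¹ * (x⁻¹ * b * x)) * (b⁻¹ * (x⁻¹ * b * x))
        = b⁻¹ * ((x⁻¹ * b * x) * b⁻¹) * (x⁻¹ * b * x) := by group
      _ = b⁻¹ * (b⁻¹ * (x⁻¹ * b * x)) * (x⁻¹ * b * x) := by rw [hcomm]
      _ = b⁻¹ * b⁻¹ * ((x⁻¹ * b * x) * (x⁻¹ * b * x)) := by group
      _ = 1 := by rw [hsq]; group
  -- elements of V: c x v = 1
  have hcV1 : ∀ x : X, ∀ v ∈ V, v⁻¹ * (x⁻¹ * v * x) = 1 := by
    intro x v hv
    have h : x⁻¹ * v * x = v := by
      rw [mul_assoc, ← hVc v hv x]; group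
    rw [h]; group
  -- multiplicativity in b
  have hcmulB : ∀ x : X, ∀ a ∈ B, ∀ b ∈ B,
      (a * b)⁻¹ * (x⁻¹ * (a * b) * x) = (a⁻¹ * (x⁻¹ * a * x)) * (b⁻¹ * (x⁻¹ * b * x)) := by
    intro x a ha b hb
    have hwaV : a⁻¹ * (x⁻¹ * a * x) ∈ V := hcV x a ha
    generalize hwa : a⁻¹ * (x⁻¹ * a * x) = wa at hwaV ⊢
    have h1 : x⁻¹ * (a * b) * x = (x⁻¹ * a * x) * (x⁻¹ * b * x) := by group
    have h2 : x⁻¹ * a * x = a * wa := by rw [← hwa]; group
    rw [h1, h2]
    calc (a * b)⁻¹ * (a * wa * (x⁻¹ * b * x)) = b⁻¹ * wa * (x⁻¹ * b * x) := by group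
      _ = wa * b⁻¹ * (x⁻¹ * b * x) := by rw [hVc wa hwaV b⁻¹]
      _ = wa * (b⁻¹ * (x⁻¹ * b * x)) := by group
  -- multiplicativity in x
  have hcmulX : ∀ x y : X, ∀ b ∈ B,
      b⁻¹ * ((x * y)⁻¹ * b * (x * y)) = (b⁻¹ * (x⁻¹ * b * x)) * (b⁻¹ * (y⁻¹ * b * y)) := by
    intro x y b hb
    have hwV : b⁻¹ * (x⁻¹ * b * x) ∈ V := hcV x b hb
    generalize hw : b⁻¹ * (x⁻¹ * b * x) = w at hwV ⊢
    have h1 : (x * y)⁻¹ * b * (x * y) = y⁻¹ * (x⁻¹ * b * x) * y := by group
    have h2 : x⁻¹ * b * x = b * w := by rw [← hw]; group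
    rw [h1, h2]
    have h3 : w * y = y * w := (hVc w hwV y).symm
    calc b⁻¹ * (y⁻¹ * (b * w) * y) = b⁻¹ * (y⁻¹ * b * (w * y)) := by group
      _ = b⁻¹ * (y⁻¹ * b * (y * w)) := by rw [h3]
      _ = (b⁻¹ * (y⁻¹ * b * y)) * w := by group
      _ = w * (b⁻¹ * (y⁻¹ * b * y)) := hVc w hwV _
  -- elements of B act trivially, and conversely
  have hcB1 : ∀ x ∈ B, ∀ b ∈ B, b⁻¹ * (x⁻¹ * b * x) = 1 := by
    intro x hx b hb
    have hbx : b * x = x * b := hBab b hb x hx
    have h : x⁻¹ * b * x = b := by rw [mul_assoc, hbx]; group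
    rw [h]; group
  have hcB1' : ∀ x : X, (∀ b ∈ B, b⁻¹ * (x⁻¹ * b * x) = 1) → x ∈ B := by
    intro x h
    rw [← hBc, Subgroup.mem_centralizer_iff]
    intro b hb
    have h1 := h b hb
    have h2 : x⁻¹ * b * x = b := by
      have h3 := congrArg (fun t => b * t) h1
      simpa [mul_assoc] using h3
    calc b * x = x * (x⁻¹ * b * x) := by group
      _ = x * b := by rw [h2]
  -- equivariance
  have hcσ : ∀ x b : X, (σ b)⁻¹ * ((σ x)⁻¹ * σ b * σ x) = σ (b⁻¹ * (x⁻¹ * b * x)) := by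
    intro x b; simp [map_mul, map_inv]
  -- squares lie in B
  have hsqB : ∀ x : X, x * x ∈ B := by
    intro x
    apply hcB1'
    intro b hb
    rw [hcmulX x x b hb]
    exact hVsq _ (hcV x b hb)
  -- the quotient is commutative
  have hQsq : ∀ p : X ⧸ B, p * p = 1 := by
    intro p
    induction p using QuotientGroup.induction_on with
    | H x =>
      rw [← QuotientGroup.mk_mul]
      exact (QuotientGroup.eq_one_iff _).mpr (hsqB x)
  have hQcomm : ∀ p q : X ⧸ B, p * q = q * p := by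
    intro p q
    have h1 := hQsq p
    have h2 := hQsq q
    have h3 := hQsq (q * p)
    calc p * q = (q * q) * (p * q) * (p * p) := by rw [h1, h2]; group
      _ = q * ((q * p) * (q * p)) * p := by group
      _ = q * p := by rw [h3]; group
  have hre : ∀ a b c d e f : X ⧸ B, (a * b) * (c * d) * (e * f) = (a * c * e) * (b * d * f) := by
    intro a b c d e f
    have h1 : b * c = c * b := hQcomm b c
    have h2 : (b * d) * e = e * (b * d) := hQcomm _ e
    calc (a * b) * (c * d) * (e * f) = a * (b * c) * d * (e * f) := by group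
      _ = a * (c * b) * d * (e * f) := by rw [h1]
      _ = a * c * ((b * d) * e) * f := by group
      _ = a * c * (e * (b * d)) * f := by rw [h2]
      _ = (a * c * e) * (b * d * f) := by group
  -- the norm lies in B
  have hν : ∀ x : X, x * σ x * σ (σ x) ∈ B := by
    intro x
    have hx : x ∈ Subgroup.closure {g : X | ∃ y : X, g = y⁻¹ * σ y} := by
      have h : Subgroup.closure {g : X | ∃ y : X, g = y⁻¹ * σ y} = ⊤ := hgen
      rw [h]; exact Subgroup.mem_top x
    rw [← QuotientGroup.eq_one_iff (N := B), QuotientGroup.mk_mul, QuotientGroup.mk_mul]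
    refine Subgroup.closure_induction (p := fun g _ => ((g : X) : X ⧸ B) * ((σ g : X) : X ⧸ B)
      * ((σ (σ g) : X) : X ⧸ B) = 1) ?_ ?_ ?_ ?_ hx
    · rintro g ⟨y, rfl⟩
      rw [← QuotientGroup.mk_mul, ← QuotientGroup.mk_mul]
      have h : y⁻¹ * σ y * σ (y⁻¹ * σ y) * σ (σ (y⁻¹ * σ y)) = 1 := by
        simp only [map_mul, map_inv, hσ3]; group
      rw [h]; rfl
    · simp
    · intro a b _ _ ha hb
      simp only [map_mul, QuotientGroup.mk_mul]
      rw [hre, ha, hb, one_mul]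
    · intro a _ ha
      simp only [map_inv, QuotientGroup.mk_inv]
      generalize ((a : X) : X ⧸ B) = a' at ha ⊢
      generalize ((σ a : X) : X ⧸ B) = b' at ha ⊢
      generalize ((σ (σ a) : X) : X ⧸ B) = c' at ha ⊢
      have h1 : c' * b' * a' = 1 := by
        rw [hQcomm (c' * b') a', hQcomm c' b', ← mul_assoc]; exact ha
      calc a'⁻¹ * b'⁻¹ * c'⁻¹ = (c' * b' * a')⁻¹ := by group
        _ = 1 := by rw [h1, inv_one]
  -- fixed points of σ in B are trivial
  have hfixB : ∀ a ∈ B, σ a = a → a = 1 := by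
    intro a ha hfa
    have h2 : a ^ 2 = 1 := by
      apply hσ1 _ (hB2 a ha)
      rw [map_pow, hfa]
    exact hσ1 a (hVΩ a ha h2) hfa
  -- the norm is trivial on B
  have hnB : ∀ b ∈ B, b * σ b * σ (σ b) = 1 := by
    intro b hb
    have hb1 := hBσ b hb
    have hb2 := hBσ _ hb1
    apply hfixB _ (B.mul_mem (B.mul_mem hb hb1) hb2)
    rw [map_mul, map_mul, hσ3]
    have h1 : σ b * σ (σ b) * b = b * (σ b * σ (σ b)) := (hBab b hb _ (B.mul_mem hb1 hb2)).symm
    rw [h1, mul_assoc]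
  -- the relation (★)
  have hstar2 : ∀ x : X, ∀ b ∈ B,
      (b⁻¹ * (x⁻¹ * b * x)) * σ ((σ (σ b))⁻¹ * (x⁻¹ * σ (σ b) * x))
        * σ (σ ((σ b)⁻¹ * (x⁻¹ * σ b * x))) = 1 := by
    intro x b hb
    have h0 := hcB1 _ (hν x) b hb
    rw [hcmulX (x * σ x) (σ (σ x)) b hb, hcmulX x (σ x) b hb] at h0
    -- rewrite c (σ x) b and c (σ σ x) b
    have h1 : b⁻¹ * ((σ x)⁻¹ * b * σ x) = σ ((σ (σ b))⁻¹ * (x⁻¹ * σ (σ b) * x)) := by
      rw [← hcσ x (σ (σ b)), hσ3]
    have h2 : b⁻¹ * ((σ (σ x))⁻¹ * b * σ (σ x)) = σ (σ ((σ b)⁻¹ * (x⁻¹ * σ b * x))) := by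
      rw [← hcσ x (σ b), ← hcσ (σ x) (σ (σ b)), hσ3]
    rw [h1, h2] at h0
    exact h0
  -- (G) `C_B(x) = V` for `x ∉ B`
  have hG : ∀ x : X, x ∉ B → ∀ b ∈ B, b⁻¹ * (x⁻¹ * b * x) = 1 → b ∈ V := by
    intro x hx b hb hcb
    by_contra hbV
    apply hx
    have hb1 := hBσ b hb
    have hb2 := hBσ _ hb1
    have key : (σ b)⁻¹ * (x⁻¹ * σ b * x) = 1 := by
      have hw1V := hcV x _ hb1
      have hw2V := hcV x _ hb2
      have hm := hcmulB x _ (B.mul_mem hb hb1) _ hb2
      rw [hcmulB x b hb _ hb1, hnB b hb, hcb, one_mul] at hm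
      have hm' : (σ b)⁻¹ * (x⁻¹ * σ b * x) * ((σ (σ b))⁻¹ * (x⁻¹ * σ (σ b) * x)) = 1 := by
        rw [← hm]; group
      have hst := hstar2 x b hb
      rw [hcb, one_mul] at hst
      generalize (σ b)⁻¹ * (x⁻¹ * σ b * x) = w1 at hw1V hm' hst ⊢
      generalize (σ (σ b))⁻¹ * (x⁻¹ * σ (σ b) * x) = w2 at hw2V hm' hst
      have hw21 : w2 = w1 := by
        have h : w2 = w1⁻¹ := eq_inv_of_mul_eq_one_right hm'
        rw [h, hVinv w1 hw1V]
      rw [hw21] at hst
      have h1 : σ (w1 * σ w1) = 1 := by rw [map_mul]; exact hst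
      have h2 : w1 * σ w1 = 1 := by
        apply hσinj; rw [h1, map_one]
      have h3 : σ w1 = w1 := by
        have h : σ w1 = w1⁻¹ := eq_inv_of_mul_eq_one_right h2
        rw [h, hVinv w1 hw1V]
      exact hσ1 w1 hw1V h3
    -- now every `a ∈ B` is centralized by `x`
    apply hcB1'
    intro a ha
    have hv : b ^ 2 ∈ V := hB2 b hb
    have hv1 : b ^ 2 ≠ 1 := fun h => hbV (hVΩ b hb h)
    have hσv : σ (b ^ 2) ∈ V := hV.inv _ hv
    have hσv1 : σ (b ^ 2) ≠ 1 := by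
      intro h; apply hv1; apply hσinj; rw [h, map_one]
    have hvne : b ^ 2 ≠ σ (b ^ 2) := fun h => hv1 (hσ1 _ hv h.symm)
    have henum := h30_four_group_enum hV.card hV.el hv hσv hv1 hσv1 hvne (a ^ 2) (hB2 a ha)
    have hex : ∃ e ∈ B, e⁻¹ * (x⁻¹ * e * x) = 1 ∧ e ^ 2 = a ^ 2 := by
      rcases henum with h | h | h | h
      · exact ⟨1, B.one_mem, by group, by rw [h]; simp⟩
      · exact ⟨b, hb, hcb, h.symm⟩
      · refine ⟨σ b, hb1, key, ?_⟩
        rw [h, map_pow]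
      · refine ⟨b * σ b, B.mul_mem hb hb1, ?_, ?_⟩
        · rw [hcmulB x b hb _ hb1, hcb, key, one_mul]
        · rw [h, map_pow]
          have hc : Commute b (σ b) := hBab b hb _ hb1
          exact hc.mul_pow 2
    obtain ⟨e, heB, hce, he2⟩ := hex
    have hdB : a * e⁻¹ ∈ B := B.mul_mem ha (B.inv_mem heB)
    have hd2 : (a * e⁻¹) ^ 2 = 1 := by
      have hc : Commute a e⁻¹ := hBab a ha _ (B.inv_mem heB)
      rw [hc.mul_pow, inv_pow, he2, mul_inv_cancel]
    have hdV : a * e⁻¹ ∈ V := hVΩ _ hdB hd2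
    have hae : a = (a * e⁻¹) * e := by group
    rw [hae, hcmulB x _ hdB e heB, hcV1 x _ hdV, hce, one_mul]
  obtain ⟨x₀, hx₀⟩ := hne
  -- all squares lie in V
  have hsqV : ∀ x : X, x ^ 2 ∈ V := by
    intro x
    by_cases hxB : x ∈ B
    · exact hB2 x hxB
    · have h1 : x ^ 2 ∈ B := by rw [sq]; exact hsqB x
      apply hG x hxB _ h1
      rw [sq]; group
  -- the centre
  have hcen : Subgroup.center X = V := by
    apply le_antisymm
    · intro z hz
      have hzc : ∀ g : X, g * z = z * g := fun g => Subgroup.mem_center_iff.mp hz g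
      have hzB : z ∈ B := by
        rw [← hBc, Subgroup.mem_centralizer_iff]
        intro b _; exact hzc b
      apply hG x₀ hx₀ z hzB
      rw [mul_assoc, ← hzc x₀]; group
    · exact hV.cen
  -- the commutator subgroup lies in V
  have hcomm_le : commutator X ≤ V := by
    rw [commutator_def, Subgroup.commutator_le]
    intro x _ y _
    have hx2 : x * x ∈ V := by rw [← sq]; exact hsqV x
    have hy2 : y * y ∈ V := by rw [← sq]; exact hsqV y
    have hxy2 : (x * y) * (x * y) ∈ V := by rw [← sq]; exact hsqV (x * y)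
    have h : y * (x * x)⁻¹ = (x * x)⁻¹ * y := hVc _ (V.inv_mem hx2) y
    have heq : ⁅x, y⁆ = (x * y) * (x * y) * (x * x)⁻¹ * (y * y)⁻¹ := by
      rw [commutatorElement_def]
      calc x * y * x⁻¹ * y⁻¹ = x * y * x * ((x * x)⁻¹ * y) * (y * y)⁻¹ := by group
        _ = x * y * x * (y * (x * x)⁻¹) * (y * y)⁻¹ := by rw [h]
        _ = (x * y) * (x * y) * (x * x)⁻¹ * (y * y)⁻¹ := by group
    rw [heq]
    exact V.mul_mem (V.mul_mem hxy2 (V.inv_mem hx2)) (V.inv_mem hy2)
  -- equality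
  have hcomm_eq : commutator X = V := by
    apply le_antisymm hcomm_le
    have hx₀V : x₀ ∉ V := fun h => hx₀ (hVB h)
    have hnc : ∃ y : X, ⁅x₀, y⁆ ≠ 1 := by
      by_contra hcon
      push_neg at hcon
      apply hx₀V
      rw [← hcen, Subgroup.mem_center_iff]
      intro g
      have h := hcon g
      rw [commutatorElement_eq_one_iff_commute] at h
      exact h.eq.symm
    obtain ⟨y, hy⟩ := hnc
    have hcC : ⁅x₀, y⁆ ∈ commutator X := by
      rw [commutator_def]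
      exact Subgroup.commutator_mem_commutator (Subgroup.mem_top _) (Subgroup.mem_top _)
    have hσcC : σ ⁅x₀, y⁆ ∈ commutator X := by
      rw [map_commutatorElement, commutator_def]
      exact Subgroup.commutator_mem_commutator (Subgroup.mem_top _) (Subgroup.mem_top _)
    have hcV' : ⁅x₀, y⁆ ∈ V := hcomm_le hcC
    have hσcV : σ ⁅x₀, y⁆ ∈ V := hV.inv _ hcV'
    have hσc1 : σ ⁅x₀, y⁆ ≠ 1 := by
      intro h; apply hy; apply hσinj; rw [h, map_one]
    have hne' : ⁅x₀, y⁆ ≠ σ ⁅x₀, y⁆ := fun h => hy (hσ1 _ hcV' h.symm)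
    intro v hv
    rcases h30_four_group_enum hV.card hV.el hcV' hσcV hy hσc1 hne' v hv with h | h | h | h
    · rw [h]; exact Subgroup.one_mem _
    · rw [h]; exact hcC
    · rw [h]; exact hσcC
    · rw [h]; exact Subgroup.mul_mem _ hcC hσcC
  exact ⟨hsqV, hcen, hcomm_eq⟩

end Cfsg.Agent.Helper30.N5
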