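import Mathlib
import Cfsg.Agent.Lib.Helper87.SVKit
import Cfsg.Agent.Lib.Helper17.SylowLink
import Cfsg.Agent.Lib.Helper17.PrimeSylow
import Cfsg.Agent.Lib.Helper99.O6232CountPQ

/-!
# O175560 (N7980): no simple group of order 7980 = 2^2 * 3 * 5 * 7 * 19 (helper24's lemma server for S4274)

`n_19 = 210` (3780 elements of order 19).  `n_5 = 266`, `|N5| = 30`, `e ∣ 4`, `e ≠ 1` force `|C5| = 15`: 1064 elements of
order 5 and at least `266 * 4 * 2 = 2128` of order 15.  `n_7 = 57` dies by a link (`|C7| = 70`, `5 ∣ |C7|`, but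
`7 ∤ 7980 / 266 = 30`), so `n_7 = 190`: 1140 elements of order 7.  `3780 + 1064 + 2128 + 1140 = 8112 > 7980`.
-/

set_option autoImplicit false

namespace Cfsg.Agent.Helper30.O175560

open Nat MulAction Cfsg.Agent.Helper17 Cfsg.Agent.Helper17.Sieve Cfsg.Agent.Helper75.FixKill
  Cfsg.Agent.Helper87.SV Cfsg.Agent.Helper99.O6232

universe u

set_option maxRecDepth 100000 in
theorem h30_7980_adm19 : ∀ d ∈ List.range (420 + 1), d ∣ 420 → d % 19 = 1 →
    ¬ Bad (19 ^ 1 * 420) 19 1 420 d → d = 210 := by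
  decide +kernel

set_option maxRecDepth 100000 in
theorem h30_7980_adm7 : ∀ d ∈ List.range (1140 + 1), d ∣ 1140 → d % 7 = 1 →
    ¬ Bad (7 ^ 1 * 1140) 7 1 1140 d → d = 57 ∨ d = 190 := by
  decide +kernel

set_option maxRecDepth 100000 in
theorem h30_7980_adm5 : ∀ d ∈ List.range (1596 + 1), d ∣ 1596 → d % 5 = 1 →
    ¬ Bad (5 ^ 1 * 1596) 5 1 1596 d → d = 266 := by
  decide +kernel

/-- no nonabelian simple group of order 7980 -/
theorem h30_no_7980 : NoSimple.{u} 7980 := by
  intro G _ _ _ hna hn0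
  have h19 : Fact (Nat.Prime 19) := ⟨by norm_num⟩
  have h7 : Fact (Nat.Prime 7) := ⟨by norm_num⟩
  have h5 : Fact (Nat.Prime 5) := ⟨by norm_num⟩
  have h3 : Fact (Nat.Prime 3) := ⟨by norm_num⟩
  have hn19 : Nat.card G = 19 ^ 1 * 420 := by rw [hn0]; norm_num
  have hn7 : Nat.card G = 7 ^ 1 * 1140 := by rw [hn0]; norm_num
  have hn5 : Nat.card G = 5 ^ 1 * 1596 := by rw [hn0]; norm_num
  obtain ⟨hP19, hr19, hd19, hm19, hb19, -, he19⟩ :=
    h87_data hna 19 420 (by norm_num) hn19 (by norm_num)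
  obtain ⟨hP7, hr7, hd7, hm7, hb7, -, he7⟩ :=
    h87_data hna 7 1140 (by norm_num) hn7 (by norm_num)
  obtain ⟨hP5, hr5, hd5, hm5, hb5, -, he5⟩ :=
    h87_data hna 5 1596 (by norm_num) hn5 (by norm_num)
  have hc19 : Nat.card (Sylow 19 G) = 210 := h30_7980_adm19 _ hr19 hd19 hm19 hb19
  have hc5 : Nat.card (Sylow 5 G) = 266 := h30_7980_adm5 _ hr5 hd5 hm5 hb5
  obtain ⟨P7⟩ : Nonempty (Sylow 7 G) := inferInstance
  -- `3 ∣ |C(P)|` for every Sylow `5`
  have hC5 : ∀ P : Sylow 5 G, 3 ∣ Nat.card (Subgroup.centralizer ((P : Subgroup G) : Set G)) := by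
    intro P
    obtain ⟨e, hea, heb, hec⟩ := he5 P
    have hele : e ≤ 4 := Nat.le_of_dvd (by norm_num) hea
    rw [hc5] at hec
    generalize Nat.card (Subgroup.centralizer ((P : Subgroup G) : Set G)) = c at hec ⊢
    have hea' : e ∣ 4 := hea
    interval_cases e
    · omega
    · exact absurd rfl heb
    · omega
    · exfalso; revert hea'; norm_num
    · omega
  -- `n_7 = 190`
  have hc7 : Nat.card (Sylow 7 G) = 190 := by
    obtain ⟨e7, he7a, he7b, he7c⟩ := he7 P7
    have he7le : e7 ≤ 6 := Nat.le_of_dvd (by norm_num) he7a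
    rcases h30_7980_adm7 _ hr7 hd7 hm7 hb7 with h | h
    · exfalso
      rw [h] at he7c
      have h5c : 5 ∣ Nat.card (Subgroup.centralizer ((P7 : Subgroup G) : Set G)) := by
        generalize Nat.card (Subgroup.centralizer ((P7 : Subgroup G) : Set G)) = c at he7c
        interval_cases e7 <;> omega
      have := h87_link hP7 hP5 P7 h5c
      rw [hn0, hc5] at this
      omega
    · exact h
  -- counting
  have c19 := card_orderOf_eq_prime (G := G) (p := 19) hP19
  have c7 := card_orderOf_eq_prime (G := G) (p := 7) hP7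
  have c5 := card_orderOf_eq_prime (G := G) (p := 5) hP5
  rw [hc19] at c19
  rw [hc7] at c7
  rw [hc5] at c5
  have c15 := card_orderOf_mul_ge (G := G) (p := 5) (q := 3) (by norm_num) hP5 hC5
  rw [hc5] at c15
  have hsum := sum_card_orderOf_le (G := G) ({5, 7, 19, 5 * 3} : Finset ℕ)
  rw [Finset.sum_insert (by decide), Finset.sum_insert (by decide), Finset.sum_insert (by decide),
    Finset.sum_singleton, c19, c7, c5, hn0] at hsum
  omega

/-- (N7980) `7980 = 2^2 * 3 * 5 * 7 * 19`. -/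
theorem no_7980 {G : Type u} [Group G] [Finite G] [IsSimpleGroup G] : Nat.card G ≠ 7980 := by
  intro h
  have hna : ¬ IsMulCommutative G :=
    Cfsg.Agent.Helper17.not_comm_of_not_prime (by rw [h]; norm_num)
  exact h30_no_7980.{u} G hna h

end Cfsg.Agent.Helper30.O175560
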