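import Mathlib
import Cfsg.Agent.Lib.Helper87.SVKit
import Cfsg.Agent.Lib.Helper17.SylowLink
import Cfsg.Agent.Lib.Helper17.PrimeSylow
import Cfsg.Agent.Lib.Helper99.O6232CountPQ

/-!
# O175560 / O19 (N87780): no simple group of order 87780 = 2^2 * 3 * 5 * 7 * 11 * 19 (S4274)

helper46's counting proof.  `n_19 = 77` dies by the fixed points of an element of order 5 of `C(P19)`.
`n_7 ∈ {22, 57, 190, 330}` die by links to `P19` / `P11`; `n_5 ∈ {66, 231}` by a link to `P19` (it forces `n_19 = 77`),
`n_5 = 266` by a link to a Sylow 11 `Q` with `5 ∣ |C(Q)|` (only `n_11 = 133` allows that, and there the fixed points of an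
element of order 5 give a divisor 23 or 78 of the order); so `n_5 = 2926`, `|C(P5)| = 15`, and then `n_7 = 1254` dies by
the link `5 ∣ |C(P7)| = 35`: `n_7 = 4180`.  Elements of order 7, 5, 15: `25080 + 11704 + 23408 = 60192`; with `n_19 = 1540` add
`27720` of order 19, with `n_19 = 210` add `3780` of order 19 and `37800` of order 209: more than `87780`.
-/

set_option autoImplicit false

namespace Cfsg.Agent.Helper30.O175560

open Nat MulAction Cfsg.Agent.Helper17 Cfsg.Agent.Helper17.Sieve Cfsg.Agent.Helper75.FixKill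
  Cfsg.Agent.Helper87.SV Cfsg.Agent.Helper99.O6232

universe u

set_option maxRecDepth 100000 in
theorem h30_87780_adm19 : ∀ d ∈ List.range (4620 + 1), d ∣ 4620 → d % 19 = 1 →
    ¬ Bad (19 ^ 1 * 4620) 19 1 4620 d → d = 77 ∨ d = 210 ∨ d = 1540 := by
  decide +kernel

set_option maxRecDepth 100000 in
theorem h30_87780_adm11 : ∀ d ∈ List.range (7980 + 1), d ∣ 7980 → d % 11 = 1 →
    ¬ Bad (11 ^ 1 * 7980) 11 1 7980 d → d = 133 ∨ d = 210 ∨ d = 1596 := by
  decide +kernel

set_option maxRecDepth 100000 in
theorem h30_87780_adm7 : ∀ d ∈ List.range (12540 + 1), d ∣ 12540 → d % 7 = 1 →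
    ¬ Bad (7 ^ 1 * 12540) 7 1 12540 d →
    d = 22 ∨ d = 57 ∨ d = 190 ∨ d = 330 ∨ d = 1254 ∨ d = 4180 := by
  decide +kernel

set_option maxRecDepth 100000 in
theorem h30_87780_adm5 : ∀ d ∈ List.range (17556 + 1), d ∣ 17556 → d % 5 = 1 →
    ¬ Bad (5 ^ 1 * 17556) 5 1 17556 d → d = 66 ∨ d = 231 ∨ d = 266 ∨ d = 2926 := by
  decide +kernel

/-- no nonabelian simple group of order 87780 -/
theorem h30_no_87780 : NoSimple.{u} 87780 := by
  intro G _ _ _ hna hn0
  have h19 : Fact (Nat.Prime 19) := ⟨by norm_num⟩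
  have h11 : Fact (Nat.Prime 11) := ⟨by norm_num⟩
  have h7 : Fact (Nat.Prime 7) := ⟨by norm_num⟩
  have h5 : Fact (Nat.Prime 5) := ⟨by norm_num⟩
  have h3 : Fact (Nat.Prime 3) := ⟨by norm_num⟩
  have h2G : 2 < Nat.card G := by rw [hn0]; norm_num
  have hn19 : Nat.card G = 19 ^ 1 * 4620 := by rw [hn0]; norm_num
  have hn11 : Nat.card G = 11 ^ 1 * 7980 := by rw [hn0]; norm_num
  have hn7 : Nat.card G = 7 ^ 1 * 12540 := by rw [hn0]; norm_num
  have hn5 : Nat.card G = 5 ^ 1 * 17556 := by rw [hn0]; norm_num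
  obtain ⟨hP19, hr19, hd19, hm19, hb19, hone19, he19⟩ :=
    h87_data hna 19 4620 (by norm_num) hn19 (by norm_num)
  obtain ⟨hP11, hr11, hd11, hm11, hb11, hone11, he11⟩ :=
    h87_data hna 11 7980 (by norm_num) hn11 (by norm_num)
  obtain ⟨hP7, hr7, hd7, hm7, hb7, -, he7⟩ :=
    h87_data hna 7 12540 (by norm_num) hn7 (by norm_num)
  obtain ⟨hP5, hr5, hd5, hm5, hb5, -, he5⟩ :=
    h87_data hna 5 17556 (by norm_num) hn5 (by norm_num)
  have hA19 := h30_87780_adm19 _ hr19 hd19 hm19 hb19
  have hA11 := h30_87780_adm11 _ hr11 hd11 hm11 hb11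
  have hA7 := h30_87780_adm7 _ hr7 hd7 hm7 hb7
  have hA5 := h30_87780_adm5 _ hr5 hd5 hm5 hb5
  obtain ⟨P19⟩ : Nonempty (Sylow 19 G) := inferInstance
  obtain ⟨P7⟩ : Nonempty (Sylow 7 G) := inferInstance
  obtain ⟨P5⟩ : Nonempty (Sylow 5 G) := inferInstance
  -- Step A: `n_19 ≠ 77`
  have hc19 : Nat.card (Sylow 19 G) = 210 ∨ Nat.card (Sylow 19 G) = 1540 := by
    rcases hA19 with h | h | h
    · exfalso
      obtain ⟨e, hea, heb, hec⟩ := he19 P19
      have hele : e ≤ 18 := Nat.le_of_dvd (by norm_num) hea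
      rw [h] at hec
      have h5c : 5 ∣ Nat.card (Subgroup.centralizer ((P19 : Subgroup G) : Set G)) := by
        generalize Nat.card (Subgroup.centralizer ((P19 : Subgroup G) : Set G)) = c at hec
        have hea' : e ∣ 18 := hea
        interval_cases e <;> omega
      obtain ⟨f, m', -, hf1, hf2, -, hf3, -⟩ :=
        exists_fix (G := G) h2G (p := 19) (r := 5) (by norm_num) P19 (hP19 P19) hone19 h5c
      rw [h] at hf2 hf3
      omega
    · exact Or.inl h
    · exact Or.inr h
  -- the link `19 ∣ |C(P)|`, `P` a Sylow `q`-subgroup, `q ∈ {5, 7}`, is impossible unless `n_19 = 77`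
  have hno19 : ∀ d, d ∣ 87780 / Nat.card (Sylow 19 G) → d ≠ 5 ∧ d ≠ 7 := by
    intro d hd
    rcases hc19 with h | h <;> rw [h] at hd
    · have h1 : d ∣ 418 := by simpa using hd
      constructor <;> rintro rfl <;> omega
    · have h1 : d ∣ 57 := by simpa using hd
      constructor <;> rintro rfl <;> omega
  -- Step C/D: `n_5 = 2926`
  have hc5 : Nat.card (Sylow 5 G) = 2926 := by
    obtain ⟨e5, he5a, he5b, he5c⟩ := he5 P5
    have he5le : e5 ≤ 4 := Nat.le_of_dvd (by norm_num) he5a
    have he5a' : e5 ∣ 4 := he5a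
    rcases hA5 with h | h | h | h
    · -- 66: `|C(P5)| = 665`, `19 ∣ |C(P5)|`
      exfalso
      rw [h] at he5c
      have h19c : 19 ∣ Nat.card (Subgroup.centralizer ((P5 : Subgroup G) : Set G)) := by
        generalize Nat.card (Subgroup.centralizer ((P5 : Subgroup G) : Set G)) = c at he5c
        interval_cases e5 <;> omega
      have := h87_link hP5 hP19 P5 h19c
      rw [hn0] at this
      exact (hno19 5 this).1 rfl
    · -- 231: `|C(P5)| ∈ {190, 95}`, `19 ∣ |C(P5)|`
      exfalso
      rw [h] at he5c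
      have h19c : 19 ∣ Nat.card (Subgroup.centralizer ((P5 : Subgroup G) : Set G)) := by
        generalize Nat.card (Subgroup.centralizer ((P5 : Subgroup G) : Set G)) = c at he5c
        interval_cases e5 <;> omega
      have := h87_link hP5 hP19 P5 h19c
      rw [hn0] at this
      exact (hno19 5 this).1 rfl
    · -- 266: `|C(P5)| = 165`, `11 ∣ |C(P5)|`
      exfalso
      rw [h] at he5c
      have h11c : 11 ∣ Nat.card (Subgroup.centralizer ((P5 : Subgroup G) : Set G)) := by
        generalize Nat.card (Subgroup.centralizer ((P5 : Subgroup G) : Set G)) = c at he5c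
        interval_cases e5 <;> omega
      obtain ⟨Q11, hQ11⟩ := sylow_link hP5 hP11 P5 h11c
      obtain ⟨e11, he11a, he11b, he11c⟩ := he11 Q11
      have he11le : e11 ≤ 10 := Nat.le_of_dvd (by norm_num) he11a
      have he11a' : e11 ∣ 10 := he11a
      rcases hA11 with h' | h' | h'
      · -- `n_11 = 133`: fixed points of an element of order 5 of `C(Q11)`
        obtain ⟨f, m', -, hf1, hf2, -, hf3, hf4⟩ :=
          exists_fix (G := G) h2G (p := 11) (r := 5) (by norm_num) Q11 (hP11 Q11) hone11 hQ11
        rw [h'] at hf2 hf3 hf4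
        rw [hn0] at hf4
        have hf : f = 23 ∨ f = 78 := by omega
        have hbig : 133 - 1 < 11 * (f - 1) := by rcases hf with hf | hf <;> rw [hf] <;> norm_num
        obtain ⟨-, -, hdvd⟩ := hf4 hbig
        have hfd : f ∣ 87780 := (Dvd.intro _ rfl).trans hdvd
        rcases hf with hf | hf <;> rw [hf] at hfd <;> omega
      · rw [h'] at he11c
        generalize Nat.card (Subgroup.centralizer ((Q11 : Subgroup G) : Set G)) = c at he11c hQ11
        interval_cases e11 <;> omega
      · rw [h'] at he11c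
        generalize Nat.card (Subgroup.centralizer ((Q11 : Subgroup G) : Set G)) = c at he11c hQ11
        interval_cases e11 <;> omega
    · exact h
  -- `3 ∣ |C(P)|` for every Sylow `5`
  have hC5 : ∀ P : Sylow 5 G, 3 ∣ Nat.card (Subgroup.centralizer ((P : Subgroup G) : Set G)) := by
    intro P
    obtain ⟨e, hea, heb, hec⟩ := he5 P
    have hele : e ≤ 4 := Nat.le_of_dvd (by norm_num) hea
    have hea' : e ∣ 4 := hea
    rw [hc5] at hec
    generalize Nat.card (Subgroup.centralizer ((P : Subgroup G) : Set G)) = c at hec ⊢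
    interval_cases e <;> omega
  -- Step B/E: `n_7 = 4180`
  have hno11 : ¬ 7 ∣ 87780 / Nat.card (Sylow 11 G) := by
    rcases hA11 with h | h | h <;> rw [h] <;> norm_num
  have hc7 : Nat.card (Sylow 7 G) = 4180 := by
    obtain ⟨e7, he7a, he7b, he7c⟩ := he7 P7
    have he7le : e7 ≤ 6 := Nat.le_of_dvd (by norm_num) he7a
    have he7a' : e7 ∣ 6 := he7a
    rcases hA7 with h | h | h | h | h | h
    · -- 22: `19 ∣ |C(P7)|`
      exfalso
      rw [h] at he7c
      have h19c : 19 ∣ Nat.card (Subgroup.centralizer ((P7 : Subgroup G) : Set G)) := by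
        generalize Nat.card (Subgroup.centralizer ((P7 : Subgroup G) : Set G)) = c at he7c
        interval_cases e7 <;> omega
      have := h87_link hP7 hP19 P7 h19c
      rw [hn0] at this
      exact (hno19 7 this).2 rfl
    · -- 57: `11 ∣ |C(P7)|`
      exfalso
      rw [h] at he7c
      have h11c : 11 ∣ Nat.card (Subgroup.centralizer ((P7 : Subgroup G) : Set G)) := by
        generalize Nat.card (Subgroup.centralizer ((P7 : Subgroup G) : Set G)) = c at he7c
        interval_cases e7 <;> omega
      have := h87_link hP7 hP11 P7 h11c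
      rw [hn0] at this
      exact hno11 this
    · -- 190: `11 ∣ |C(P7)|`
      exfalso
      rw [h] at he7c
      have h11c : 11 ∣ Nat.card (Subgroup.centralizer ((P7 : Subgroup G) : Set G)) := by
        generalize Nat.card (Subgroup.centralizer ((P7 : Subgroup G) : Set G)) = c at he7c
        interval_cases e7 <;> omega
      have := h87_link hP7 hP11 P7 h11c
      rw [hn0] at this
      exact hno11 this
    · -- 330: `19 ∣ |C(P7)|`
      exfalso
      rw [h] at he7c
      have h19c : 19 ∣ Nat.card (Subgroup.centralizer ((P7 : Subgroup G) : Set G)) := by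
        generalize Nat.card (Subgroup.centralizer ((P7 : Subgroup G) : Set G)) = c at he7c
        interval_cases e7 <;> omega
      have := h87_link hP7 hP19 P7 h19c
      rw [hn0] at this
      exact (hno19 7 this).2 rfl
    · -- 1254: `5 ∣ |C(P7)|`, but `7 ∤ 87780 / 2926 = 30`
      exfalso
      rw [h] at he7c
      have h5c : 5 ∣ Nat.card (Subgroup.centralizer ((P7 : Subgroup G) : Set G)) := by
        generalize Nat.card (Subgroup.centralizer ((P7 : Subgroup G) : Set G)) = c at he7c
        interval_cases e7 <;> omega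
      have := h87_link hP7 hP5 P7 h5c
      rw [hn0, hc5] at this
      omega
    · exact h
  -- counting
  have c19 := card_orderOf_eq_prime (G := G) (p := 19) hP19
  have c7 := card_orderOf_eq_prime (G := G) (p := 7) hP7
  have c5 := card_orderOf_eq_prime (G := G) (p := 5) hP5
  rw [hc7] at c7
  rw [hc5] at c5
  have c15 := card_orderOf_mul_ge (G := G) (p := 5) (q := 3) (by norm_num) hP5 hC5
  rw [hc5] at c15
  rcases hc19 with h | h
  · -- `n_19 = 210`: `|C(P19)| = 209`, elements of order `209`
    have hC19 : ∀ P : Sylow 19 G,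
        11 ∣ Nat.card (Subgroup.centralizer ((P : Subgroup G) : Set G)) := by
      intro P
      obtain ⟨e, hea, heb, hec⟩ := he19 P
      have hele : e ≤ 18 := Nat.le_of_dvd (by norm_num) hea
      have hea' : e ∣ 18 := hea
      rw [h] at hec
      generalize Nat.card (Subgroup.centralizer ((P : Subgroup G) : Set G)) = c at hec ⊢
      interval_cases e <;> omega
    have c209 := card_orderOf_mul_ge (G := G) (p := 19) (q := 11) (by norm_num) hP19 hC19
    rw [h] at c19 c209
    have hsum := sum_card_orderOf_le (G := G) ({5, 7, 19, 5 * 3, 19 * 11} : Finset ℕ)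
    rw [Finset.sum_insert (by decide), Finset.sum_insert (by decide), Finset.sum_insert (by decide),
      Finset.sum_insert (by decide), Finset.sum_singleton, c19, c7, c5, hn0] at hsum
    omega
  · -- `n_19 = 1540`
    rw [h] at c19
    have hsum := sum_card_orderOf_le (G := G) ({5, 7, 19, 5 * 3} : Finset ℕ)
    rw [Finset.sum_insert (by decide), Finset.sum_insert (by decide), Finset.sum_insert (by decide),
      Finset.sum_singleton, c19, c7, c5, hn0] at hsum
    omega

/-- (N87780) `87780 = 2^2 * 3 * 5 * 7 * 11 * 19`. -/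
theorem no_87780 {G : Type u} [Group G] [Finite G] [IsSimpleGroup G] : Nat.card G ≠ 87780 := by
  intro h
  have hna : ¬ IsMulCommutative G :=
    Cfsg.Agent.Helper17.not_comm_of_not_prime (by rw [h]; norm_num)
  exact h30_no_87780.{u} G hna h

end Cfsg.Agent.Helper30.O175560
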