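import Mathlib

set_option autoImplicit false

/-! O2520 / S3C sub-server (helper20, S0984), piece (Q7a): `s3c_card_over_class`. Mathlib only.
One injection `G × Option I → A × C(z)`, `(h, o) ↦ (h (o z) h⁻¹, k_g h)` with `k_g` a chosen conjugator
`k_g g⁴ k_g⁻¹ = z`. -/

namespace Cfsg.Agent.Helper30.O2520

universe u

/-- the element `o z` (`none ↦ z`, `some i ↦ i z`) -/
def h30val {G : Type u} [Group G] (z : G) :
    Option {i : G // orderOf i = 2 ∧ i * z = z * i} → G
  | none => z
  | some i => i.1 * z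

theorem h30val_pow_four {G : Type u} [Group G] (z : G) (hz : z ^ 3 = 1)
    (o : Option {i : G // orderOf i = 2 ∧ i * z = z * i}) : (h30val z o) ^ 4 = z := by
  have hz4 : z ^ 4 = z := by rw [pow_succ, hz, one_mul]
  cases o with
  | none => exact hz4
  | some i =>
    show (i.1 * z) ^ 4 = z
    have hc : Commute i.1 z := i.2.2
    have h2 : i.1 ^ 2 = 1 := by
      have := pow_orderOf_eq_one i.1
      rwa [i.2.1] at this
    have h4 : i.1 ^ 4 = 1 := by
      have e : i.1 ^ 4 = (i.1 ^ 2) ^ 2 := by rw [← pow_mul]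
      rw [e, h2, one_pow]
    rw [hc.mul_pow, hz4, h4, one_mul]

theorem h30val_injective {G : Type u} [Group G] (z : G) : Function.Injective (h30val z) := by
  intro o o' h
  cases o with
  | none =>
    cases o' with
    | none => rfl
    | some i =>
      exfalso
      have h' : z = i.1 * z := h
      have h1 : i.1 = 1 := by
        have : (1 : G) * z = i.1 * z := by rw [one_mul]; exact h'
        exact (mul_right_cancel this).symm
      have h2 := i.2.1
      rw [h1, orderOf_one] at h2
      omega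
  | some i =>
    cases o' with
    | none =>
      exfalso
      have h' : i.1 * z = z := h
      have h1 : i.1 = 1 := by
        have : i.1 * z = (1 : G) * z := by rw [one_mul]; exact h'
        exact mul_right_cancel this
      have h2 := i.2.1
      rw [h1, orderOf_one] at h2
      omega
    | some i' =>
      have h' : i.1 * z = i'.1 * z := h
      exact congrArg some (Subtype.ext (mul_right_cancel h'))

/-- (Q7a) -/
theorem s3c_card_over_class {G : Type u} [Group G] [Finite G] (z : G) (hz : z ^ 3 = 1) :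
    Nat.card G * (1 + Nat.card {i : G // orderOf i = 2 ∧ i * z = z * i}) ≤
      Nat.card {g : G // IsConj (g ^ 4) z} * Nat.card (Subgroup.centralizer ({z} : Set G)) := by
  classical
  -- the fourth power of `h (o z) h⁻¹`
  have F2 : ∀ (h : G) (o : Option {i : G // orderOf i = 2 ∧ i * z = z * i}),
      (h * h30val z o * h⁻¹) ^ 4 = h * z * h⁻¹ := by
    intro h o
    rw [conj_pow, h30val_pow_four z hz]
  have F2' : ∀ (h : G) (o : Option {i : G // orderOf i = 2 ∧ i * z = z * i}),
      IsConj ((h * h30val z o * h⁻¹) ^ 4) z := by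
    intro h o
    rw [F2, isConj_iff]
    exact ⟨h⁻¹, by group⟩
  -- chosen conjugators
  have hk : ∀ g : {g : G // IsConj (g ^ 4) z}, ∃ k : G, k * g.1 ^ 4 * k⁻¹ = z :=
    fun g => isConj_iff.mp g.2
  choose k hkspec using hk
  have hmem : ∀ (h : G) (o : Option {i : G // orderOf i = 2 ∧ i * z = z * i}),
      k ⟨h * h30val z o * h⁻¹, F2' h o⟩ * h ∈ Subgroup.centralizer ({z} : Set G) := by
    intro h o
    rw [Subgroup.mem_centralizer_iff]
    intro y hy
    rw [Set.mem_singleton_iff] at hy
    subst hy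
    have h1 := hkspec ⟨h * h30val y o * h⁻¹, F2' h o⟩
    simp only [F2] at h1
    -- h1 : k * (h * y * h⁻¹) * k⁻¹ = y
    set kk := k ⟨h * h30val y o * h⁻¹, F2' h o⟩ with hkk
    calc y * (kk * h) = (kk * (h * y * h⁻¹) * kk⁻¹) * (kk * h) := by rw [h1]
      _ = kk * h * y := by group
  let Ψ : G × Option {i : G // orderOf i = 2 ∧ i * z = z * i} →
      {g : G // IsConj (g ^ 4) z} × ↥(Subgroup.centralizer ({z} : Set G)) :=
    fun p => (⟨p.1 * h30val z p.2 * p.1⁻¹, F2' p.1 p.2⟩,
      ⟨k ⟨p.1 * h30val z p.2 * p.1⁻¹, F2' p.1 p.2⟩ * p.1, hmem p.1 p.2⟩)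
  have hΨ : Function.Injective Ψ := by
    rintro ⟨h, o⟩ ⟨h', o'⟩ hp
    have h1 : (Ψ (h, o)).1 = (Ψ (h', o')).1 := congrArg Prod.fst hp
    have h2 : (Ψ (h, o)).2 = (Ψ (h', o')).2 := congrArg Prod.snd hp
    have h1' : (⟨h * h30val z o * h⁻¹, F2' h o⟩ : {g : G // IsConj (g ^ 4) z})
        = ⟨h' * h30val z o' * h'⁻¹, F2' h' o'⟩ := h1
    have h2' : k ⟨h * h30val z o * h⁻¹, F2' h o⟩ * h = k ⟨h' * h30val z o' * h'⁻¹, F2' h' o'⟩ * h' :=
      congrArg Subtype.val h2
    rw [h1'] at h2'
    have hh : h = h' := mul_left_cancel h2'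
    subst hh
    have h3 : h * h30val z o * h⁻¹ = h * h30val z o' * h⁻¹ := congrArg Subtype.val h1'
    have h4 : h30val z o = h30val z o' := mul_left_cancel (mul_right_cancel h3)
    rw [h30val_injective z h4]
  have hle := Nat.card_le_card_of_injective Ψ hΨ
  rw [Nat.card_prod, Nat.card_prod, Finite.card_option] at hle
  rw [add_comm 1]
  exact hle

end Cfsg.Agent.Helper30.O2520
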