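import Mathlib
import Cfsg.Agent.S1017

/-!
# Generic Sylow-intersection kit for the `p^2` exercise orders of S0983 (helper30)

`F` a `p`-subgroup lying in abelian Sylow `p`-subgroups, `M = C(F)`: the Sylow `p`-subgroups of `G`
inside `M` are those containing `F`, their number is `1` mod `p` and `|M| = number * |N(P) ∩ M|`.
-/

set_option autoImplicit false

namespace Cfsg.Agent.Helper30.SV

open MulAction Subgroup

open scoped Pointwise

variable {G : Type*} [Group G] [Finite G] {p : ℕ} [Fact p.Prime]

/-- (K1) the number of Sylow `p`-subgroups of `G` inside a subgroup `H` containing one of them is `1` mod `p`. -/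
theorem card_sylow_le_modEq_one (H : Subgroup G) (P : Sylow p G) (hP : (P : Subgroup G) ≤ H) :
    Nat.card {Q : Sylow p G // (Q : Subgroup G) ≤ H} % p = 1 := by
  have hbij : Function.Bijective
      (fun Q : {Q : Sylow p G // (Q : Subgroup G) ≤ H} => (Q.1.subtype Q.2 : Sylow p H)) := by
    constructor
    · intro Q1 Q2 h
      exact Subtype.ext (Sylow.subtype_injective h)
    · intro Q'
      obtain ⟨h, hh⟩ := MulAction.exists_smul_eq ↥H (P.subtype hP) Q'
      refine ⟨⟨h • P, Sylow.smul_le hP h⟩, ?_⟩
      show (h • P).subtype (Sylow.smul_le hP h) = Q'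
      rw [← hh, Sylow.smul_subtype]
  rw [Nat.card_congr (Equiv.ofBijective _ hbij)]
  exact Cfsg.Agent.S1017.card_sylow_mod

/-- (K2) an abelian Sylow `p`-subgroup centralizes the `p`-subgroup `F` iff it contains it. -/
theorem sylow_le_centralizer_iff (F : Subgroup G) (hF : IsPGroup p F) (Q : Sylow p G)
    (hQ : ∀ x ∈ (Q : Subgroup G), ∀ y ∈ (Q : Subgroup G), x * y = y * x) :
    (Q : Subgroup G) ≤ Subgroup.centralizer (F : Set G) ↔ F ≤ (Q : Subgroup G) := by
  constructor
  · intro h
    have hFN : F ≤ Subgroup.normalizer ((Q : Subgroup G) : Set G) := by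
      intro f hf
      rw [Subgroup.mem_normalizer_iff]
      intro q
      have key : ∀ q ∈ (Q : Subgroup G), f * q * f⁻¹ = q := by
        intro q hq
        have h1 := Subgroup.mem_centralizer_iff.mp (h hq) f hf
        rw [h1]; group
      constructor
      · intro hq
        rw [key q hq]; exact hq
      · intro hq
        have h2 := key _ hq
        have h3 : q = f⁻¹ * (f * q * f⁻¹) * f := by group
        have h4 : f⁻¹ * (f * q * f⁻¹) * f = f * q * f⁻¹ := by
          have h5 := Subgroup.mem_centralizer_iff.mp (h hq) f hf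
          calc f⁻¹ * (f * q * f⁻¹) * f = f⁻¹ * ((f * q * f⁻¹) * f) := by group
            _ = f⁻¹ * (f * (f * q * f⁻¹)) := by rw [h5]
            _ = f * q * f⁻¹ := by group
        rw [h3, h4]; exact hq
    have h1 := hF.inf_normalizer_sylow Q
    have h2 : F ≤ F ⊓ (Q : Subgroup G) := by
      rw [← h1]; exact le_inf le_rfl hFN
    exact h2.trans inf_le_right
  · intro h q hq
    rw [Subgroup.mem_centralizer_iff]
    intro f hf
    exact hQ f (h hf) q hq

/-- (K3) `|C(F)| = #{Q ⊇ F} * |N(P) ∩ C(F)|` and `#{Q ⊇ F} ≡ 1` mod `p`, for a `p`-subgroup `F` of an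
abelian Sylow `p`-subgroup `P` (all Sylow `p`-subgroups abelian). -/
theorem card_centralizer_eq_mul (F : Subgroup G) (hF : IsPGroup p F)
    (hab : ∀ Q : Sylow p G, ∀ x ∈ (Q : Subgroup G), ∀ y ∈ (Q : Subgroup G), x * y = y * x)
    (P : Sylow p G) (hFP : F ≤ (P : Subgroup G)) :
    Nat.card (Subgroup.centralizer (F : Set G)) =
      Nat.card {Q : Sylow p G // F ≤ (Q : Subgroup G)} *
        Nat.card ↥(Subgroup.normalizer ((P : Subgroup G) : Set G) ⊓ Subgroup.centralizer (F : Set G)) ∧
    Nat.card {Q : Sylow p G // F ≤ (Q : Subgroup G)} % p = 1 := by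
  have hP : (P : Subgroup G) ≤ Subgroup.centralizer (F : Set G) :=
    (sylow_le_centralizer_iff F hF P (hab P)).2 hFP
  have he : {Q : Sylow p G // (Q : Subgroup G) ≤ Subgroup.centralizer (F : Set G)} ≃
      {Q : Sylow p G // F ≤ (Q : Subgroup G)} :=
    Equiv.subtypeEquivRight fun Q => sylow_le_centralizer_iff F hF Q (hab Q)
  refine ⟨?_, ?_⟩
  · rw [Cfsg.Agent.S1017.card_eq_card_mul _ P hP, Nat.card_congr he]
  · rw [← Nat.card_congr he]
    exact card_sylow_le_modEq_one _ P hP

end Cfsg.Agent.Helper30.SV
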