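import Mathlib
import Cfsg.Agent.Lib.Helper87.SVKit
import Cfsg.Agent.Lib.Helper30.SVSylKit

/-!
# O459648 (helper53 server, S1022): piece (B4c) endgame_final (helper30)
-/

set_option autoImplicit false

namespace Cfsg.Agent.Helper30.O459648

set_option maxRecDepth 100000 in
theorem h30_dvd_3024 : ∀ n ∈ List.range 3025, n ∣ 3024 → n % 19 = 1 → n = 1 ∨ n = 1008 := by
  decide +kernel

/-- (B4c) `L = C_G(z)` contains `P`, `S0`, `g`; `X = L ⊓ N = N_L(P)` has order divisible by 152
and dividing 456; `n = |L : X|` is the number of Sylow 19-subgroups of `L`: `n % 19 = 1` and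
`n ∣ 459648 / |X|`, so `n ∈ {1, 1008}`; `n = 1`: `L ≤ N`, but `g ∈ L`, `g ∉ N`; `n = 1008`:
`L.index ≤ 3`: `L = ⊤` (then `z` central, `z = 1`) or index 3 (then `|G| ∣ 3!`) -/
theorem endgame_final {G : Type*} [Group G] [Finite G] [IsSimpleGroup G]
    (hG : Nat.card G = 459648) (P : Sylow 19 G) (hP : Nat.card (P : Subgroup G) = 19)
    (hN : Nat.card (Subgroup.normalizer ((P : Subgroup G) : Set G)) = 456)
    (S0 : Subgroup G) (hS0 : Nat.card S0 = 8)
    (hSN : S0 ≤ Subgroup.normalizer ((P : Subgroup G) : Set G)) (z g : G) (hz1 : z ≠ 1)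
    (hzP : z ∈ Subgroup.centralizer ((P : Subgroup G) : Set G))
    (hzS : ∀ s ∈ S0, s * z = z * s) (hgz : g * z = z * g)
    (hgN : g ∉ Subgroup.normalizer ((P : Subgroup G) : Set G)) : False := by
  haveI : Fact (Nat.Prime 19) := ⟨by norm_num⟩
  have hna : ¬ IsMulCommutative G :=
    Cfsg.Agent.Helper17.not_comm_of_not_prime (by rw [hG]; norm_num)
  set L : Subgroup G := Subgroup.centralizer ({z} : Set G) with hL
  have hPL : (P : Subgroup G) ≤ L := (Cfsg.Agent.S1017.le_centralizer_singleton_iff _ z).2 hzP
  have hmemL : ∀ x : G, x * z = z * x → x ∈ L := by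
    intro x hx
    rw [hL, Subgroup.mem_centralizer_iff]
    intro y hy
    rw [Set.mem_singleton_iff] at hy
    rw [hy]; exact hx.symm
  have hS0L : S0 ≤ L := fun s hs => hmemL s (hzS s hs)
  have hgL : g ∈ L := hmemL g hgz
  set X : Subgroup G := Subgroup.normalizer ((P : Subgroup G) : Set G) ⊓ L with hX
  have hmul := Cfsg.Agent.S1017.card_eq_card_mul L P hPL
  have hmod := Cfsg.Agent.Helper30.SV.card_sylow_le_modEq_one L P hPL
  set n := Nat.card {Q : Sylow 19 G // (Q : Subgroup G) ≤ L} with hn
  have hLdvd : Nat.card L ∣ 459648 := by rw [← hG]; exact Subgroup.card_subgroup_dvd_card L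
  -- the order of `X`
  have h19X : 19 ∣ Nat.card X := by
    rw [← hP]; exact Subgroup.card_dvd_of_le (le_inf Subgroup.le_normalizer hPL)
  have h8X : 8 ∣ Nat.card X := by
    rw [← hS0]; exact Subgroup.card_dvd_of_le (le_inf hSN hS0L)
  have h152 : 152 ∣ Nat.card X := by
    have hcop : Nat.Coprime 19 8 := by norm_num
    exact hcop.mul_dvd_of_dvd_of_dvd h19X h8X
  have h456 : Nat.card X ∣ 456 := by
    rw [← hN]; exact Subgroup.card_dvd_of_le inf_le_left
  have hXc : Nat.card X = 152 ∨ Nat.card X = 456 := by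
    obtain ⟨k, hk⟩ := h152
    have hk3 : k ∣ 3 := by
      have : 152 * k ∣ 152 * 3 := by rw [← hk]; exact h456
      exact Nat.dvd_of_mul_dvd_mul_left (by norm_num) this
    rcases (Nat.dvd_prime Nat.prime_three).1 hk3 with h | h
    · left; rw [hk, h]
    · right; rw [hk, h]
  -- `n ∈ {1, 1008}`
  have hn3024 : n ∣ 3024 := by
    rw [hmul] at hLdvd
    rcases hXc with h | h <;> rw [h] at hLdvd
    · have : n * 152 ∣ 3024 * 152 := by simpa using hLdvd
      exact Nat.dvd_of_mul_dvd_mul_right (by norm_num) this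
    · have h1 : n * 456 ∣ 1008 * 456 := by simpa using hLdvd
      have h2 : n ∣ 1008 := Nat.dvd_of_mul_dvd_mul_right (by norm_num) h1
      exact h2.trans (by norm_num)
  have hnle : n ≤ 3024 := Nat.le_of_dvd (by norm_num) hn3024
  have hn1 : n = 1 ∨ n = 1008 := h30_dvd_3024 n (List.mem_range.2 (by omega)) hn3024 hmod
  rcases hn1 with h | h
  · -- `L = X ≤ N`
    rw [h, one_mul] at hmul
    have hXL : X = L := Subgroup.eq_of_le_of_card_ge inf_le_right (by rw [hmul])
    have : g ∈ X := by rw [hXL]; exact hgL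
    exact hgN (Subgroup.mem_inf.mp this).1
  · rw [h] at hmul
    rcases hXc with h' | h'
    · -- index 3
      rw [h'] at hmul
      have hidx : L.index = 3 := by
        have := L.card_mul_index
        rw [hmul, hG] at this
        omega
      have hLtop : L ≠ ⊤ := by
        intro ht
        rw [ht, Subgroup.index_top] at hidx
        omega
      have := Cfsg.Agent.Helper17.two_mul_card_dvd_factorial hna L hLtop
      rw [hidx, hG] at this
      revert this
      decide
    · -- `L = ⊤`, `z` central
      rw [h'] at hmul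
      have hLtop : L = ⊤ := by
        apply Subgroup.eq_top_of_card_eq
        rw [hmul, hG]
      have hzc : z ∈ Subgroup.center G := by
        rw [Subgroup.mem_center_iff]
        intro x
        have hx : x ∈ L := by rw [hLtop]; exact Subgroup.mem_top x
        rw [hL, Subgroup.mem_centralizer_iff] at hx
        exact (hx z rfl).symm
      rcases (inferInstance : (Subgroup.center G).Normal).eq_bot_or_eq_top with hc | hc
      · rw [hc, Subgroup.mem_bot] at hzc
        exact hz1 hzc
      · apply hna
        refine ⟨⟨fun a b => ?_⟩⟩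
        have ha : a ∈ Subgroup.center G := by rw [hc]; exact Subgroup.mem_top a
        exact (Subgroup.mem_center_iff.mp ha b).symm

end Cfsg.Agent.Helper30.O459648
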