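import Mathlib
import Cfsg.Prelude.Def_Local
import Cfsg.Prelude.Def_CaseTheorems
import Cfsg.Agent.Lib.Helper30.CentPPrimeCore
import Cfsg.Agent.Lib.Helper30.CharP
import Cfsg.Agent.Lib.Helper29.Fitting

set_option autoImplicit false

/-!
# A component moved by `t` and by `Y ≤ O(C_H(t))` (helper30)

Main result `exists_component_of_oddCore_centralizer` (= S1328).
-/

namespace Cfsg.Agent.Helper30

open Subgroup Cfsg

variable {G : Type*} [Group G]

/-- Squares of elements of `H ⊔ ⟨t⟩` lie in `H` when `t` normalizes `H` and `t * t = 1`. -/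
theorem mul_self_mem_of_mem_sup_zpowers (H : Subgroup G) (t : G)
    (htH : t ∈ normalizer (H : Set G)) (ht2 : t * t = 1) {g : G} (hg : g ∈ H ⊔ zpowers t) :
    g * g ∈ H := by
  have hz : zpowers t ≤ normalizer (H : Set G) := Subgroup.zpowers_le.mpr htH
  have hg' : g ∈ ((H ⊔ zpowers t : Subgroup G) : Set G) := hg
  rw [Subgroup.coe_mul_of_right_le_normalizer_left H (zpowers t) hz] at hg'
  obtain ⟨h, hh, s, hs, rfl⟩ := Set.mem_mul.mp hg'
  have hss : s * s = 1 := by
    obtain ⟨k, rfl⟩ := Subgroup.mem_zpowers_iff.mp hs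
    rw [← zpow_add, ← two_mul, zpow_mul, zpow_two, ht2, one_zpow]
  have hsn : s * h * s⁻¹ ∈ H := (Subgroup.mem_normalizer_iff.mp (hz hs) h).mp hh
  have e : h * s * (h * s) = h * (s * h * s⁻¹) * (s * s) := by group
  rw [e, hss, mul_one]; exact H.mul_mem hh hsn

/-- An element of odd order whose square lies in `K` lies in `K`. -/
theorem mem_of_mul_self_mem_of_odd (K : Subgroup G) {g : G} (hodd : (orderOf g).Coprime 2)
    (h : g * g ∈ K) : g ∈ K := by
  have h2 : g ^ 2 ∈ K := by rwa [pow_two]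
  obtain ⟨m, hm⟩ := exists_pow_eq_self_of_coprime (n := 2) hodd.symm
  rw [← hm]; exact K.pow_mem h2 m

/-- If every `K`-conjugate of an element of `A` lies in `A`, then `K ≤ N(A)`. -/
theorem le_normalizer_of_conj_mem (K A : Subgroup G)
    (h : ∀ k ∈ K, ∀ a ∈ A, k * a * k⁻¹ ∈ A) : K ≤ normalizer (A : Set G) := by
  intro k hk
  rw [Subgroup.mem_normalizer_iff]
  intro a
  constructor
  · exact h k hk a
  · intro ha
    have h1 := h k⁻¹ (K.inv_mem hk) _ ha
    have e : k⁻¹ * (k * a * k⁻¹) * k⁻¹⁻¹ = a := by group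
    rwa [e] at h1

/-- The `p`-core of a subgroup `H` is normalized by `N_G(H)`. -/
theorem conj_mem_pCore_map (p : ℕ) (H : Subgroup G) (k : G)
    (hk : k ∈ normalizer (H : Set G)) (x : G)
    (hx : x ∈ (pCore p ↥H).map H.subtype) :
    k * x * k⁻¹ ∈ (pCore p ↥H).map H.subtype := by
  obtain ⟨y, hy, rfl⟩ := hx
  refine ⟨conjAut H k hk y, ?_, rfl⟩
  have h1 := pCore_map_mulEquiv p (conjAut H k hk)
  rw [← h1]
  exact ⟨y, hy, rfl⟩

/-- A component of the normal subgroup `H` of `G₁`, viewed inside `G₁`. -/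
theorem isComponent_subgroupOf_of_normal {G₁ H : Subgroup G} (hHG₁ : H ≤ G₁)
    (hn : (H.subgroupOf G₁).Normal) (E : Subgroup ↥H) (hE : IsComponent E) :
    IsComponent ((E.map H.subtype).subgroupOf G₁) := by
  have h1 : IsComponent (E.map ((Subgroup.subgroupOfEquivOfLe hHG₁).symm : ↥H →* ↥(H.subgroupOf G₁))) :=
    Helper22.IsComponent.map_injective hE _ (Subgroup.subgroupOfEquivOfLe hHG₁).symm.bijective
  have h2 := Helper22.IsComponent.of_subnormal hn.isSubnormal h1
  have e : (E.map ((Subgroup.subgroupOfEquivOfLe hHG₁).symm : ↥H →* ↥(H.subgroupOf G₁))).map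
      (H.subgroupOf G₁).subtype = (E.map H.subtype).subgroupOf G₁ := by
    ext x
    constructor
    · rintro ⟨y, ⟨e, he, rfl⟩, rfl⟩
      exact ⟨e, he, rfl⟩
    · intro hx
      obtain ⟨e, he, hex⟩ := Subgroup.mem_subgroupOf.mp hx
      exact ⟨(Subgroup.subgroupOfEquivOfLe hHG₁).symm e, ⟨e, he, rfl⟩, Subtype.ext hex⟩
  rwa [e] at h2

/-- Auxiliary form of S1328 with the ambient group `G₁ = H⟨t⟩` abstracted. -/
theorem exists_component_of_oddCore_centralizer_aux [Finite G] (H G₁ : Subgroup G)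
    (hHG₁ : H ≤ G₁) (hG₁N : G₁ ≤ normalizer (H : Set G)) (hsq : ∀ g ∈ G₁, g * g ∈ H)
    (hO : oddCore ↥H = ⊥) (t : G) (ht : orderOf t = 2) (htG₁ : t ∈ G₁)
    (Y : Subgroup G) (hY1 : Y ≠ ⊥)
    (hY : Y ≤ (oddCore ↥(H ⊓ centralizer ({t} : Set G))).map
      (H ⊓ centralizer ({t} : Set G)).subtype) :
    ∃ E : Subgroup ↥H, IsComponent E ∧
      (E.map H.subtype).map (MulAut.conj t).toMonoidHom = E.map H.subtype ∧
      Y ≤ normalizer ((E.map H.subtype : Subgroup G) : Set G) ∧
      ¬ (t ∈ centralizer ((E.map H.subtype : Subgroup G) : Set G)) ∧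
      ¬ (Y ≤ centralizer ((E.map H.subtype : Subgroup G) : Set G)) := by
  have h2prime : Fact (2 : ℕ).Prime := ⟨Nat.prime_two⟩
  have htH : t ∈ normalizer (H : Set G) := hG₁N htG₁
  have hH₁n : (H.subgroupOf G₁).Normal :=
    (Subgroup.normal_subgroupOf_iff_le_normalizer hHG₁).mpr hG₁N
  have hWC : (oddCore ↥(H ⊓ centralizer ({t} : Set G))).map
      (H ⊓ centralizer ({t} : Set G)).subtype ≤ H ⊓ centralizer ({t} : Set G) :=
    Subgroup.map_subtype_le _
  have hWco : (Nat.card ((oddCore ↥(H ⊓ centralizer ({t} : Set G))).map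
      (H ⊓ centralizer ({t} : Set G)).subtype)).Coprime 2 := by
    have h1 : Nat.card ((oddCore ↥(H ⊓ centralizer ({t} : Set G))).map
        (H ⊓ centralizer ({t} : Set G)).subtype) =
        Nat.card (oddCore ↥(H ⊓ centralizer ({t} : Set G))) :=
      (Nat.card_congr ((oddCore ↥(H ⊓ centralizer ({t} : Set G))).equivMapOfInjective _
        (Subgroup.subtype_injective _)).toEquiv).symm
    rw [h1]; exact pPrimeCore_coprime 2
  have hWH : (oddCore ↥(H ⊓ centralizer ({t} : Set G))).map
      (H ⊓ centralizer ({t} : Set G)).subtype ≤ H := hWC.trans inf_le_left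
  have hWG₁ : (oddCore ↥(H ⊓ centralizer ({t} : Set G))).map
      (H ⊓ centralizer ({t} : Set G)).subtype ≤ G₁ := hWH.trans hHG₁
  have hYH : Y ≤ H := hY.trans hWH
  have hYco : (Nat.card Y).Coprime 2 :=
    Nat.Coprime.coprime_dvd_left (Subgroup.card_dvd_of_le hY) hWco
  -- Step A: `O(G₁) = 1`
  have hOX : pPrimeCore 2 ↥G₁ = ⊥ := by
    have hOco := pPrimeCore_coprime (G := ↥G₁) 2
    have hOG₁ : (pPrimeCore 2 ↥G₁).map G₁.subtype ≤ G₁ := Subgroup.map_subtype_le _
    have hOH : (pPrimeCore 2 ↥G₁).map G₁.subtype ≤ H := by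
      rintro _ ⟨o, ho, rfl⟩
      apply mem_of_mul_self_mem_of_odd H _ (hsq _ o.2)
      have h1 : orderOf (⟨o, ho⟩ : ↥(pPrimeCore 2 ↥G₁)) ∣ Nat.card (pPrimeCore 2 ↥G₁) :=
        orderOf_dvd_natCard _
      rw [Subgroup.orderOf_mk, ← Subgroup.orderOf_coe] at h1
      exact Nat.Coprime.coprime_dvd_left h1 hOco
    have hOn : G₁ ≤ normalizer (((pPrimeCore 2 ↥G₁).map G₁.subtype : Subgroup G) : Set G) := by
      rw [← Subgroup.normal_subgroupOf_iff_le_normalizer hOG₁]
      have e : ((pPrimeCore 2 ↥G₁).map G₁.subtype).subgroupOf G₁ = pPrimeCore 2 ↥G₁ :=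
        Subgroup.comap_map_eq_self_of_injective G₁.subtype_injective _
      rw [e]; infer_instance
    have hn : (((pPrimeCore 2 ↥G₁).map G₁.subtype).subgroupOf H).Normal :=
      (Subgroup.normal_subgroupOf_iff_le_normalizer hOH).mpr (hHG₁.trans hOn)
    have hco : (Nat.card (((pPrimeCore 2 ↥G₁).map G₁.subtype).subgroupOf H)).Coprime 2 := by
      have h1 : Nat.card (((pPrimeCore 2 ↥G₁).map G₁.subtype).subgroupOf H) =
          Nat.card ((pPrimeCore 2 ↥G₁).map G₁.subtype) :=
        Nat.card_congr (Subgroup.subgroupOfEquivOfLe hOH).toEquiv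
      have h2 : Nat.card ((pPrimeCore 2 ↥G₁).map G₁.subtype) = Nat.card (pPrimeCore 2 ↥G₁) :=
        (Nat.card_congr ((pPrimeCore 2 ↥G₁).equivMapOfInjective _
          (Subgroup.subtype_injective _)).toEquiv).symm
      rw [h1, h2]; exact hOco
    have hle := le_pPrimeCore hn hco
    have hO' : pPrimeCore 2 ↥H = ⊥ := hO
    rw [hO'] at hle
    rw [eq_bot_iff]
    intro o ho
    have h1 : (⟨(o : G), hOH ⟨o, ho, rfl⟩⟩ : ↥H) ∈
        ((pPrimeCore 2 ↥G₁).map G₁.subtype).subgroupOf H :=
      Subgroup.mem_subgroupOf.mpr ⟨o, ho, rfl⟩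
    have h2 := Subgroup.mem_bot.mp (hle h1)
    rw [Subgroup.mem_bot]
    have h3 : (o : G) = 1 := congrArg Subtype.val h2
    exact Subtype.ext h3
  -- Step B: `W ∩ G₁ ≤ O(C_{G₁}(t))`
  have hB : ∀ w ∈ (oddCore ↥(H ⊓ centralizer ({t} : Set G))).map
      (H ⊓ centralizer ({t} : Set G)).subtype, ∀ hw : w ∈ G₁,
      (⟨w, hw⟩ : ↥G₁) ∈ centralizerPPrimeCore 2 (⟨t, htG₁⟩ : ↥G₁) := by
    have hW₁C : ((oddCore ↥(H ⊓ centralizer ({t} : Set G))).map
        (H ⊓ centralizer ({t} : Set G)).subtype).subgroupOf G₁ ≤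
        centralizer ({(⟨t, htG₁⟩ : ↥G₁)} : Set ↥G₁) := by
      intro w hw
      rw [Subgroup.mem_centralizer_iff]
      intro s hs
      rw [Set.mem_singleton_iff] at hs
      rw [hs]
      have h1 : (w : G) ∈ centralizer ({t} : Set G) :=
        (Subgroup.mem_inf.mp (hWC (Subgroup.mem_subgroupOf.mp hw))).2
      exact Subtype.ext ((Subgroup.mem_centralizer_iff.mp h1) t rfl)
    have hCN : centralizer ({(⟨t, htG₁⟩ : ↥G₁)} : Set ↥G₁) ≤
        normalizer ((((oddCore ↥(H ⊓ centralizer ({t} : Set G))).map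
        (H ⊓ centralizer ({t} : Set G)).subtype).subgroupOf G₁ : Subgroup ↥G₁) : Set ↥G₁) := by
      apply le_normalizer_of_conj_mem
      intro c hc w hw
      rw [Subgroup.mem_subgroupOf]
      have hc1 : (c : G) ∈ normalizer (H : Set G) := hG₁N c.2
      have hc2 : (c : G) ∈ centralizer ({t} : Set G) := by
        rw [Subgroup.mem_centralizer_iff]
        intro s hs
        rw [Set.mem_singleton_iff] at hs
        rw [hs]
        exact congrArg Subtype.val ((Subgroup.mem_centralizer_iff.mp hc) ⟨t, htG₁⟩ rfl)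
      have hc3 : (c : G) ∈ normalizer ((H ⊓ centralizer ({t} : Set G) : Subgroup G) : Set G) :=
        Helper22.normalizer_inf_le H (centralizer ({t} : Set G))
          (Subgroup.mem_inf.mpr ⟨hc1, Subgroup.le_normalizer hc2⟩)
      exact conj_mem_pPrimeCore_map 2 _ (c : G) hc3 _ (Subgroup.mem_subgroupOf.mp hw)
    have hn : ((((oddCore ↥(H ⊓ centralizer ({t} : Set G))).map
        (H ⊓ centralizer ({t} : Set G)).subtype).subgroupOf G₁).subgroupOf
        (centralizer ({(⟨t, htG₁⟩ : ↥G₁)} : Set ↥G₁))).Normal :=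
      (Subgroup.normal_subgroupOf_iff_le_normalizer hW₁C).mpr hCN
    have hco : (Nat.card ((((oddCore ↥(H ⊓ centralizer ({t} : Set G))).map
        (H ⊓ centralizer ({t} : Set G)).subtype).subgroupOf G₁).subgroupOf
        (centralizer ({(⟨t, htG₁⟩ : ↥G₁)} : Set ↥G₁)))).Coprime 2 := by
      have h1 := Nat.card_congr (Subgroup.subgroupOfEquivOfLe hW₁C).toEquiv
      have h2 := Nat.card_congr (Subgroup.subgroupOfEquivOfLe hWG₁).toEquiv
      rw [h1, h2]; exact hWco
    have hle := le_pPrimeCore hn hco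
    intro w hw hwG₁
    have hw1 : (⟨w, hwG₁⟩ : ↥G₁) ∈ ((oddCore ↥(H ⊓ centralizer ({t} : Set G))).map
        (H ⊓ centralizer ({t} : Set G)).subtype).subgroupOf G₁ :=
      Subgroup.mem_subgroupOf.mpr hw
    exact ⟨⟨⟨w, hwG₁⟩, hW₁C hw1⟩, hle (Subgroup.mem_subgroupOf.mpr hw1), rfl⟩
  have ht₁ : orderOf (⟨t, htG₁⟩ : ↥G₁) = 2 := by rw [Subgroup.orderOf_mk]; exact ht
  -- Step D: some component is not centralized by `Y`
  have hD : ∃ E : Subgroup ↥H, IsComponent E ∧
      ¬ (Y ≤ centralizer ((E.map H.subtype : Subgroup G) : Set G)) := by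
    by_contra hcon
    push Not at hcon
    apply hY1
    -- `Y ∩ H` centralizes `E(H)`
    have hD1 : layer ↥H ≤ centralizer ((Y.subgroupOf H : Subgroup ↥H) : Set ↥H) := by
      apply sSup_le
      intro E hE e he
      rw [Subgroup.mem_centralizer_iff]
      intro y hy
      have h1 := hcon E hE (Subgroup.mem_subgroupOf.mp hy)
      have h2 := (Subgroup.mem_centralizer_iff.mp h1) (e : G) ⟨e, he, rfl⟩
      exact Subtype.ext h2.symm
    -- `Y` centralizes `O_2(H)`
    have hD2 : pCore 2 ↥H ≤ centralizer ((Y.subgroupOf H : Subgroup ↥H) : Set ↥H) := by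
      have hQp : IsPGroup 2 ((pCore 2 ↥H).map H.subtype) := Helper70.pCore_isPGroup.map _
      have hQH : (pCore 2 ↥H).map H.subtype ≤ H := Subgroup.map_subtype_le _
      have hQn : normalizer (H : Set G) ≤
          normalizer (((pCore 2 ↥H).map H.subtype : Subgroup G) : Set G) :=
        le_normalizer_of_conj_mem _ _ fun k hk x hx => conj_mem_pCore_map 2 H k hk x hx
      have hA : IsPGroup 2 (zpowers t) := by
        apply IsPGroup.of_card (n := 1)
        rw [Nat.card_zpowers, ht, pow_one]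
      have hYt : Y ≤ centralizer ((zpowers t : Subgroup G) : Set G) := by
        intro y hy
        have h1 : y ∈ centralizer ({t} : Set G) := (Subgroup.mem_inf.mp (hWC (hY hy))).2
        rw [Subgroup.mem_centralizer_iff]
        intro s hs
        obtain ⟨k, rfl⟩ := Subgroup.mem_zpowers_iff.mp hs
        have h2 : t * y = y * t := (Subgroup.mem_centralizer_iff.mp h1) t rfl
        exact Commute.zpow_left h2 k
      have hAB : ⁅zpowers t, Y⁆ = ⊥ := by
        rw [Subgroup.commutator_eq_bot_iff_le_centralizer, Subgroup.le_centralizer_iff]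
        exact hYt
      have hC : (pCore 2 ↥H).map H.subtype ⊓ centralizer ((zpowers t : Subgroup G) : Set G) ≤
          centralizer (Y : Set G) := by
        intro q hq
        have hq1 : q ∈ (pCore 2 ↥H).map H.subtype := (Subgroup.mem_inf.mp hq).1
        have hq2 : q ∈ centralizer ({t} : Set G) :=
          Subgroup.centralizer_le (Set.singleton_subset_iff.mpr (Subgroup.mem_zpowers t))
            (Subgroup.mem_inf.mp hq).2
        have hqC : q ∈ H ⊓ centralizer ({t} : Set G) := Subgroup.mem_inf.mpr ⟨hQH hq1, hq2⟩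
        rw [Subgroup.mem_centralizer_iff]
        intro y hy
        obtain ⟨y', hy', rfl⟩ := hY hy
        have hQ'n : (((pCore 2 ↥H).map H.subtype).subgroupOf
            (H ⊓ centralizer ({t} : Set G))).Normal := by
          have h1 : (((pCore 2 ↥H).map H.subtype ⊓ (H ⊓ centralizer ({t} : Set G)) :
              Subgroup G).subgroupOf (H ⊓ centralizer ({t} : Set G))).Normal := by
            rw [Subgroup.normal_subgroupOf_iff_le_normalizer inf_le_right]
            refine le_trans ?_ (Helper22.normalizer_inf_le _ _)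
            exact le_inf ((inf_le_left.trans Subgroup.le_normalizer).trans hQn)
              Subgroup.le_normalizer
          rwa [Subgroup.inf_subgroupOf_right] at h1
        have hYn : (oddCore ↥(H ⊓ centralizer ({t} : Set G))).Normal := inferInstance
        have hdis : Disjoint (((pCore 2 ↥H).map H.subtype).subgroupOf
            (H ⊓ centralizer ({t} : Set G))) (oddCore ↥(H ⊓ centralizer ({t} : Set G))) := by
          rw [disjoint_iff]
          apply eq_bot_of_isPGroup_of_coprime (p := 2)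
          · exact (hQp.comap_subtype).to_le inf_le_left
          · exact Nat.Coprime.coprime_dvd_left (Subgroup.card_dvd_of_le inf_le_right)
              (pPrimeCore_coprime 2)
        have h3 := Subgroup.commute_of_normal_of_disjoint _ _ hQ'n hYn hdis ⟨q, hqC⟩ y'
          (Subgroup.mem_subgroupOf.mpr hq1) hy'
        exact (congrArg Subtype.val h3.eq).symm
      have hmain := thompson_AxB (zpowers t) Y hA hYco hAB ((pCore 2 ↥H).map H.subtype) hQp
        ((Subgroup.zpowers_le.mpr htH).trans hQn) ((hYH.trans Subgroup.le_normalizer).trans hQn) hC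
      rw [Subgroup.commutator_eq_bot_iff_le_centralizer] at hmain
      intro q hq
      rw [Subgroup.mem_centralizer_iff]
      intro y hy
      have h1 := (Subgroup.mem_centralizer_iff.mp (hmain ⟨q, hq, rfl⟩)) (y : G)
        (Subgroup.mem_subgroupOf.mp hy)
      exact Subtype.ext h1
    have hD3 : fittingSubgroup ↥H = pCore 2 ↥H := fittingSubgroup_eq_pCore_of 2 hO
    have hD4 : Y.subgroupOf H ≤ centralizer ((generalizedFittingSubgroup ↥H : Subgroup ↥H) :
        Set ↥H) := by
      rw [Subgroup.le_centralizer_iff]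
      apply sup_le hD1
      rw [hD3]; exact hD2
    have hFSn : (generalizedFittingSubgroup ↥H).Normal := Helper29.generalizedFittingSubgroup_normal
    have hZn : (centralizer ((generalizedFittingSubgroup ↥H : Subgroup ↥H) : Set ↥H)).Normal :=
      inferInstance
    have hZle : centralizer ((generalizedFittingSubgroup ↥H : Subgroup ↥H) : Set ↥H) ≤
        generalizedFittingSubgroup ↥H := Helper21.centralizer_generalizedFittingSubgroup_le
    have hZcomm : IsMulCommutative
        ↥(centralizer ((generalizedFittingSubgroup ↥H : Subgroup ↥H) : Set ↥H)) := by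
      refine ⟨⟨fun a b => ?_⟩⟩
      exact Subtype.ext ((Subgroup.mem_centralizer_iff.mp b.2) (a : ↥H) (hZle a.2))
    have hZnil : Group.IsNilpotent
        ↥(centralizer ((generalizedFittingSubgroup ↥H : Subgroup ↥H) : Set ↥H)) :=
      Helper29.isNilpotent_of_isMulCommutative _
    have hZF : centralizer ((generalizedFittingSubgroup ↥H : Subgroup ↥H) : Set ↥H) ≤
        fittingSubgroup ↥H := le_sSup ⟨hZn, hZnil⟩
    have hY2 : IsPGroup 2 (Y.subgroupOf H) :=
      (Helper70.pCore_isPGroup (p := 2) (G := ↥H)).to_le (hD4.trans (hZF.trans hD3.le))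
    have hY3 : (Nat.card (Y.subgroupOf H)).Coprime 2 := by
      rw [Nat.card_congr (Subgroup.subgroupOfEquivOfLe hYH).toEquiv]; exact hYco
    have hY4 := eq_bot_of_isPGroup_of_coprime (Y.subgroupOf H) hY2 hY3
    rw [eq_bot_iff]
    intro y hy
    have h1 : (⟨y, hYH hy⟩ : ↥H) ∈ Y.subgroupOf H := Subgroup.mem_subgroupOf.mpr hy
    rw [hY4, Subgroup.mem_bot] at h1
    rw [Subgroup.mem_bot]
    exact congrArg Subtype.val h1
  -- Step E
  obtain ⟨E, hE, hYE⟩ := hD
  refine ⟨E, hE, ?_⟩
  have hE'H : E.map H.subtype ≤ H := Subgroup.map_subtype_le _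
  have hE'G₁ : E.map H.subtype ≤ G₁ := hE'H.trans hHG₁
  have hE₁ : IsComponent ((E.map H.subtype).subgroupOf G₁) :=
    isComponent_subgroupOf_of_normal hHG₁ hH₁n E hE
  have hxP : IsPGroup 2 (zpowers (⟨t, htG₁⟩ : ↥G₁)) := by
    apply IsPGroup.of_card (n := 1)
    rw [Nat.card_zpowers, ht₁, pow_one]
  have hK := centralizerPPrimeCore_le_componentKernel 2 hOX (⟨t, htG₁⟩ : ↥G₁) hxP
  have hE1 : ⁅(E.map H.subtype).subgroupOf G₁, zpowers (⟨t, htG₁⟩ : ↥G₁)⁆ =
      (E.map H.subtype).subgroupOf G₁ := by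
    by_contra hne
    have h1 := component_commutator_centralizerPPrimeCore 2 hOX ⟨t, htG₁⟩ ht₁ _ hE₁ hne
    rw [Subgroup.commutator_eq_bot_iff_le_centralizer] at h1
    apply hYE
    intro y hy
    rw [Subgroup.mem_centralizer_iff]
    intro e he
    have hy1 := hB y (hY hy) (hWG₁ (hY hy))
    have he1 : (⟨e, hE'G₁ he⟩ : ↥G₁) ∈ (E.map H.subtype).subgroupOf G₁ :=
      Subgroup.mem_subgroupOf.mpr he
    have h2 := (Subgroup.mem_centralizer_iff.mp (h1 he1)) _ hy1
    exact (congrArg Subtype.val h2).symm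
  have hE2 : (⟨t, htG₁⟩ : ↥G₁) ∈
      normalizer ((((E.map H.subtype).subgroupOf G₁ : Subgroup ↥G₁)) : Set ↥G₁) := by
    have h1 := Subgroup.normalizer_commutator_ge_right ((E.map H.subtype).subgroupOf G₁)
      (zpowers (⟨t, htG₁⟩ : ↥G₁))
    rw [hE1] at h1
    exact h1 (Subgroup.mem_zpowers _)
  have hnorm_transfer : ∀ g (hg : g ∈ G₁), (⟨g, hg⟩ : ↥G₁) ∈
      normalizer (((E.map H.subtype).subgroupOf G₁ : Subgroup ↥G₁) : Set ↥G₁) →
      g ∈ normalizer ((E.map H.subtype : Subgroup G) : Set G) := by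
    intro g hg h
    rw [← Subgroup.subgroupOf_normalizer_eq hE'G₁] at h
    exact Subgroup.mem_subgroupOf.mp h
  refine ⟨?_, ?_, ?_, hYE⟩
  · exact (cj_eq_self_iff _ t).mpr (hnorm_transfer t htG₁ hE2)
  · intro y hy
    have hy1 := hB y (hY hy) (hWG₁ (hY hy))
    have h1 := mem_componentKernel.mp (hK hy1) _ hE₁
    exact hnorm_transfer y _ ((cj_eq_self_iff _ _).mp h1)
  · intro htc
    have h1 : ⁅(E.map H.subtype).subgroupOf G₁, zpowers (⟨t, htG₁⟩ : ↥G₁)⁆ = ⊥ := by
      rw [Subgroup.commutator_eq_bot_iff_le_centralizer, Subgroup.le_centralizer_iff,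
        Subgroup.zpowers_le, Subgroup.mem_centralizer_iff]
      intro e he
      exact Subtype.ext ((Subgroup.mem_centralizer_iff.mp htc) (e : G)
        (Subgroup.mem_subgroupOf.mp he))
    rw [hE1] at h1
    exact Helper22.IsQuasisimple.ne_bot hE₁.2 h1

/-- **S1328.**  `H ≤ G` with `O(H) = 1`, `t` an involution normalizing `H`, `1 ≠ Y ≤ O(C_H(t))`:
some component of `H` is normalized by `t` and `Y` and centralized by neither. -/
theorem exists_component_of_oddCore_centralizer [Finite G] (H : Subgroup G)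
    (hO : oddCore ↥H = ⊥) (t : G) (ht : orderOf t = 2) (htH : t ∈ normalizer (H : Set G))
    (Y : Subgroup G) (hY1 : Y ≠ ⊥)
    (hY : Y ≤ (oddCore ↥(H ⊓ centralizer ({t} : Set G))).map
      (H ⊓ centralizer ({t} : Set G)).subtype) :
    ∃ E : Subgroup ↥H, IsComponent E ∧
      (E.map H.subtype).map (MulAut.conj t).toMonoidHom = E.map H.subtype ∧
      Y ≤ normalizer ((E.map H.subtype : Subgroup G) : Set G) ∧
      ¬ (t ∈ centralizer ((E.map H.subtype : Subgroup G) : Set G)) ∧
      ¬ (Y ≤ centralizer ((E.map H.subtype : Subgroup G) : Set G)) := by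
  have ht2 : t * t = 1 := by rw [← pow_two, ← ht]; exact pow_orderOf_eq_one t
  exact exists_component_of_oddCore_centralizer_aux H (H ⊔ zpowers t) le_sup_left
    (sup_le Subgroup.le_normalizer (Subgroup.zpowers_le.mpr htH))
    (fun g hg => mul_self_mem_of_mem_sup_zpowers H t htH ht2 hg) hO t ht
    (Subgroup.mem_sup_right (Subgroup.mem_zpowers t)) Y hY1 hY

end Cfsg.Agent.Helper30
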