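import Mathlib
import Cfsg.Prelude.Def_FusionSystem
import Cfsg.Agent.Lib.Helper87.Om7Defs
import Cfsg.Agent.Lib.Helper77.Om7API1

/-!
# helper87 OM7 server (S2647): piece (API2a) — the elements `D i j` and `W a b p q` on the frame
-/

set_option autoImplicit false

namespace Cfsg.Agent.Helper30.Om7

open Matrix QuadraticMap Cfsg.Agent.Helper36.QuadInv Cfsg.Agent.Helper36.OmegaTrans
  Cfsg.Agent.Helper43 Cfsg.Agent.Helper87.Om7 Cfsg.Agent.Helper77.Om7

variable {F : Type*} [Field F] [Fintype F] [DecidableEq F] {ι : Type} [Fintype ι] [DecidableEq ι]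
variable {Q : QuadraticForm F (ι → F)} {c : F} {f : Fin 7 → ι → F}

/-- the reflection in `f j` on the frame -/
theorem api2a_refl_frame (hF : Frame Q c f) (j k : Fin 7) :
    actHom (⇑Q) (reflIso' Q (f j)) (f k) = if k = j then - f k else f k := by
  rw [act_reflIso' (frame_Q_ne hF j)]
  split_ifs with h
  · subst h
    rw [frame_polar_self hF, hF.norm]
    have e : c⁻¹ * (2 * c) = 2 := by
      field_simp [hF.c0]
    rw [e, two_smul]
    abel
  · rw [hF.orth j k (Ne.symm h), mul_zero, zero_smul, sub_zero]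

/-- the reflection in `f a - f b` on the frame -/
theorem api2a_refl_sub_frame (hF : Frame Q c f) {a b : Fin 7} (hab : a ≠ b) (k : Fin 7) :
    actHom (⇑Q) (reflIso' Q (f a - f b)) (f k) = f (Equiv.swap a b k) := by
  rw [act_reflIso' (frame_Q_sub_ne hF hab), frame_Q_sub hF hab, polar_sub_left]
  have e : (2 * c)⁻¹ * (2 * c) = 1 := inv_mul_cancel₀ (mul_ne_zero hF.two hF.c0)
  by_cases hka : k = a
  · subst hka
    rw [frame_polar_self hF, hF.orth b k (Ne.symm hab), sub_zero, e, one_smul,
      Equiv.swap_apply_left]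
    abel
  · by_cases hkb : k = b
    · subst hkb
      rw [frame_polar_self hF, hF.orth a k hab, zero_sub, mul_neg, e, neg_smul, one_smul,
        Equiv.swap_apply_right]
      abel
    · rw [hF.orth a k (Ne.symm hka), hF.orth b k (Ne.symm hkb), sub_zero, mul_zero, zero_smul,
        sub_zero, Equiv.swap_apply_of_ne_of_ne hka hkb]

theorem D_act (hF : Frame Q c f) {i j : Fin 7} (hij : i ≠ j) (k : Fin 7) :
    actHom (⇑Q) (D Q f i j) (f k) = if k = i ∨ k = j then - f k else f k := by
  rw [D, act_mul, api2a_refl_frame hF j k]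
  by_cases hkj : k = j
  · subst hkj
    rw [if_pos rfl, if_pos (Or.inr rfl), map_neg, api2a_refl_frame hF i k,
      if_neg (Ne.symm hij)]
  · rw [if_neg hkj, api2a_refl_frame hF i k]
    by_cases hki : k = i
    · rw [if_pos hki, if_pos (Or.inl hki)]
    · rw [if_neg hki, if_neg (by tauto)]

/-- `D_act` in scalar form -/
theorem api2a_D_act_smul (hF : Frame Q c f) {i j : Fin 7} (hij : i ≠ j) (k : Fin 7) :
    actHom (⇑Q) (D Q f i j) (f k) = (if k = i ∨ k = j then (-1 : F) else 1) • f k := by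
  rw [D_act hF hij]
  split_ifs <;> simp

theorem W_act (hF : Frame Q c f) {a b p q : Fin 7} (hab : a ≠ b) (hpq : p ≠ q) (hap : a ≠ p)
    (haq : a ≠ q) (hbp : b ≠ p) (hbq : b ≠ q) (k : Fin 7) :
    actHom (⇑Q) (W Q f a b p q) (f k) = f ((Equiv.swap a b * Equiv.swap p q) k) := by
  rw [W, act_mul, api2a_refl_sub_frame hF hpq, api2a_refl_sub_frame hF hab, Equiv.Perm.mul_apply]

theorem D_isMono (hF : Frame Q c f) {i j : Fin 7} (hij : i ≠ j) : IsMono Q f (D Q f i j) 1 := by
  intro k
  rw [D_act hF hij, Equiv.Perm.one_apply]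
  split_ifs
  · exact Or.inr rfl
  · exact Or.inl rfl

theorem W_isMono (hF : Frame Q c f) {a b p q : Fin 7} (hab : a ≠ b) (hpq : p ≠ q) (hap : a ≠ p)
    (haq : a ≠ q) (hbp : b ≠ p) (hbq : b ≠ q) :
    IsMono Q f (W Q f a b p q) (Equiv.swap a b * Equiv.swap p q) := by
  intro k
  exact Or.inl (W_act hF hab hpq hap haq hbp hbq k)

theorem D_mul_self (hF : Frame Q c f) {i j : Fin 7} (hij : i ≠ j) :
    D Q f i j * D Q f i j = 1 := by
  apply frame_ext hF
  intro k
  rw [act_mul, act_one, api2a_D_act_smul hF hij, map_smul, api2a_D_act_smul hF hij, smul_smul]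
  split_ifs <;> simp

theorem D_comm (hF : Frame Q c f) {i j k l : Fin 7} (hij : i ≠ j) (hkl : k ≠ l) :
    D Q f i j * D Q f k l = D Q f k l * D Q f i j := by
  apply frame_ext hF
  intro m
  rw [act_mul, act_mul, api2a_D_act_smul hF hkl m, api2a_D_act_smul hF hij m, map_smul, map_smul,
    api2a_D_act_smul hF hij m, api2a_D_act_smul hF hkl m, smul_smul, smul_smul, mul_comm]

theorem api2a_ne_neg (hF : Frame Q c f) (i : Fin 7) : f i ≠ - f i := by
  intro h
  have h1 : (2 : F) • f i = 0 := by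
    rw [two_smul]
    nth_rewrite 1 [h]
    exact neg_add_cancel _
  rcases smul_eq_zero.1 h1 with h2 | h2
  · exact hF.two h2
  · apply frame_Q_ne hF i
    rw [h2, map_zero]

theorem D_ne_one (hF : Frame Q c f) {i j : Fin 7} (hij : i ≠ j) : D Q f i j ≠ 1 := by
  intro h
  have h1 := D_act hF hij i
  rw [h, act_one, if_pos (Or.inl rfl)] at h1
  exact api2a_ne_neg hF i h1

theorem D_symm (hF : Frame Q c f) {i j : Fin 7} (hij : i ≠ j) : D Q f i j = D Q f j i := by
  apply frame_ext hF
  intro k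
  rw [D_act hF hij, D_act hF (Ne.symm hij)]
  simp only [or_comm]

/-- `D i k * D j k = D i j` -/
theorem D_mul_D (hF : Frame Q c f) {i j k : Fin 7} (hij : i ≠ j) (hik : i ≠ k) (hjk : j ≠ k) :
    D Q f i k * D Q f j k = D Q f i j := by
  apply frame_ext hF
  intro m
  rw [act_mul, api2a_D_act_smul hF hjk, map_smul, api2a_D_act_smul hF hik, smul_smul,
    api2a_D_act_smul hF hij]
  congr 1
  by_cases hmi : m = i
  · subst hmi
    simp [hij, hik]
  · by_cases hmj : m = j
    · subst hmj
      simp [hmi, hjk]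
    · by_cases hmk : m = k
      · subst hmk
        simp [hmi, hmj]
      · simp [hmi, hmj, hmk]

end Cfsg.Agent.Helper30.Om7
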