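import Mathlib
import Cfsg.Prelude.Def_FusionSystem
import Cfsg.Agent.Lib.Helper87.Om7Defs
import Cfsg.Agent.Lib.Helper77.Om7API1
import Cfsg.Agent.Lib.Helper30.Om7API2a

/-!
# helper87 OM7 server (S2647): piece (MONO) — monomial elements
-/

set_option autoImplicit false

namespace Cfsg.Agent.Helper30.Om7

open Matrix QuadraticMap Cfsg.Agent.Helper36.QuadInv Cfsg.Agent.Helper36.OmegaTrans
  Cfsg.Agent.Helper43 Cfsg.Agent.Helper87.Om7 Cfsg.Agent.Helper77.Om7

variable {F : Type*} [Field F] [Fintype F] [DecidableEq F] {ι : Type} [Fintype ι] [DecidableEq ι]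
variable {Q : QuadraticForm F (ι → F)} {c : F} {f : Fin 7 → ι → F}

theorem isMono_unique (hF : Frame Q c f) {g : OG F ⇑Q} {σ τ : Equiv.Perm (Fin 7)}
    (h1 : IsMono Q f g σ) (h2 : IsMono Q f g τ) : σ = τ := by
  apply Equiv.ext
  intro i
  apply frame_injective hF
  rcases h1 i with h | h <;> rcases h2 i with h' | h'
  · left
    rw [← h, ← h']
  · right
    rw [← h, h']
  · right
    rw [← neg_eq_iff_eq_neg, ← h, h']
  · left
    have := h.symm.trans h'
    exact neg_injective this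

theorem isMono_conj_D (hF : Frame Q c f) {g : OG F ⇑Q} {σ : Equiv.Perm (Fin 7)}
    (hg : IsMono Q f g σ) {i j : Fin 7} (hij : i ≠ j) :
    g * D Q f i j * g⁻¹ = D Q f (σ i) (σ j) := by
  have hσij : σ i ≠ σ j := fun h => hij (σ.injective h)
  apply frame_ext hF
  intro k
  have e : actHom (⇑Q) g (actHom (⇑Q) g⁻¹ (f k)) = f k := by
    rw [← act_mul, mul_inv_cancel, act_one]
  have hiff : (σ⁻¹ k = i ∨ σ⁻¹ k = j) ↔ (k = σ i ∨ k = σ j) := by
    rw [Equiv.Perm.inv_eq_iff_eq, Equiv.Perm.inv_eq_iff_eq]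
  rw [act_mul, act_mul, api2a_D_act_smul hF hσij k]
  rcases isMono_inv hg k with h | h
  · rw [h] at e ⊢
    rw [api2a_D_act_smul hF hij, map_smul, e]
    congr 1
    exact if_congr hiff rfl rfl
  · rw [h] at e ⊢
    rw [map_neg, api2a_D_act_smul hF hij, ← smul_neg, map_smul, e]
    congr 1
    exact if_congr hiff rfl rfl

theorem D_eq_D_iff (hF : Frame Q c f) {i j k l : Fin 7} (hij : i ≠ j) (hkl : k ≠ l) :
    D Q f i j = D Q f k l ↔ (k = i ∧ l = j) ∨ (k = j ∧ l = i) := by
  constructor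
  · intro h
    have hk : k = i ∨ k = j := by
      by_contra hcon
      have h1 := D_act hF hij k
      rw [h, D_act hF hkl k, if_pos (Or.inl rfl), if_neg hcon] at h1
      exact api2a_ne_neg hF k h1.symm
    have hl : l = i ∨ l = j := by
      by_contra hcon
      have h1 := D_act hF hij l
      rw [h, D_act hF hkl l, if_pos (Or.inr rfl), if_neg hcon] at h1
      exact api2a_ne_neg hF l h1.symm
    rcases hk with hk | hk <;> rcases hl with hl | hl
    · exact absurd (hk.trans hl.symm) hkl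
    · exact Or.inl ⟨hk, hl⟩
    · exact Or.inr ⟨hk, hl⟩
    · exact absurd (hk.trans hl.symm) hkl
  · rintro (⟨rfl, rfl⟩ | ⟨rfl, rfl⟩)
    · rfl
    · exact D_symm hF hij

/-- a diagonal element with all signs `+` is `1` -/
theorem eq_one_of_fix (hF : Frame Q c f) (g : OG F ⇑Q) (h : ∀ i, actHom (⇑Q) g (f i) = f i) :
    g = 1 := by
  apply frame_ext hF
  intro i
  rw [h i, act_one]

end Cfsg.Agent.Helper30.Om7
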