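import Mathlib
import Cfsg.Prelude.Def_FusionSystem
import Cfsg.Agent.Lib.Helper87.Om7Defs
import Cfsg.Agent.Lib.Helper77.Om7API1
import Cfsg.Agent.Lib.Helper63.Om7PERM
import Cfsg.Agent.Lib.Helper30.Om7MONO

/-!
# helper87 OM7 server (S2647): piece (PG) — `mono` is a `2`-group
-/

set_option autoImplicit false

namespace Cfsg.Agent.Helper30.Om7

open Matrix QuadraticMap Cfsg.Agent.Helper36.QuadInv Cfsg.Agent.Helper36.OmegaTrans
  Cfsg.Agent.Helper43 Cfsg.Agent.Helper87.Om7 Cfsg.Agent.Helper77.Om7 Cfsg.Agent.Helper63.Om7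

variable {F : Type*} [Field F] [Fintype F] [DecidableEq F] {ι : Type} [Fintype ι] [DecidableEq ι]
variable {Q : QuadraticForm F (ι → F)} {c : F} {f : Fin 7 → ι → F}

theorem pg_isMono_pow {g : OG F ⇑Q} {σ : Equiv.Perm (Fin 7)} (hg : IsMono Q f g σ) (k : ℕ) :
    IsMono Q f (g ^ k) (σ ^ k) := by
  induction k with
  | zero =>
    rw [pow_zero, pow_zero]
    exact isMono_one f
  | succ k ih =>
    rw [pow_succ, pow_succ]
    exact isMono_mul ih hg

theorem isPGroup_mono (hF : Frame Q c f) : IsPGroup 2 ↥(mono Q f) := by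
  rintro ⟨g, σ, hσ, hm⟩
  refine ⟨3, ?_⟩
  apply Subtype.ext
  rw [Subgroup.coe_pow, Subgroup.coe_one]
  show g ^ 2 ^ 3 = 1
  have h4 : IsMono Q f (g ^ 4) 1 := by
    have := pg_isMono_pow hm 4
    rwa [P16_pow_four hσ] at this
  have e : g ^ 2 ^ 3 = g ^ 4 * g ^ 4 := by
    rw [← pow_add]
    norm_num
  rw [e]
  apply eq_one_of_fix hF
  intro i
  rw [act_mul]
  rcases h4 i with h | h
  · rw [Equiv.Perm.one_apply] at h
    rw [h, h]
  · rw [Equiv.Perm.one_apply] at h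
    rw [h, map_neg, h, neg_neg]

end Cfsg.Agent.Helper30.Om7
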