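import Mathlib
import Cfsg.Prelude.Def_LocalEven
import Cfsg.Agent.Lib.Helper30.PStabG

/-!
# A non-centric normal `p`-subgroup of a `p`-stable group is not the largest subgroup controlling fusion

`exists_larger_normal`: if `X` is `p`-stable in the normalizer form (`p` odd), `Q ⊴ X` is a `p`-subgroup and
`C_P(Q) ≰ Q`, then some `T` with `Q < T ≤ P` has the property that `N_X(T)` controls strong fusion in `P`.
-/

set_option autoImplicit false
set_option linter.style.haveILetI false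
set_option linter.unusedSectionVars false
set_option linter.unusedVariables false

namespace Cfsg.Agent.Helper30.PS

open Cfsg Cfsg.Agent.Helper11.ZJ Cfsg.Agent.Helper46 Cfsg.Agent.Helper54

universe u

variable {p : ℕ} [hp : Fact p.Prime]

theorem exists_larger_normal (hp2 : p ≠ 2) {X : Type u} [Group X] [Finite X]
    (hst : IsNormalizerPStable p X) (P : Sylow p X) (Q : Subgroup X) [hQn : Q.Normal]
    (hQp : IsPGroup p Q)
    (hnc : ¬ ((P : Subgroup X) ⊓ Subgroup.centralizer (Q : Set X) ≤ Q)) :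
    ∃ T : Subgroup X, Q < T ∧ T ≤ (P : Subgroup X) ∧
      ∀ (A : Set X) (g : X), A ⊆ (P : Subgroup X) → (∀ a ∈ A, g * a * g⁻¹ ∈ (P : Subgroup X)) →
        ∃ x ∈ Subgroup.normalizer (T : Set X), ∀ a ∈ A, x * a * x⁻¹ = g * a * g⁻¹ := by
  have hQcore : Q ≤ pCore p X := le_pCore' hQn hQp
  have hQP : Q ≤ (P : Subgroup X) := hQcore.trans (pCore_le_sylow' P)
  haveI hCn : (Subgroup.centralizer (Q : Set X)).Normal := Subgroup.normal_centralizer
  set C := Subgroup.centralizer (Q : Set X) with hC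
  set M := Q ⊔ C with hM
  haveI hMn : M.Normal := Subgroup.sup_normal Q C
  set D := (P : Subgroup X) ⊓ M with hDdef
  set H := (P : Subgroup X) ⊔ C with hH
  set π := QuotientGroup.mk' Q with hπ
  have hsurj := QuotientGroup.mk'_surjective Q
  have hDsc : IsStronglyClosed D (P : Subgroup X) :=
    ⟨inf_le_left, fun d hd g hg => ⟨hg, hMn.conj_mem d hd.2 g⟩⟩
  set V := W ((commSys.{u} p).Good (X ⧸ Q)) (D.map π) with hV
  set T := V.comap π with hT
  have hDqp : IsPGroup p (D.map π) := (P.isPGroup'.to_le inf_le_left).map _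
  have hDqne : D.map π ≠ ⊥ := by
    intro h0
    apply hnc
    intro d hd
    have hdD : d ∈ D := ⟨hd.1, (le_sup_right : C ≤ M) hd.2⟩
    have : π d ∈ D.map π := Subgroup.mem_map_of_mem _ hdD
    rw [h0, Subgroup.mem_bot, hπ, QuotientGroup.mk'_apply, QuotientGroup.eq_one_iff] at this
    exact this
  have hVne : V ≠ ⊥ := (commSys.{u} p).ne_bot _ _ hDqp hDqne
  have hVD : V ≤ D.map π := W_le ((commSys.{u} p).ax _) _
  have hTP : T ≤ (P : Subgroup X) := by
    intro t ht
    have h1 : π t ∈ D.map π := hVD ht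
    obtain ⟨d, hd, hde⟩ := h1
    have h2 : d⁻¹ * t ∈ Q := by
      rw [← QuotientGroup.eq_one_iff, ← QuotientGroup.mk'_apply, map_mul, map_inv]
      rw [← hπ, hde]
      group
    have e : t = d * (d⁻¹ * t) := by group
    rw [e]
    exact Subgroup.mul_mem _ hd.1 (hQP h2)
  have hQT : Q ≤ T := by
    intro q hq
    rw [hT, Subgroup.mem_comap, hπ, QuotientGroup.mk'_apply, (QuotientGroup.eq_one_iff q).mpr hq]
    exact Subgroup.one_mem _
  have hQltT : Q < T := by
    refine lt_of_le_of_ne hQT (fun heq => hVne ?_)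
    rw [eq_bot_iff]
    intro v hv
    obtain ⟨t, rfl⟩ := hsurj v
    have htT : t ∈ T := hv
    rw [← heq] at htT
    rw [Subgroup.mem_bot, QuotientGroup.mk'_apply, QuotientGroup.eq_one_iff]
    exact htT
  refine ⟨T, hQltT, hTP, ?_⟩
  intro A g hA hAg
  obtain ⟨m, hm, n', hn', rfl, hmA⟩ := fusion_frattini P M A hA g hAg
  -- `n'` normalizes `T`
  have hn'T : n' ∈ Subgroup.normalizer (T : Set X) := by
    rw [hT, mem_normalizer_comap_mk]
    apply normalizer_le_normalizer_W ((commSys.{u} p).ax _) (D.map π)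
    exact Subgroup.le_normalizer_map π (Subgroup.mem_map_of_mem _ hn')
  -- the `m`-part, inside `H`
  have hPH : (P : Subgroup X) ≤ H := le_sup_left
  have hmH : m ∈ H := (sup_le (hQP.trans le_sup_left) le_sup_right : M ≤ H) hm
  have hstH : IsNormalizerPStable p ↥H := Cfsg.Agent.S3836.result hst H
  set P_H : Sylow p ↥H := P.subtype hPH with hP_H
  have hP_Hcoe : (P_H : Subgroup ↥H) = (P : Subgroup X).subgroupOf H := Sylow.coe_subtype P hPH
  set Q_H : Subgroup ↥H := Q.subgroupOf H with hQ_H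
  haveI hQ_Hn : Q_H.Normal := hQn.subgroupOf H
  have hQ_Hp : IsPGroup p Q_H := hQp.comap_subtype
  haveI hC_Hn : (Subgroup.centralizer (Q_H : Set ↥H)).Normal := Subgroup.normal_centralizer
  have hRC_H : (P_H : Subgroup ↥H) ⊔ Subgroup.centralizer (Q_H : Set ↥H) = ⊤ := by
    rw [eq_top_iff]
    rintro ⟨h, hh⟩ _
    have hh' : h ∈ (((P : Subgroup X) ⊔ C : Subgroup X) : Set X) := hh
    rw [Subgroup.mul_normal] at hh'
    obtain ⟨r, hr, c, hc, hrc⟩ := hh'
    have hrH : r ∈ H := hPH hr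
    have hcH : c ∈ H := (le_sup_right : C ≤ H) hc
    have e : (⟨h, hh⟩ : ↥H) = ⟨r, hrH⟩ * ⟨c, hcH⟩ := Subtype.ext hrc.symm
    rw [e]
    apply Subgroup.mul_mem_sup
    · rw [hP_Hcoe, Subgroup.mem_subgroupOf]; exact hr
    · rw [Subgroup.mem_centralizer_iff]
      intro q hq
      apply Subtype.ext
      exact (Subgroup.mem_centralizer_iff.mp hc) q.1 (Subgroup.mem_subgroupOf.mp hq)
  have hH_H : ∀ c : ↥H, (orderOf c).Coprime p → c ∈ Subgroup.centralizer (Q_H : Set ↥H) := by
    intro c hc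
    apply mem_centralizer_of_coprime_sup (Subgroup.centralizer (Q_H : Set ↥H)) (P_H : Subgroup ↥H) Q_H
      le_rfl _ _ hc
    · intro k hk
      obtain ⟨m', hm'⟩ := P_H.isPGroup' ⟨k, hk⟩
      refine ⟨m', ?_⟩
      have := congrArg Subtype.val hm'
      rw [Subgroup.coe_pow, Subgroup.coe_one] at this
      rw [this]
      exact Subgroup.one_mem _
    · rw [sup_comm, hRC_H]; exact Subgroup.mem_top c
  have hquotH : LocalControl (commSys.{u} p) (↥H ⧸ Q_H) :=
    localControl_of_stable (commSys.{u} p) hp2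
      (stable_quotient_of_centralized hp2 hstH Q_H hQ_Hp hH_H)
  set D_H : Subgroup ↥H := D.subgroupOf H with hD_H
  have hD_Hsc : IsStronglyClosed D_H (P_H : Subgroup ↥H) := by
    rw [hP_Hcoe]
    refine ⟨fun d hd => ?_, fun d hd g hg => ?_⟩
    · exact Subgroup.mem_subgroupOf.mpr (hDsc.1 (Subgroup.mem_subgroupOf.mp hd))
    · rw [Subgroup.mem_subgroupOf] at hd hg ⊢
      exact hDsc.2 _ hd g.1 hg
  set A_H : Set ↥H := {a | (a : X) ∈ A} with hA_H
  obtain ⟨y, hy, hya⟩ := control_comap_of_RC_eq_top (commSys.{u} p) Q_H hQ_Hp P_H D_H hD_Hsc hRC_H hquotH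
    A_H ⟨m, hmH⟩
    (by
      intro a ha
      rw [SetLike.mem_coe, hP_Hcoe, Subgroup.mem_subgroupOf]
      exact hA ha)
    (by
      intro a ha
      rw [hP_Hcoe, Subgroup.mem_subgroupOf]
      exact hmA _ ha)
  set π_H := QuotientGroup.mk' Q_H with hπ_H
  set V_H := W ((commSys.{u} p).Good (↥H ⧸ Q_H)) (D_H.map π_H) with hV_H
  -- comparison of the two quotients
  set j : ↥H ⧸ Q_H →* X ⧸ Q := QuotientGroup.map Q_H Q H.subtype le_rfl with hj
  have hjmk : ∀ h : ↥H, j (π_H h) = π (h : X) := fun h => rfl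
  have hjinj : Function.Injective j := by
    rw [injective_iff_map_eq_one]
    intro x hx
    obtain ⟨h, rfl⟩ := QuotientGroup.mk'_surjective Q_H x
    have h1 : π (h : X) = 1 := hx
    rw [hπ, QuotientGroup.mk'_apply, QuotientGroup.eq_one_iff] at h1
    rw [QuotientGroup.mk'_apply, QuotientGroup.eq_one_iff]
    exact Subgroup.mem_subgroupOf.mpr h1
  have hDmap : (D_H.map π_H).map j = D.map π := by
    ext z
    constructor
    · rintro ⟨_, ⟨h, hh, rfl⟩, rfl⟩
      exact ⟨(h : X), Subgroup.mem_subgroupOf.mp hh, rfl⟩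
    · rintro ⟨d, hd, rfl⟩
      have hdH : d ∈ H := hPH hd.1
      exact ⟨π_H ⟨d, hdH⟩, ⟨⟨d, hdH⟩, Subgroup.mem_subgroupOf.mpr hd, rfl⟩, rfl⟩
  have hVmap : V = V_H.map j := by
    rw [hV, ← hDmap]
    apply W_comm_map j (D_H.map π_H)
    rw [(MonoidHom.ker_eq_bot_iff j).mpr hjinj, bot_inf_eq]
  have hyT : (y : X) ∈ Subgroup.normalizer (T : Set X) := by
    apply Subgroup.mem_normalizer_fintype
    intro t ht
    have ht' : π t ∈ V := ht
    rw [hVmap] at ht'
    obtain ⟨v, hv, hvt⟩ := ht'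
    obtain ⟨h, rfl⟩ := QuotientGroup.mk'_surjective Q_H v
    have h1 : π (h : X) = π t := hvt
    have h2 : (h : X)⁻¹ * t ∈ Q := by
      rw [← QuotientGroup.eq_one_iff, ← QuotientGroup.mk'_apply, map_mul, map_inv, ← hπ, h1]
      group
    have htH : t ∈ H := by
      have e : t = (h : X) * ((h : X)⁻¹ * t) := by group
      rw [e]
      exact H.mul_mem h.2 (hPH (hQP h2))
    have h3 : π_H ⟨t, htH⟩ = π_H h := by
      apply hjinj
      rw [hjmk, hjmk]
      exact h1.symm
    have h4 : (⟨t, htH⟩ : ↥H) ∈ V_H.comap π_H := by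
      rw [Subgroup.mem_comap, h3]
      exact hv
    have h5 : y * ⟨t, htH⟩ * y⁻¹ ∈ V_H.comap π_H := (Subgroup.mem_normalizer_iff.mp hy _).mp h4
    rw [Subgroup.mem_comap] at h5
    show π ((y : X) * t * (y : X)⁻¹) ∈ V
    rw [hVmap]
    exact ⟨_, h5, rfl⟩
  refine ⟨n' * (y : X), Subgroup.mul_mem _ hn'T hyT, fun a ha => ?_⟩
  have h1 := hya ⟨a, hPH (hA ha)⟩ ha
  have h2 := congrArg Subtype.val h1
  simp only [Subgroup.coe_mul, Subgroup.coe_inv] at h2
  calc n' * (y : X) * a * (n' * (y : X))⁻¹ = n' * ((y : X) * a * (y : X)⁻¹) * n'⁻¹ := by group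
    _ = n' * (m * a * m⁻¹) * n'⁻¹ := by rw [h2]
    _ = n' * m * a * (n' * m)⁻¹ := by group

end Cfsg.Agent.Helper30.PS
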