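import Mathlib
import Cfsg.Prelude.Def_LocalEven
import Cfsg.Prelude.Def_FusionSystem
import Cfsg.Agent.Lib.Helper30.PStabH
import Cfsg.Agent.Lib.Helper87.FusionCore
import Cfsg.Agent.Lib.Helper33.Centric

/-!
# The fusion system of a `p`-stable group is constrained

`exists_normal_centric_of_stable`: if `G` is `p`-stable in the normalizer form (`p` odd) and `P` is a Sylow `p`-subgroup,
the largest subgroup of `P` normal in `F_P(G)` is `F_P(G)`-centric.
-/

set_option autoImplicit false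
set_option linter.style.haveILetI false
set_option linter.unusedSectionVars false
set_option linter.unusedVariables false

namespace Cfsg.Agent.Helper30.PS

open Cfsg Cfsg.FusionSystem
open scoped Pointwise

universe u

section gfs

variable {G : Type*} [Group G]

/-- control of strong fusion by `N_G(T)` makes `T` normal in the fusion system -/
theorem isNormal_of_control (S T : Subgroup G) (hTS : T ≤ S)
    (hctl : ∀ (A : Set G) (g : G), A ⊆ S → (∀ a ∈ A, g * a * g⁻¹ ∈ S) →
      ∃ x ∈ Subgroup.normalizer (T : Set G), ∀ a ∈ A, x * a * x⁻¹ = g * a * g⁻¹) :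
    (groupFusionSystem S).IsNormal T := by
  refine ⟨hTS, ?_⟩
  rintro P₁ φ ⟨hP₁, hφS, g, hg⟩
  obtain ⟨x, hx, hxa⟩ := hctl (P₁ : Set G) g hP₁
    (fun a ha => by
      have := hφS ⟨a, ha⟩
      rwa [hg] at this)
  have hxW : ∀ y ∈ T, x * y * x⁻¹ ∈ T := fun y hy => (Subgroup.mem_normalizer_iff.mp hx y).mp hy
  have hval : ∀ y ∈ P₁ ⊔ T, x * y * x⁻¹ ∈ S := by
    have hle : P₁ ⊔ T ≤ S.comap (MulAut.conj x).toMonoidHom := by
      apply sup_le
      · intro y hy
        rw [Subgroup.mem_comap]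
        simp only [MulEquiv.coe_toMonoidHom, MulAut.conj_apply]
        rw [hxa y hy]
        have := hφS ⟨y, hy⟩
        rwa [hg] at this
      · intro y hy
        rw [Subgroup.mem_comap]
        simp only [MulEquiv.coe_toMonoidHom, MulAut.conj_apply]
        exact hTS (hxW y hy)
    intro y hy
    have := hle hy
    rw [Subgroup.mem_comap] at this
    simpa using this
  refine ⟨Cfsg.conjHom (P₁ ⊔ T) x, ⟨sup_le hP₁ hTS, fun y => hval y y.2, x, fun y => rfl⟩, ?_, ?_⟩
  · intro y
    show x * (y : G) * x⁻¹ = φ y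
    rw [hg, hxa y y.2]
  · ext z
    constructor
    · rintro ⟨y, hy, rfl⟩
      exact hxW y (Subgroup.mem_subgroupOf.mp hy)
    · intro hz
      have h1 : x⁻¹ * z * x ∈ T := by
        have := (Subgroup.mem_normalizer_iff.mp (Subgroup.inv_mem _ hx) z).mp hz
        rwa [inv_inv] at this
      refine ⟨⟨x⁻¹ * z * x, (le_sup_right : T ≤ P₁ ⊔ T) h1⟩, Subgroup.mem_subgroupOf.mpr h1, ?_⟩
      show x * (x⁻¹ * z * x) * x⁻¹ = z
      group

/-- a subgroup normal in the fusion system has a normalizer controlling strong fusion -/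
theorem control_of_isNormal [Finite G] (S Q : Subgroup G) (hQ : (groupFusionSystem S).IsNormal Q)
    (A : Set G) (g : G) (hA : A ⊆ S) (hAg : ∀ a ∈ A, g * a * g⁻¹ ∈ S) :
    ∃ x ∈ Subgroup.normalizer (Q : Set G), ∀ a ∈ A, x * a * x⁻¹ = g * a * g⁻¹ := by
  set P₁ := Subgroup.closure A with hP₁
  have hP₁S : P₁ ≤ S := (Subgroup.closure_le S).mpr hA
  have hP₁g : ∀ y ∈ P₁, g * y * g⁻¹ ∈ S := by
    have hle : P₁ ≤ S.comap (MulAut.conj g).toMonoidHom := by
      rw [hP₁, Subgroup.closure_le]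
      intro a ha
      rw [SetLike.mem_coe, Subgroup.mem_comap]
      simp only [MulEquiv.coe_toMonoidHom, MulAut.conj_apply]
      exact hAg a ha
    intro y hy
    have := hle hy
    rw [Subgroup.mem_comap] at this
    simpa using this
  have hφ : Cfsg.conjHom P₁ g ∈ (groupFusionSystem S).Hom P₁ :=
    ⟨hP₁S, fun y => hP₁g y y.2, g, fun y => rfl⟩
  obtain ⟨ψ, ⟨-, -, x, hx⟩, hψ1, hψ2⟩ := hQ.2 P₁ _ hφ
  refine ⟨x, ?_, fun a ha => ?_⟩
  · apply Subgroup.mem_normalizer_fintype
    intro q hq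
    have h1 : ψ ⟨q, (le_sup_right : Q ≤ P₁ ⊔ Q) hq⟩ ∈ (Q.subgroupOf (P₁ ⊔ Q)).map ψ :=
      Subgroup.mem_map_of_mem _ (Subgroup.mem_subgroupOf.mpr hq)
    rw [hψ2, hx] at h1
    exact h1
  · have haP : a ∈ P₁ := Subgroup.subset_closure ha
    have h1 := hψ1 ⟨a, haP⟩
    rw [hx] at h1
    exact h1

end gfs

variable {p : ℕ} [hp : Fact p.Prime]

/-- **The fusion system of a `p`-stable group is constrained** (the normal centric subgroup). -/
theorem exists_normal_centric_of_stable (hp2 : p ≠ 2) {G : Type u} [Group G] [Finite G]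
    (hst : IsNormalizerPStable p G) (P : Sylow p G) :
    ∃ Q : Subgroup G, (groupFusionSystem (P : Subgroup G)).IsNormal Q ∧
      (groupFusionSystem (P : Subgroup G)).IsCentric Q := by
  set Q := (groupFusionSystem (P : Subgroup G)).core with hQdef
  have hQn : (groupFusionSystem (P : Subgroup G)).IsNormal Q :=
    Cfsg.Agent.Helper87.isNormal_core _
  have hQP : Q ≤ (P : Subgroup G) := hQn.1
  refine ⟨Q, hQn, ?_⟩
  have hctlQ := control_of_isNormal (P : Subgroup G) Q hQn
  -- `Q` is weakly closed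
  have hwc : ∀ g : G, MulAut.conj g • Q ≤ (P : Subgroup G) → MulAut.conj g • Q = Q := by
    intro g hg
    obtain ⟨x, hx, hxa⟩ := hctlQ (Q : Set G) g hQP (fun a ha => by
      apply hg
      rw [Subgroup.mem_pointwise_smul_iff_inv_smul_mem]
      simp only [MulAut.smul_def, map_inv, MulAut.inv_apply, MulAut.conj_symm_apply]
      have e : g⁻¹ * (g * a * g⁻¹) * g = a := by group
      rw [e]
      exact ha)
    ext z
    rw [Subgroup.mem_pointwise_smul_iff_inv_smul_mem]
    simp only [MulAut.smul_def, map_inv, MulAut.inv_apply, MulAut.conj_symm_apply]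
    constructor
    · intro hz
      have h1 := hxa _ hz
      have e : g * (g⁻¹ * z * g) * g⁻¹ = z := by group
      rw [e] at h1
      rw [← h1]
      exact (Subgroup.mem_normalizer_iff.mp hx _).mp hz
    · intro hz
      have h1 : x⁻¹ * z * x ∈ Q := by
        have := (Subgroup.mem_normalizer_iff.mp (Subgroup.inv_mem _ hx) z).mp hz
        rwa [inv_inv] at this
      have h2 := hxa _ h1
      have e : x * (x⁻¹ * z * x) * x⁻¹ = z := by group
      rw [e] at h2
      rw [h2]
      have e2 : g⁻¹ * (g * (x⁻¹ * z * x) * g⁻¹) * g = x⁻¹ * z * x := by group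
      rw [e2]
      exact h1
  rw [Cfsg.Agent.Helper33.isCentric_groupFusionSystem_iff]
  refine ⟨hQP, fun g hg => ?_⟩
  rw [hwc g hg]
  by_contra hnc
  set N := Subgroup.normalizer (Q : Set G) with hN
  have hPN : (P : Subgroup G) ≤ N := by
    intro r hr
    apply Subgroup.mem_normalizer_fintype
    intro q hq
    obtain ⟨x, hx, hxa⟩ := hctlQ (Q : Set G) r hQP (fun a ha =>
      Subgroup.mul_mem _ (Subgroup.mul_mem _ hr (hQP ha)) (Subgroup.inv_mem _ hr))
    rw [← hxa q hq]
    exact (Subgroup.mem_normalizer_iff.mp hx q).mp hq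
  have hstN : IsNormalizerPStable p ↥N := Cfsg.Agent.S3836.result hst N
  set P_N : Sylow p ↥N := P.subtype hPN with hP_N
  have hP_Ncoe : (P_N : Subgroup ↥N) = (P : Subgroup G).subgroupOf N := Sylow.coe_subtype P hPN
  set Q_N : Subgroup ↥N := Q.subgroupOf N with hQ_N
  haveI hQ_Nn : Q_N.Normal := Subgroup.normal_in_normalizer
  have hQ_Np : IsPGroup p Q_N := (P.isPGroup'.to_le hQP).comap_subtype
  have hncN : ¬ ((P_N : Subgroup ↥N) ⊓ Subgroup.centralizer (Q_N : Set ↥N) ≤ Q_N) := by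
    intro hle
    apply hnc
    intro z hz
    have hzN : z ∈ N := hPN hz.1
    have h1 : (⟨z, hzN⟩ : ↥N) ∈ (P_N : Subgroup ↥N) ⊓ Subgroup.centralizer (Q_N : Set ↥N) := by
      refine Subgroup.mem_inf.mpr ⟨?_, ?_⟩
      · rw [hP_Ncoe, Subgroup.mem_subgroupOf]; exact hz.1
      · rw [Subgroup.mem_centralizer_iff]
        intro q hq
        apply Subtype.ext
        exact (Subgroup.mem_centralizer_iff.mp hz.2) q.1 (Subgroup.mem_subgroupOf.mp hq)
    exact Subgroup.mem_subgroupOf.mp (hle h1)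
  obtain ⟨T', hQT', hT'P, hctl'⟩ := exists_larger_normal hp2 hstN P_N Q_N hQ_Np hncN
  set T₁ := T'.map N.subtype with hT₁
  have hT₁P : T₁ ≤ (P : Subgroup G) := by
    rintro _ ⟨t, ht, rfl⟩
    have := hT'P ht
    rw [hP_Ncoe, Subgroup.mem_subgroupOf] at this
    exact this
  have hctl₁ : ∀ (A : Set G) (g : G), A ⊆ (P : Subgroup G) → (∀ a ∈ A, g * a * g⁻¹ ∈ (P : Subgroup G)) →
      ∃ x ∈ Subgroup.normalizer (T₁ : Set G), ∀ a ∈ A, x * a * x⁻¹ = g * a * g⁻¹ := by
    intro A g hA hAg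
    obtain ⟨x, hx, hxa⟩ := hctlQ A g hA hAg
    obtain ⟨y, hy, hya⟩ := hctl' {a : ↥N | (a : G) ∈ A} ⟨x, hx⟩
      (by
        intro a ha
        rw [SetLike.mem_coe, hP_Ncoe, Subgroup.mem_subgroupOf]
        exact hA ha)
      (by
        intro a ha
        rw [hP_Ncoe, Subgroup.mem_subgroupOf]
        show x * (a : G) * x⁻¹ ∈ (P : Subgroup G)
        rw [hxa _ ha]
        exact hAg _ ha)
    refine ⟨(y : G), ?_, fun a ha => ?_⟩
    · apply Subgroup.mem_normalizer_fintype
      rintro _ ⟨t, ht, rfl⟩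
      exact ⟨y * t * y⁻¹, (Subgroup.mem_normalizer_iff.mp hy t).mp ht, rfl⟩
    · have h1 := hya ⟨a, hPN (hA ha)⟩ ha
      have h2 := congrArg Subtype.val h1
      simp only [Subgroup.coe_mul, Subgroup.coe_inv] at h2
      rw [h2, hxa a ha]
  have hT₁n : (groupFusionSystem (P : Subgroup G)).IsNormal T₁ :=
    isNormal_of_control (P : Subgroup G) T₁ hT₁P hctl₁
  have hT₁Q : T₁ ≤ Q := Cfsg.Agent.Helper87.le_core hT₁n
  apply hQT'.not_ge
  intro t ht
  rw [hQ_N, Subgroup.mem_subgroupOf]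
  exact hT₁Q ⟨t, ht, rfl⟩

end Cfsg.Agent.Helper30.PS
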