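import Mathlib
import Cfsg.Agent.Lib.Helper33.Syl
import Cfsg.Agent.Lib.Helper46.Involves2
import Cfsg.Agent.Lib.Helper46.FusInd8
import Cfsg.Agent.Lib.Helper11.QP8
import Cfsg.Agent.Lib.Helper11.DLA2

/-!
# `Qd(p)`-pairs modulo a subgroup

`PairMod p V₀ v w x y`: the elements `v, w, x, y` normalize `V₀` and form a `Qd(p)`-pair modulo `V₀`.
`QdCfg0 p Z`: the group `Z` contains such a configuration.  For finite `Z` (and `p` odd) this is
equivalent to `Z` involving `Qd(p)`; the point of the elementwise form is that it can be transported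
along maps that only preserve fusion.
-/

set_option autoImplicit false
set_option linter.style.haveILetI false
set_option linter.unusedSectionVars false
set_option linter.unusedVariables false

namespace Cfsg.Agent.Helper30.QC

open Cfsg Cfsg.Agent.Helper33 Cfsg.Agent.Helper46 Cfsg.Agent.Helper11.QP

universe u

/-- `v, w, x, y` normalize `V₀` and form a `Qd(p)`-pair modulo `V₀`. -/
def PairMod (p : ℕ) {Z : Type*} [Group Z] (V₀ : Subgroup Z) (v w x y : Z) : Prop :=
  v ∈ Subgroup.normalizer (V₀ : Set Z) ∧ w ∈ Subgroup.normalizer (V₀ : Set Z) ∧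
  x ∈ Subgroup.normalizer (V₀ : Set Z) ∧ y ∈ Subgroup.normalizer (V₀ : Set Z) ∧
  v ^ p ∈ V₀ ∧ w ^ p ∈ V₀ ∧ v * w * (w * v)⁻¹ ∈ V₀ ∧
  (∀ i j : ℕ, v ^ i * w ^ j ∈ V₀ → p ∣ i ∧ p ∣ j) ∧
  x * v * x⁻¹ * v⁻¹ ∈ V₀ ∧ x * w * x⁻¹ * (w * v)⁻¹ ∈ V₀ ∧
  y * v * y⁻¹ * (v * w)⁻¹ ∈ V₀ ∧ y * w * y⁻¹ * w⁻¹ ∈ V₀

/-- `Z` contains a `Qd(p)`-pair modulo some subgroup. -/
def QdCfg0 (p : ℕ) (Z : Type*) [Group Z] : Prop :=
  ∃ (V₀ : Subgroup Z) (v w x y : Z), PairMod p V₀ v w x y

variable {p : ℕ}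

section maps

variable {Z Y : Type*} [Group Z] [Group Y]

theorem mem_normalizer_comap (f : Z →* Y) (V₀ : Subgroup Y) {v : Z}
    (hv : f v ∈ Subgroup.normalizer (V₀ : Set Y)) :
    v ∈ Subgroup.normalizer ((V₀.comap f : Subgroup Z) : Set Z) := by
  rw [Subgroup.mem_normalizer_iff] at hv ⊢
  intro h
  simp only [Subgroup.mem_comap, map_mul, map_inv]
  exact hv (f h)

theorem mem_normalizer_map (f : Z →* Y) (V₀ : Subgroup Z) {v : Z}
    (hv : v ∈ Subgroup.normalizer (V₀ : Set Z)) :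
    f v ∈ Subgroup.normalizer ((V₀.map f : Subgroup Y) : Set Y) :=
  Subgroup.le_normalizer_map f (Subgroup.mem_map_of_mem f hv)

/-- pulling a pair back along a homomorphism -/
theorem PairMod.comap (f : Z →* Y) {V₀ : Subgroup Y} {v w x y : Z}
    (h : PairMod p V₀ (f v) (f w) (f x) (f y)) : PairMod p (V₀.comap f) v w x y := by
  obtain ⟨h1, h2, h3, h4, h5, h6, h7, h8, h9, h10, h11, h12⟩ := h
  refine ⟨mem_normalizer_comap f V₀ h1, mem_normalizer_comap f V₀ h2, mem_normalizer_comap f V₀ h3,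
    mem_normalizer_comap f V₀ h4, ?_, ?_, ?_, ?_, ?_, ?_, ?_, ?_⟩
  · simpa [Subgroup.mem_comap] using h5
  · simpa [Subgroup.mem_comap] using h6
  · simpa [Subgroup.mem_comap] using h7
  · intro i j hij
    apply h8
    simpa [Subgroup.mem_comap] using hij
  · simpa [Subgroup.mem_comap] using h9
  · simpa [Subgroup.mem_comap] using h10
  · simpa [Subgroup.mem_comap] using h11
  · simpa [Subgroup.mem_comap] using h12

/-- pushing a pair forward along a homomorphism that reflects membership in `V₀` on the products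
`v ^ i * w ^ j` -/
theorem PairMod.map (f : Z →* Y) {V₀ : Subgroup Z} {v w x y : Z} (h : PairMod p V₀ v w x y)
    (hrefl : ∀ i j : ℕ, f (v ^ i * w ^ j) ∈ V₀.map f → v ^ i * w ^ j ∈ V₀) :
    PairMod p (V₀.map f) (f v) (f w) (f x) (f y) := by
  obtain ⟨h1, h2, h3, h4, h5, h6, h7, h8, h9, h10, h11, h12⟩ := h
  refine ⟨mem_normalizer_map f V₀ h1, mem_normalizer_map f V₀ h2, mem_normalizer_map f V₀ h3,
    mem_normalizer_map f V₀ h4, ?_, ?_, ?_, ?_, ?_, ?_, ?_, ?_⟩
  · have := Subgroup.mem_map_of_mem f h5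
    simpa using this
  · have := Subgroup.mem_map_of_mem f h6
    simpa using this
  · have := Subgroup.mem_map_of_mem f h7
    simpa using this
  · intro i j hij
    apply h8
    apply hrefl
    simpa using hij
  · have := Subgroup.mem_map_of_mem f h9
    simpa using this
  · have := Subgroup.mem_map_of_mem f h10
    simpa using this
  · have := Subgroup.mem_map_of_mem f h11
    simpa using this
  · have := Subgroup.mem_map_of_mem f h12
    simpa using this

theorem PairMod.map_injective (f : Z →* Y) (hf : Function.Injective f) {V₀ : Subgroup Z}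
    {v w x y : Z} (h : PairMod p V₀ v w x y) :
    PairMod p (V₀.map f) (f v) (f w) (f x) (f y) := by
  apply h.map f
  intro i j hij
  obtain ⟨z, hz, hze⟩ := hij
  rw [← hf hze]
  exact hz

/-- a configuration in a quotient lifts -/
theorem QdCfg0.of_quotient (N : Subgroup Z) [N.Normal] (h : QdCfg0 p (Z ⧸ N)) : QdCfg0 p Z := by
  obtain ⟨V₀, v, w, x, y, hp⟩ := h
  obtain ⟨v, rfl⟩ := QuotientGroup.mk'_surjective N v
  obtain ⟨w, rfl⟩ := QuotientGroup.mk'_surjective N w
  obtain ⟨x, rfl⟩ := QuotientGroup.mk'_surjective N x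
  obtain ⟨y, rfl⟩ := QuotientGroup.mk'_surjective N y
  exact ⟨_, v, w, x, y, hp.comap (QuotientGroup.mk' N)⟩

/-- a configuration in a homomorphic image lifts -/
theorem QdCfg0.of_surjective (f : Z →* Y) (hf : Function.Surjective f) (h : QdCfg0 p Y) :
    QdCfg0 p Z := by
  obtain ⟨V₀, v, w, x, y, hp⟩ := h
  obtain ⟨v, rfl⟩ := hf v
  obtain ⟨w, rfl⟩ := hf w
  obtain ⟨x, rfl⟩ := hf x
  obtain ⟨y, rfl⟩ := hf y
  exact ⟨_, v, w, x, y, hp.comap f⟩

/-- a configuration in a subgroup is a configuration in the group -/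
theorem QdCfg0.of_subgroup (K : Subgroup Z) (h : QdCfg0 p ↥K) : QdCfg0 p Z := by
  obtain ⟨V₀, v, w, x, y, hp⟩ := h
  exact ⟨_, _, _, _, _, hp.map_injective K.subtype K.subtype_injective⟩

theorem QdCfg0.of_injective (f : Z →* Y) (hf : Function.Injective f) (h : QdCfg0 p Z) :
    QdCfg0 p Y := by
  obtain ⟨V₀, v, w, x, y, hp⟩ := h
  exact ⟨_, _, _, _, _, hp.map_injective f hf⟩

/-- a genuine pair is a pair modulo the trivial subgroup -/
theorem QdCfg0.of_isQdPair {v w x y : Z} (h : IsQdPair p v w x y) : QdCfg0 p Z := by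
  obtain ⟨hv, hw, hvw, hind, hxv, hxw, hyv, hyw⟩ := h
  have hn : ∀ z : Z, z ∈ Subgroup.normalizer ((⊥ : Subgroup Z) : Set Z) := by
    intro z
    rw [Subgroup.mem_normalizer_iff]
    intro h
    simp only [Subgroup.mem_bot]
    constructor
    · rintro rfl
      group
    · intro hh
      have : h = z⁻¹ * (z * h * z⁻¹) * z := by group
      rw [this, hh]
      group
  refine ⟨⊥, v, w, x, y, hn v, hn w, hn x, hn y, ?_, ?_, ?_, ?_, ?_, ?_, ?_, ?_⟩
  · rw [Subgroup.mem_bot]; exact hv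
  · rw [Subgroup.mem_bot]; exact hw
  · rw [Subgroup.mem_bot, hvw]; group
  · intro i j hij
    exact hind i j (by simpa using hij)
  · rw [Subgroup.mem_bot, hxv]; group
  · rw [Subgroup.mem_bot, hxw]; group
  · rw [Subgroup.mem_bot, hyv]; group
  · rw [Subgroup.mem_bot, hyw]; group

end maps

section involves

variable [hp : Fact p.Prime]

/-- a configuration gives a section isomorphic to `Qd(p)` -/
theorem QdCfg0.involves (hp2 : p ≠ 2) {Z : Type*} [Group Z] [Finite Z] (h : QdCfg0 p Z) :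
    Involves ↥(qd p) Z := by
  obtain ⟨V₀, v, w, x, y, h1, h2, h3, h4, h5, h6, h7, h8, h9, h10, h11, h12⟩ := h
  set M := Subgroup.normalizer (V₀ : Set Z) with hM
  haveI hn : (V₀.subgroupOf M).Normal := Subgroup.normal_in_normalizer
  set π := QuotientGroup.mk' (V₀.subgroupOf M) with hπ
  have key : ∀ a b : ↥M, (a : Z) * (b : Z)⁻¹ ∈ V₀ → π a = π b := by
    intro a b hab
    have h0 : a * b⁻¹ ∈ V₀.subgroupOf M := by
      rw [Subgroup.mem_subgroupOf]
      simpa using hab
    have h00 : π (a * b⁻¹) = 1 := (QuotientGroup.eq_one_iff _).mpr h0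
    rw [map_mul, map_inv, mul_inv_eq_one] at h00
    exact h00
  have key1 : ∀ a : ↥M, (a : Z) ∈ V₀ → π a = 1 := by
    intro a ha
    exact (QuotientGroup.eq_one_iff _).mpr (Subgroup.mem_subgroupOf.mpr ha)
  have key1' : ∀ a : ↥M, π a = 1 → (a : Z) ∈ V₀ := by
    intro a ha
    exact Subgroup.mem_subgroupOf.mp ((QuotientGroup.eq_one_iff _).mp ha)
  set v' : ↥M := ⟨v, h1⟩
  set w' : ↥M := ⟨w, h2⟩
  set x' : ↥M := ⟨x, h3⟩
  set y' : ↥M := ⟨y, h4⟩
  have hpair : IsQdPair p (π v') (π w') (π x') (π y') := by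
    refine ⟨?_, ?_, ?_, ?_, ?_, ?_, ?_, ?_⟩
    · rw [← map_pow]
      exact key1 _ (by simpa using h5)
    · rw [← map_pow]
      exact key1 _ (by simpa using h6)
    · rw [← map_mul, ← map_mul]
      exact key _ _ (by simpa using h7)
    · intro i j hij
      apply h8
      rw [← map_pow, ← map_pow, ← map_mul] at hij
      simpa using key1' _ hij
    · rw [← map_inv, ← map_mul, ← map_mul]
      exact key _ _ (by simpa using h9)
    · rw [← map_inv, ← map_mul, ← map_mul, ← map_mul]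
      exact key _ _ (by simpa using h10)
    · rw [← map_inv, ← map_mul, ← map_mul, ← map_mul]
      exact key _ _ (by simpa using h11)
    · rw [← map_inv, ← map_mul, ← map_mul]
      exact key _ _ (by simpa using h12)
  have hq : Involves ↥(qd p) (↥M ⧸ V₀.subgroupOf M) :=
    involves_qd_of_isQdPair hp2 _ _ _ _ hpair
  exact involves_of_involves_subgroup M
    (involves_of_involves_quotient π (QuotientGroup.mk'_surjective _) hq)

/-- Glauberman's lemma for an arbitrary property implied by pairs, inherited from quotients and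
from subgroups. -/
theorem prop_of_not_isNormalizerPStable (hDL : DLHyp p) (T : ∀ (Z : Type u) [Group Z], Prop)
    (hT_pair : ∀ (Z : Type u) [Group Z] [Finite Z] (v w x y : Z), IsQdPair p v w x y → T Z)
    (hT_quot : ∀ (Z : Type u) [Group Z] [Finite Z] (N : Subgroup Z) [N.Normal], T (Z ⧸ N) → T Z)
    (hT_sub : ∀ (Z : Type u) [Group Z] [Finite Z] (K : Subgroup Z), T ↥K → T Z)
    {X : Type u} [Group X] [Finite X] (hns : ¬ Cfsg.IsNormalizerPStable p X) : T X := by
  unfold Cfsg.IsNormalizerPStable at hns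
  push Not at hns
  obtain ⟨P, hPp, g, hg, hq, hnot⟩ := hns
  set N := Subgroup.normalizer (P : Set X) with hN
  have hPN : P ≤ N := Subgroup.le_normalizer
  haveI hP'n : (P.subgroupOf N).Normal := Subgroup.normal_in_normalizer
  have hP'p : IsPGroup p ↥(P.subgroupOf N) := hPp.comap_subtype
  have hq' : ⁅⁅P.subgroupOf N, Subgroup.zpowers (⟨g, hg⟩ : ↥N)⁆,
      Subgroup.zpowers (⟨g, hg⟩ : ↥N)⁆ = ⊥ := by
    apply Cfsg.Agent.Helper10.quad_of_map N.subtype N.subtype_injective
    rw [Subgroup.subgroupOf_map_subtype, inf_eq_left.mpr hPN]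
    exact hq
  apply hT_sub X N
  refine glauberman_core hDL T hT_pair hT_quot (Nat.card ↥N) ↥N rfl (P.subgroupOf N) hP'p
    ⟨g, hg⟩ hq' ?_
  intro L hLn hL hgL
  apply hnot
  haveI := hLn
  set C' := (Subgroup.centralizer (P : Set X)).subgroupOf N with hC'
  have hmapn : (L.map (QuotientGroup.mk' C')).Normal :=
    hLn.map _ (QuotientGroup.mk'_surjective C')
  have hmapp : IsPGroup p ↥(L.map (QuotientGroup.mk' C')) := by
    rintro ⟨_, l, hl, rfl⟩
    obtain ⟨k, hk⟩ := hL l hl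
    refine ⟨k, ?_⟩
    apply Subtype.ext
    rw [Subgroup.coe_pow, Subgroup.coe_one, ← map_pow]
    apply (QuotientGroup.eq_one_iff _).mpr
    rw [hC', Subgroup.mem_subgroupOf, Subgroup.mem_centralizer_iff]
    intro x hx
    have h1 := (Subgroup.mem_centralizer_iff.mp hk) ⟨x, hPN hx⟩
      (Subgroup.mem_subgroupOf.mpr hx)
    exact congrArg Subtype.val h1
  exact Cfsg.Agent.Helper10.le_pCore hmapn hmapp (Subgroup.mem_map_of_mem _ hgL)

/-- a finite group involving `Qd(p)` (`p` odd) contains a configuration -/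
theorem QdCfg0.of_involves (hp2 : p ≠ 2) {Z : Type u} [Group Z] [Finite Z]
    (h : Involves ↥(qd p) Z) : QdCfg0 p Z := by
  have hDL : DLHyp p := Cfsg.Agent.Helper11.QP.dlHyp p hp2
  have h1 := (qdFree_iff_sections_stable hDL (G := Z) hp2).not.mp (not_not.mpr h)
  push Not at h1
  obtain ⟨K, R, hR, hns⟩ := h1
  have h2 : QdCfg0 p (↥K ⧸ R.subgroupOf K) :=
    prop_of_not_isNormalizerPStable hDL (fun Z _ => QdCfg0 p Z)
      (fun Z _ _ v w x y h => QdCfg0.of_isQdPair h)
      (fun Z _ _ N _ h => QdCfg0.of_quotient N h)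
      (fun Z _ _ K h => QdCfg0.of_subgroup K h) hns
  exact QdCfg0.of_subgroup K (QdCfg0.of_quotient _ h2)

theorem involves_qd_iff_qdCfg0 (hp2 : p ≠ 2) {Z : Type u} [Group Z] [Finite Z] :
    Involves ↥(qd p) Z ↔ QdCfg0 p Z :=
  ⟨QdCfg0.of_involves hp2, QdCfg0.involves hp2⟩

end involves

end Cfsg.Agent.Helper30.QC
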