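import Cfsg.Agent.Lib.Helper30.QdCfgA
import Cfsg.Agent.Lib.Helper30.LocalInvolves

/-!
# Refining a `Qd(p)`-pair modulo a subgroup to one living in a `p`-subgroup
-/

set_option autoImplicit false
set_option linter.style.haveILetI false
set_option linter.unusedSectionVars false
set_option linter.unusedVariables false

namespace Cfsg.Agent.Helper30.QC

open Cfsg Cfsg.Agent.Helper33 Cfsg.Agent.Helper46 Cfsg.Agent.Helper11.QP

universe u

variable {p : ℕ}

/-- strong configuration: the pair lives in a `p`-subgroup `V` normalized by `x` and `y`. -/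
def StrongCfg (p : ℕ) (Z : Type*) [Group Z] : Prop :=
  ∃ (V V₀ : Subgroup Z) (v w x y : Z), IsPGroup p V ∧ V₀ ≤ V ∧ v ∈ V ∧ w ∈ V ∧
    x ∈ Subgroup.normalizer (V : Set Z) ∧ y ∈ Subgroup.normalizer (V : Set Z) ∧
    PairMod p V₀ v w x y

theorem StrongCfg.qdCfg0 {Z : Type*} [Group Z] (h : StrongCfg p Z) : QdCfg0 p Z := by
  obtain ⟨V, V₀, v, w, x, y, -, -, -, -, -, -, h⟩ := h
  exact ⟨V₀, v, w, x, y, h⟩

theorem isPGroup_zpowers_of_pow_eq_one {Z : Type*} [Group Z] {a : Z} (h : a ^ p = 1) :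
    IsPGroup p ↥(Subgroup.zpowers a) := by
  rintro ⟨g, hg⟩
  obtain ⟨k, rfl⟩ := Subgroup.mem_zpowers_iff.mp hg
  refine ⟨1, ?_⟩
  apply Subtype.ext
  simp only [pow_one, Subgroup.coe_pow, Subgroup.coe_one]
  rw [← zpow_natCast, ← zpow_mul, mul_comm, zpow_mul, zpow_natCast, h, one_zpow]

theorem mem_normalizer_inf {Z : Type*} [Group Z] {A B : Subgroup Z} {g : Z}
    (hA : g ∈ Subgroup.normalizer (A : Set Z)) (hB : g ∈ Subgroup.normalizer (B : Set Z)) :
    g ∈ Subgroup.normalizer ((A ⊓ B : Subgroup Z) : Set Z) := by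
  rw [Subgroup.mem_normalizer_iff] at hA hB ⊢
  intro h
  rw [Subgroup.mem_inf, Subgroup.mem_inf, hA h, hB h]

/-- the quotient pair attached to a pair modulo `V₀`. -/
theorem PairMod.isQdPair {Z : Type*} [Group Z] {V₀ : Subgroup Z} {v w x y : Z}
    (h : PairMod p V₀ v w x y) :
    IsQdPair p
      (QuotientGroup.mk' (V₀.subgroupOf (Subgroup.normalizer (V₀ : Set Z))) ⟨v, h.1⟩)
      (QuotientGroup.mk' (V₀.subgroupOf (Subgroup.normalizer (V₀ : Set Z))) ⟨w, h.2.1⟩)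
      (QuotientGroup.mk' (V₀.subgroupOf (Subgroup.normalizer (V₀ : Set Z))) ⟨x, h.2.2.1⟩)
      (QuotientGroup.mk' (V₀.subgroupOf (Subgroup.normalizer (V₀ : Set Z))) ⟨y, h.2.2.2.1⟩) := by
  obtain ⟨h1, h2, h3, h4, h5, h6, h7, h8, h9, h10, h11, h12⟩ := h
  set M := Subgroup.normalizer (V₀ : Set Z) with hM
  set π := QuotientGroup.mk' (V₀.subgroupOf M) with hπ
  have key : ∀ a b : ↥M, (a : Z) * (b : Z)⁻¹ ∈ V₀ → π a = π b := by
    intro a b hab
    have h0 : a * b⁻¹ ∈ V₀.subgroupOf M := by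
      rw [Subgroup.mem_subgroupOf]
      simpa using hab
    have h00 : π (a * b⁻¹) = 1 := (QuotientGroup.eq_one_iff _).mpr h0
    rw [map_mul, map_inv, mul_inv_eq_one] at h00
    exact h00
  have key1 : ∀ a : ↥M, (a : Z) ∈ V₀ → π a = 1 := by
    intro a ha
    exact (QuotientGroup.eq_one_iff _).mpr (Subgroup.mem_subgroupOf.mpr ha)
  have key1' : ∀ a : ↥M, π a = 1 → (a : Z) ∈ V₀ := by
    intro a ha
    exact Subgroup.mem_subgroupOf.mp ((QuotientGroup.eq_one_iff _).mp ha)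
  refine ⟨?_, ?_, ?_, ?_, ?_, ?_, ?_, ?_⟩
  · rw [← map_pow]
    exact key1 _ (by simpa using h5)
  · rw [← map_pow]
    exact key1 _ (by simpa using h6)
  · rw [← map_mul, ← map_mul]
    exact key _ _ (by simpa using h7)
  · intro i j hij
    apply h8
    rw [← map_pow, ← map_pow, ← map_mul] at hij
    simpa using key1' _ hij
  · rw [← map_inv, ← map_mul, ← map_mul]
    exact key _ _ (by simpa using h9)
  · rw [← map_inv, ← map_mul, ← map_mul, ← map_mul]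
    exact key _ _ (by simpa using h10)
  · rw [← map_inv, ← map_mul, ← map_mul, ← map_mul]
    exact key _ _ (by simpa using h11)
  · rw [← map_inv, ← map_mul, ← map_mul]
    exact key _ _ (by simpa using h12)

variable [hp : Fact p.Prime]

/-- **Refinement**: in a finite group a configuration can be chosen inside a `p`-subgroup. -/
theorem QdCfg0.strong {Z : Type*} [Group Z] [Finite Z] (h : QdCfg0 p Z) : StrongCfg p Z := by
  obtain ⟨U₀, v, w, x, y, hpm⟩ := h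
  have hpair := hpm.isQdPair
  set M := Subgroup.normalizer (U₀ : Set Z) with hM
  set U₀' := U₀.subgroupOf M with hU₀'
  set π := QuotientGroup.mk' U₀' with hπ
  set v' : ↥M := ⟨v, hpm.1⟩ with hv'
  set w' : ↥M := ⟨w, hpm.2.1⟩ with hw'
  set x' : ↥M := ⟨x, hpm.2.2.1⟩ with hx'
  set y' : ↥M := ⟨y, hpm.2.2.2.1⟩ with hy'
  set a := π v' with ha
  set b := π w' with hb
  set xb := π x' with hxb
  set yb := π y' with hyb
  obtain ⟨hav, hbw, hab, hind, hxa, hxbb, hya, hyb'⟩ := hpair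
  -- the elementary abelian group `Ā`
  set A : Subgroup (↥M ⧸ U₀') := Subgroup.zpowers a ⊔ Subgroup.zpowers b with hA
  have haA : a ∈ A := (le_sup_left : Subgroup.zpowers a ≤ A) (Subgroup.mem_zpowers a)
  have hbA : b ∈ A := (le_sup_right : Subgroup.zpowers b ≤ A) (Subgroup.mem_zpowers b)
  have hcomm : Commute a b := hab
  have hAp : IsPGroup p ↥A := by
    apply IsPGroup.to_sup_of_normal_right' (isPGroup_zpowers_of_pow_eq_one hav)
      (isPGroup_zpowers_of_pow_eq_one hbw)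
    rw [Subgroup.zpowers_le]
    apply Subgroup.centralizer_le_normalizer
    rw [Subgroup.mem_centralizer_iff]
    intro h hh
    obtain ⟨k, rfl⟩ := Subgroup.mem_zpowers_iff.mp hh
    exact ((hcomm.zpow_right k).eq).symm
  -- `x̄`, `ȳ` normalize `Ā`
  have hnormA : ∀ g : ↥M ⧸ U₀', g * a * g⁻¹ ∈ A → g * b * g⁻¹ ∈ A →
      g ∈ Subgroup.normalizer (A : Set (↥M ⧸ U₀')) := by
    intro g hga hgb
    apply Subgroup.mem_normalizer_fintype
    intro n hn
    have hle : A.map (MulAut.conj g).toMonoidHom ≤ A := by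
      rw [hA, Subgroup.map_sup, MonoidHom.map_zpowers, MonoidHom.map_zpowers]
      apply sup_le
      · rw [Subgroup.zpowers_le]
        exact hga
      · rw [Subgroup.zpowers_le]
        exact hgb
    exact hle ⟨n, hn, rfl⟩
  have hxbA : xb ∈ Subgroup.normalizer (A : Set (↥M ⧸ U₀')) := by
    apply hnormA
    · rw [hxa]; exact haA
    · rw [hxbb]; exact A.mul_mem hbA haA
  have hybA : yb ∈ Subgroup.normalizer (A : Set (↥M ⧸ U₀')) := by
    apply hnormA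
    · rw [hya]; exact A.mul_mem haA hbA
    · rw [hyb']; exact hbA
  -- the preimage and its Sylow subgroup
  set V₁ : Subgroup ↥M := A.comap π with hV₁
  have hπsurj : Function.Surjective π := QuotientGroup.mk'_surjective U₀'
  set f : ↥V₁ →* ↥A := π.subgroupComap A with hf
  have hfsurj : Function.Surjective f := MonoidHom.subgroupComap_surjective_of_surjective π A hπsurj
  obtain ⟨P⟩ : Nonempty (Sylow p ↥V₁) := inferInstance
  have hPtop : (P : Subgroup ↥V₁).map f = ⊤ := by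
    have h1 := (P.mapSurjective hfsurj).is_maximal' (hAp.to_subgroup ⊤) le_top
    rw [Sylow.coe_mapSurjective] at h1
    exact h1.symm
  set T : Subgroup ↥M := (P : Subgroup ↥V₁).map V₁.subtype with hT
  have hTsyl : IsSylIn p T V₁ := isSylIn_of_sylow V₁ P
  have hTp : IsPGroup p ↥T := hTsyl.isPGroup
  -- (K1)
  have K1 : ∀ m ∈ V₁, ∃ t ∈ T, π t = π m := by
    intro m hm
    have h1 : f ⟨m, hm⟩ ∈ (P : Subgroup ↥V₁).map f := by rw [hPtop]; trivial
    obtain ⟨s, hs, hse⟩ := h1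
    refine ⟨(s : ↥M), ⟨s, hs, rfl⟩, ?_⟩
    have := congrArg Subtype.val hse
    exact this
  -- (K2)
  have K2 : ∀ n ∈ Subgroup.normalizer (V₁ : Set ↥M), ∃ n₁ : ↥M, π n₁ = π n ∧
      n₁ ∈ Subgroup.normalizer (T : Set ↥M) := by
    intro n hn
    obtain ⟨b₀, hb₀, hb₀n⟩ := Cfsg.Agent.Helper30.LI.frattini_elt' hTsyl (le_refl _) n hn
    obtain ⟨t, ht, hte⟩ := K1 b₀ hb₀
    refine ⟨t⁻¹ * b₀ * n, ?_, ?_⟩
    · rw [map_mul, map_mul, map_inv, hte, inv_mul_cancel, one_mul]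
    · have h1 : t⁻¹ ∈ Subgroup.normalizer (T : Set ↥M) :=
        Subgroup.le_normalizer (T.inv_mem ht)
      have h2 := Subgroup.mul_mem _ h1 hb₀n
      rwa [← mul_assoc] at h2
  have hv'V₁ : v' ∈ V₁ := haA
  have hw'V₁ : w' ∈ V₁ := hbA
  have hx'N : x' ∈ Subgroup.normalizer (V₁ : Set ↥M) := mem_normalizer_comap π A hxbA
  have hy'N : y' ∈ Subgroup.normalizer (V₁ : Set ↥M) := mem_normalizer_comap π A hybA
  obtain ⟨v₁, hv₁T, hv₁⟩ := K1 v' hv'V₁
  obtain ⟨w₁, hw₁T, hw₁⟩ := K1 w' hw'V₁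
  obtain ⟨x₁, hπx₁, hxN⟩ := K2 x' hx'N
  obtain ⟨y₁, hπy₁, hyN⟩ := K2 y' hy'N
  change π x₁ = xb at hπx₁
  change π y₁ = yb at hπy₁
  have hπv₁ : π v₁ = a := hv₁
  have hπw₁ : π w₁ = b := hw₁
  set V : Subgroup Z := T.map M.subtype with hV
  have hVp : IsPGroup p ↥V := hTp.map _
  have hmem : ∀ r : ↥M, r ∈ T → π r = 1 → (r : Z) ∈ V ⊓ U₀ := by
    intro r hr hr1
    refine Subgroup.mem_inf.mpr ⟨⟨r, hr, rfl⟩, ?_⟩
    exact Subgroup.mem_subgroupOf.mp ((QuotientGroup.eq_one_iff _).mp hr1)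
  have hconjT : ∀ n : ↥M, n ∈ Subgroup.normalizer (T : Set ↥M) → ∀ t ∈ T, n * t * n⁻¹ ∈ T := by
    intro n hn t ht
    exact (Subgroup.mem_normalizer_iff.mp hn t).mp ht
  have hnormV : ∀ n : ↥M, n ∈ Subgroup.normalizer (T : Set ↥M) →
      (n : Z) ∈ Subgroup.normalizer (V : Set Z) := by
    intro n hn
    exact mem_normalizer_map M.subtype T hn
  have hnormV₀ : ∀ n : ↥M, n ∈ Subgroup.normalizer (T : Set ↥M) →
      (n : Z) ∈ Subgroup.normalizer ((V ⊓ U₀ : Subgroup Z) : Set Z) := by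
    intro n hn
    exact mem_normalizer_inf (hnormV n hn) n.2
  have hTN : ∀ t ∈ T, t ∈ Subgroup.normalizer (T : Set ↥M) := fun t ht => Subgroup.le_normalizer ht
  refine ⟨V, V ⊓ U₀, (v₁ : Z), (w₁ : Z), (x₁ : Z), (y₁ : Z), hVp, inf_le_left, ⟨v₁, hv₁T, rfl⟩,
    ⟨w₁, hw₁T, rfl⟩, hnormV x₁ hxN, hnormV y₁ hyN, ?_⟩
  refine ⟨hnormV₀ v₁ (hTN v₁ hv₁T), hnormV₀ w₁ (hTN w₁ hw₁T), hnormV₀ x₁ hxN, hnormV₀ y₁ hyN,
    ?_, ?_, ?_, ?_, ?_, ?_, ?_, ?_⟩
  · have := hmem (v₁ ^ p) (T.pow_mem hv₁T p) (by rw [map_pow, hπv₁, hav])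
    simpa using this
  · have := hmem (w₁ ^ p) (T.pow_mem hw₁T p) (by rw [map_pow, hπw₁, hbw])
    simpa using this
  · have := hmem (v₁ * w₁ * (w₁ * v₁)⁻¹)
      (T.mul_mem (T.mul_mem hv₁T hw₁T) (T.inv_mem (T.mul_mem hw₁T hv₁T)))
      (by rw [map_mul, map_mul, map_inv, map_mul, hπv₁, hπw₁, hab, mul_inv_cancel])
    simpa using this
  · intro i j hij
    apply hind
    have h1 : ((v₁ ^ i * w₁ ^ j : ↥M) : Z) ∈ U₀ := by
      have := (Subgroup.mem_inf.mp hij).2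
      simpa using this
    have h2 : π (v₁ ^ i * w₁ ^ j) = 1 :=
      (QuotientGroup.eq_one_iff _).mpr (Subgroup.mem_subgroupOf.mpr h1)
    rw [map_mul, map_pow, map_pow, hπv₁, hπw₁] at h2
    exact h2
  · have := hmem (x₁ * v₁ * x₁⁻¹ * v₁⁻¹)
      (T.mul_mem (hconjT x₁ hxN v₁ hv₁T) (T.inv_mem hv₁T))
      (by rw [map_mul, map_mul, map_mul, map_inv, map_inv, hπv₁, hπx₁, hxa, mul_inv_cancel])
    simpa using this
  · have := hmem (x₁ * w₁ * x₁⁻¹ * (w₁ * v₁)⁻¹)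
      (T.mul_mem (hconjT x₁ hxN w₁ hw₁T) (T.inv_mem (T.mul_mem hw₁T hv₁T)))
      (by rw [map_mul, map_mul, map_mul, map_inv, map_inv, map_mul, hπv₁, hπw₁, hπx₁, hxbb,
        mul_inv_cancel])
    simpa using this
  · have := hmem (y₁ * v₁ * y₁⁻¹ * (v₁ * w₁)⁻¹)
      (T.mul_mem (hconjT y₁ hyN v₁ hv₁T) (T.inv_mem (T.mul_mem hv₁T hw₁T)))
      (by rw [map_mul, map_mul, map_mul, map_inv, map_inv, map_mul, hπv₁, hπw₁, hπy₁, hya,
        mul_inv_cancel])
    simpa using this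
  · have := hmem (y₁ * w₁ * y₁⁻¹ * w₁⁻¹)
      (T.mul_mem (hconjT y₁ hyN w₁ hw₁T) (T.inv_mem hw₁T))
      (by rw [map_mul, map_mul, map_mul, map_inv, map_inv, hπw₁, hπy₁, hyb', mul_inv_cancel])
    simpa using this

end Cfsg.Agent.Helper30.QC
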