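import Cfsg.Agent.Lib.Helper30.QdCfgB
import Cfsg.Prelude.Def_FusionSystem

/-!
# Transporting a `Qd(p)`-configuration from a group realizing a fusion subsystem to the ambient group
-/

set_option autoImplicit false
set_option linter.style.haveILetI false
set_option linter.unusedSectionVars false
set_option linter.unusedVariables false

namespace Cfsg.Agent.Helper30.QC

open Cfsg Cfsg.Agent.Helper33 Cfsg.Agent.Helper46 Cfsg.Agent.Helper11.QP

universe u

variable {p : ℕ}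

/-- strong configurations are preserved by injective homomorphisms, with the data -/
theorem strongData_map {Z Y : Type*} [Group Z] [Group Y] (f : Z →* Y) (hf : Function.Injective f)
    {V V₀ : Subgroup Z} {v w x y : Z} (hVp : IsPGroup p V) (hV₀V : V₀ ≤ V) (hvV : v ∈ V)
    (hwV : w ∈ V) (hxV : x ∈ Subgroup.normalizer (V : Set Z))
    (hyV : y ∈ Subgroup.normalizer (V : Set Z)) (hpm : PairMod p V₀ v w x y) :
    IsPGroup p ↥(V.map f) ∧ V₀.map f ≤ V.map f ∧ f v ∈ V.map f ∧ f w ∈ V.map f ∧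
      f x ∈ Subgroup.normalizer ((V.map f : Subgroup Y) : Set Y) ∧
      f y ∈ Subgroup.normalizer ((V.map f : Subgroup Y) : Set Y) ∧
      PairMod p (V₀.map f) (f v) (f w) (f x) (f y) :=
  ⟨hVp.map f, Subgroup.map_mono hV₀V, Subgroup.mem_map_of_mem f hvV, Subgroup.mem_map_of_mem f hwV,
    mem_normalizer_map f V hxV, mem_normalizer_map f V hyV, hpm.map_injective f hf⟩

section pull

variable {G : Type*} [Group G] {L : Type*} [Group L]

/-- conjugation by `n : L`, pulled back along `ι : S₁ →* L` to a homomorphism `R →* G`. -/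
noncomputable def pullConjG (S₁ : Subgroup G) (ι : ↥S₁ →* L) (hι : Function.Injective ι)
    (R : Subgroup G) (hR : R ≤ S₁) (n : L)
    (h : ∀ r : R, n * ι ⟨r, hR r.2⟩ * n⁻¹ ∈ ι.range) : R →* G :=
  S₁.subtype.comp ((MonoidHom.ofInjective hι).symm.toMonoidHom.comp
    (((MulAut.conj n).toMonoidHom.comp (ι.comp (Subgroup.inclusion hR))).codRestrict ι.range h))

theorem pullConjG_mem (S₁ : Subgroup G) (ι : ↥S₁ →* L) (hι : Function.Injective ι)
    (R : Subgroup G) (hR : R ≤ S₁) (n : L)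
    (h : ∀ r : R, n * ι ⟨r, hR r.2⟩ * n⁻¹ ∈ ι.range) (r : R) :
    pullConjG S₁ ι hι R hR n h r ∈ S₁ := by
  unfold pullConjG
  simp only [MonoidHom.comp_apply, Subgroup.subtype_apply]
  exact Subtype.property _

theorem pullConjG_spec (S₁ : Subgroup G) (ι : ↥S₁ →* L) (hι : Function.Injective ι)
    (R : Subgroup G) (hR : R ≤ S₁) (n : L)
    (h : ∀ r : R, n * ι ⟨r, hR r.2⟩ * n⁻¹ ∈ ι.range) (r : R) :
    ι ⟨pullConjG S₁ ι hι R hR n h r, pullConjG_mem S₁ ι hι R hR n h r⟩ =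
      n * ι ⟨r, hR r.2⟩ * n⁻¹ := by
  have h1 : (⟨pullConjG S₁ ι hι R hR n h r, pullConjG_mem S₁ ι hι R hR n h r⟩ : ↥S₁) =
      (MonoidHom.ofInjective hι).symm
        ((((MulAut.conj n).toMonoidHom.comp (ι.comp (Subgroup.inclusion hR))).codRestrict
          ι.range h) r) := by
    apply Subtype.ext
    rfl
  rw [h1, MonoidHom.apply_ofInjective_symm]
  rfl

end pull

variable [hp : Fact p.Prime]

/-- **Transport**: if a fusion system `N` over `S₁ ≤ G`, all of whose maps are conjugations by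
elements of `G`, is realized by `ι : S₁ →* L` with image a Sylow `p`-subgroup of the finite group
`L`, then a configuration in `L` gives a configuration in `G`. -/
theorem qdCfg0_of_realized {G : Type*} [Group G] [Finite G] {S₁ : Subgroup G}
    (N : FusionSystem S₁)
    (hsub : ∀ (R : Subgroup G) (φ : R →* G), φ ∈ N.Hom R → ∃ g : G, ∀ x : R, φ x = g * x * g⁻¹)
    {L : Type*} [Group L] [Finite L] (ι : ↥S₁ →* L) (hreal : N.IsRealizedBy ι)
    (T : Sylow p L) (hT : (T : Subgroup L) = ι.range) (h : QdCfg0 p L) : QdCfg0 p G := by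
  obtain ⟨hι, hiff⟩ := hreal
  obtain ⟨V, V₀, v, w, x, y, hVp, hV₀V, hvV, hwV, hxV, hyV, hpm⟩ := h.strong
  -- conjugate into `T`
  obtain ⟨l, -, hl⟩ := (isSylIn_top T).exists_conj_le hVp le_top
  obtain ⟨hVp, hV₀V, hvV, hwV, hxV, hyV, hpm⟩ :=
    strongData_map (MulAut.conj l).toMonoidHom (MulAut.conj l).injective hVp hV₀V hvV hwV hxV hyV hpm
  have hVr : V.map (MulAut.conj l).toMonoidHom ≤ ι.range := by
    rw [← hT]
    exact hl
  generalize V.map (MulAut.conj l).toMonoidHom = V at hVp hV₀V hvV hwV hxV hyV hVr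
  generalize V₀.map (MulAut.conj l).toMonoidHom = V₀ at hV₀V hpm
  generalize (MulAut.conj l).toMonoidHom v = v at hvV hpm
  generalize (MulAut.conj l).toMonoidHom w = w at hwV hpm
  generalize (MulAut.conj l).toMonoidHom x = x at hxV hpm
  generalize (MulAut.conj l).toMonoidHom y = y at hyV hpm
  clear hl l
  -- the pulled back subgroups
  set W : Subgroup ↥S₁ := V.comap ι with hW
  set W₀ : Subgroup ↥S₁ := V₀.comap ι with hW₀
  have hW₀W : W₀ ≤ W := Subgroup.comap_mono hV₀V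
  -- realize an element of `N_L(V)`
  have realize : ∀ n : L, n ∈ Subgroup.normalizer (V : Set L) → ∃ g : G, ∀ s ∈ W,
      ∃ t ∈ W, (t : G) = g * (s : G) * g⁻¹ ∧ ι t = n * ι s * n⁻¹ := by
    intro n hn
    set R : Subgroup G := W.map S₁.subtype with hR
    have hRS : R ≤ S₁ := Subgroup.map_subtype_le W
    have hRmem : ∀ r : R, (⟨r, hRS r.2⟩ : ↥S₁) ∈ W := by
      rintro ⟨_, s, hs, rfl⟩
      exact hs
    have hnV : ∀ r : R, n * ι ⟨r, hRS r.2⟩ * n⁻¹ ∈ V := by
      intro r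
      exact (Subgroup.mem_normalizer_iff.mp hn _).mp (hRmem r)
    have hnr : ∀ r : R, n * ι ⟨r, hRS r.2⟩ * n⁻¹ ∈ ι.range := fun r => hVr (hnV r)
    set φ := pullConjG S₁ ι hι R hRS n hnr with hφ
    have hφS : ∀ r : R, φ r ∈ S₁ := pullConjG_mem S₁ ι hι R hRS n hnr
    have hφN : φ ∈ N.Hom R := by
      rw [hiff R hRS φ hφS]
      exact ⟨n, fun r => pullConjG_spec S₁ ι hι R hRS n hnr r⟩
    obtain ⟨g, hg⟩ := hsub R φ hφN
    refine ⟨g, fun s hs => ?_⟩
    set r : R := ⟨(s : G), ⟨s, hs, rfl⟩⟩ with hr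
    have hspec := pullConjG_spec S₁ ι hι R hRS n hnr r
    have hsr : (⟨(r : G), hRS r.2⟩ : ↥S₁) = s := Subtype.ext rfl
    rw [hsr] at hspec
    refine ⟨⟨φ r, hφS r⟩, ?_, ?_, hspec⟩
    · show ι ⟨φ r, hφS r⟩ ∈ V
      rw [hspec]
      have := hnV r
      rwa [hsr] at this
    · exact hg r
  -- elements of `W` over `v`, `w`
  obtain ⟨sv, hsv⟩ := hVr hvV
  obtain ⟨sw, hsw⟩ := hVr hwV
  have hsvW : sv ∈ W := by show ι sv ∈ V; rw [hsv]; exact hvV
  have hswW : sw ∈ W := by show ι sw ∈ V; rw [hsw]; exact hwV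
  obtain ⟨gx, hgx⟩ := realize x hxV
  obtain ⟨gy, hgy⟩ := realize y hyV
  obtain ⟨h1, h2, h3, h4, h5, h6, h7, h8, h9, h10, h11, h12⟩ := hpm
  set U₀ : Subgroup G := W₀.map S₁.subtype with hU₀
  have hmemU₀ : ∀ s : ↥S₁, ι s ∈ V₀ → (s : G) ∈ U₀ := fun s hs => ⟨s, hs, rfl⟩
  have hmemU₀' : ∀ s : ↥S₁, (s : G) ∈ U₀ → ι s ∈ V₀ := by
    rintro s ⟨s', hs', he⟩
    have : s' = s := Subtype.ext he
    rw [← this]
    exact hs'
  -- normalizer conditions
  have hnormW : ∀ s ∈ W, ι s ∈ Subgroup.normalizer (V₀ : Set L) →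
      (s : G) ∈ Subgroup.normalizer (U₀ : Set G) := by
    intro s hs hsn
    apply Subgroup.mem_normalizer_fintype
    rintro _ ⟨s₀, hs₀, rfl⟩
    have : (s : G) * (S₁.subtype s₀) * (s : G)⁻¹ = ((s * s₀ * s⁻¹ : ↥S₁) : G) := by simp
    rw [this]
    apply hmemU₀
    rw [map_mul, map_mul, map_inv]
    exact (Subgroup.mem_normalizer_iff.mp hsn _).mp hs₀
  have hnormg : ∀ (n : L) (g : G), n ∈ Subgroup.normalizer (V₀ : Set L) →
      (∀ s ∈ W, ∃ t ∈ W, (t : G) = g * (s : G) * g⁻¹ ∧ ι t = n * ι s * n⁻¹) →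
      g ∈ Subgroup.normalizer (U₀ : Set G) := by
    intro n g hn hg
    apply Subgroup.mem_normalizer_fintype
    rintro _ ⟨s₀, hs₀, rfl⟩
    obtain ⟨t, htW, hte, hti⟩ := hg s₀ (hW₀W hs₀)
    have : g * (S₁.subtype s₀) * g⁻¹ = (t : G) := hte.symm
    rw [this]
    apply hmemU₀
    rw [hti]
    exact (Subgroup.mem_normalizer_iff.mp hn _).mp hs₀
  obtain ⟨tx1, htx1W, htx1e, htx1i⟩ := hgx sv hsvW
  obtain ⟨tx2, htx2W, htx2e, htx2i⟩ := hgx sw hswW
  obtain ⟨ty1, hty1W, hty1e, hty1i⟩ := hgy sv hsvW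
  obtain ⟨ty2, hty2W, hty2e, hty2i⟩ := hgy sw hswW
  refine ⟨U₀, (sv : G), (sw : G), gx, gy, hnormW sv hsvW (by rw [hsv]; exact h1),
    hnormW sw hswW (by rw [hsw]; exact h2), hnormg x gx h3 hgx, hnormg y gy h4 hgy,
    ?_, ?_, ?_, ?_, ?_, ?_, ?_, ?_⟩
  · have := hmemU₀ (sv ^ p) (by rw [map_pow, hsv]; exact h5)
    simpa using this
  · have := hmemU₀ (sw ^ p) (by rw [map_pow, hsw]; exact h6)
    simpa using this
  · have := hmemU₀ (sv * sw * (sw * sv)⁻¹) (by
      rw [map_mul, map_mul, map_inv, map_mul, hsv, hsw]; exact h7)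
    simpa using this
  · intro i j hij
    apply h8
    have h0 : ((sv ^ i * sw ^ j : ↥S₁) : G) ∈ U₀ := by simpa using hij
    have := hmemU₀' _ h0
    rwa [map_mul, map_pow, map_pow, hsv, hsw] at this
  · have := hmemU₀ (tx1 * sv⁻¹) (by
      rw [map_mul, map_inv, htx1i, hsv]; exact h9)
    rw [← htx1e]
    simpa using this
  · have := hmemU₀ (tx2 * (sw * sv)⁻¹) (by
      rw [map_mul, map_inv, map_mul, htx2i, hsv, hsw]; exact h10)
    rw [← htx2e]
    simpa using this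
  · have := hmemU₀ (ty1 * (sv * sw)⁻¹) (by
      rw [map_mul, map_inv, map_mul, hty1i, hsv, hsw]; exact h11)
    rw [← hty1e]
    simpa using this
  · have := hmemU₀ (ty2 * sw⁻¹) (by
      rw [map_mul, map_inv, hty2i, hsw]; exact h12)
    rw [← hty2e]
    simpa using this

end Cfsg.Agent.Helper30.QC
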