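import Mathlib
import Cfsg.Prelude.Def_FusionSystem

/-!
# The normalizer system of a group fusion system
-/

set_option autoImplicit false
set_option linter.style.haveILetI false
set_option linter.unusedSectionVars false
set_option linter.unusedVariables false

namespace Cfsg.Agent.Helper30.QC

open Cfsg Cfsg.FusionSystem

variable {G : Type*} [Group G]

/-- `F_{N_S(Q)}(N_G(Q))`. -/
def gfsNormalizer (S Q : Subgroup G) : FusionSystem (normalizerIn S Q) :=
  fusionSystemOfSubgroup (Subgroup.normalizer (Q : Set G)) (normalizerIn S Q) inf_le_right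

theorem mem_gfsNormalizer_hom (S Q R : Subgroup G) (φ : R →* G) :
    φ ∈ (gfsNormalizer S Q).Hom R ↔ R ≤ normalizerIn S Q ∧ (∀ x : R, φ x ∈ normalizerIn S Q) ∧
      ∃ g ∈ Subgroup.normalizer (Q : Set G), ∀ x : R, φ x = g * (x : G) * g⁻¹ := Iff.rfl

theorem mem_gfs_hom (S R : Subgroup G) (φ : R →* G) :
    φ ∈ (groupFusionSystem S).Hom R ↔ R ≤ S ∧ (∀ x : R, φ x ∈ S) ∧
      ∃ g : G, ∀ x : R, φ x = g * (x : G) * g⁻¹ := Iff.rfl

/-- the normalizer system of the fusion system of a group is the fusion system of the normalizer -/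
theorem gfsNormalizer_isNormalizerSystem (S Q : Subgroup G) (hQ : Q ≤ S) :
    (groupFusionSystem S).IsNormalizerSystem Q (gfsNormalizer S Q) := by
  intro R
  ext φ
  rw [mem_gfsNormalizer_hom]
  unfold FusionSystem.normalizerHom
  simp only [Set.mem_ofPred_eq]
  constructor
  · rintro ⟨hRN, hφN, g, hg, hφ⟩
    have hNS : normalizerIn S Q ≤ S := inf_le_left
    have hgQ : ∀ q : G, q ∈ Q ↔ g * q * g⁻¹ ∈ Q := Subgroup.mem_normalizer_iff.mp hg
    refine ⟨?_, hRN, hφN, conjHom (R ⊔ Q) g, ?_, ?_, ?_⟩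
    · rw [mem_gfs_hom]
      exact ⟨hRN.trans hNS, fun x => hNS (hφN x), g, hφ⟩
    · rw [mem_gfs_hom]
      refine ⟨sup_le (hRN.trans hNS) hQ, ?_, g, fun x => rfl⟩
      have hle : (R ⊔ Q).map (MulAut.conj g).toMonoidHom ≤ S := by
        rw [Subgroup.map_sup]
        apply sup_le
        · rintro _ ⟨r, hr, rfl⟩
          have := hNS (hφN ⟨r, hr⟩)
          rw [hφ] at this
          exact this
        · rintro _ ⟨q, hq, rfl⟩
          exact hQ ((hgQ q).mp hq)
      intro x
      exact hle ⟨x, x.2, rfl⟩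
    · intro x
      show g * (x : G) * g⁻¹ = φ x
      rw [hφ]
    · ext z
      constructor
      · rintro ⟨q, hq, rfl⟩
        exact (hgQ q).mp hq
      · intro hz
        have h1 : g⁻¹ * z * g ∈ Q := by
          rw [hgQ]
          have : g * (g⁻¹ * z * g) * g⁻¹ = z := by group
          rw [this]
          exact hz
        refine ⟨⟨g⁻¹ * z * g, Subgroup.mem_sup_right h1⟩, h1, ?_⟩
        show g * (g⁻¹ * z * g) * g⁻¹ = z
        group
  · rintro ⟨-, hRN, hφN, ψ, hψ, hext, hQmap⟩
    rw [mem_gfs_hom] at hψ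
    obtain ⟨-, -, g, hg⟩ := hψ
    refine ⟨hRN, hφN, g, ?_, ?_⟩
    · have hfwd : ∀ q ∈ Q, g * q * g⁻¹ ∈ Q := by
        intro q hq
        have : ψ ⟨q, Subgroup.mem_sup_right hq⟩ ∈ (Q.subgroupOf (R ⊔ Q)).map ψ :=
          ⟨⟨q, Subgroup.mem_sup_right hq⟩, hq, rfl⟩
        rw [hQmap, hg] at this
        exact this
      rw [Subgroup.mem_normalizer_iff]
      intro q
      constructor
      · exact hfwd q
      · intro hq
        rw [← hQmap] at hq
        obtain ⟨⟨q', hq'⟩, hq'Q, he⟩ := hq
        rw [hg] at he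
        have : q' = q := by
          have := mul_left_cancel (mul_right_cancel he)
          exact this
        rw [← this]
        exact hq'Q
    · intro x
      rw [← hext x, hg]
      rfl

end Cfsg.Agent.Helper30.QC
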