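import Mathlib
import Cfsg.Prelude.Def_FusionSystem
import Cfsg.Agent.Lib.Helper33.Syl

/-!
# Quotients of a subgroup by a normal `p'`-subgroup realize its fusion system
-/

set_option autoImplicit false
set_option linter.style.haveILetI false
set_option linter.unusedSectionVars false
set_option linter.unusedVariables false

namespace Cfsg.Agent.Helper30.QC

open Cfsg Cfsg.FusionSystem Cfsg.Agent.Helper33

variable {p : ℕ}

theorem eq_one_of_mem_pGroup_of_mem_coprime {X : Type*} [Group X] {T K : Subgroup X}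
    (hT : IsPGroup p T) (hK : (Nat.card K).Coprime p) {x : X} (hxT : x ∈ T) (hxK : x ∈ K) :
    x = 1 := by
  obtain ⟨j, hj⟩ := hT ⟨x, hxT⟩
  have h1 : x ^ p ^ j = 1 := by
    have := congrArg Subtype.val hj
    simpa using this
  have h2 : orderOf x ∣ p ^ j := orderOf_dvd_of_pow_eq_one h1
  have h3 : orderOf x ∣ Nat.card K := Subgroup.orderOf_dvd_natCard K hxK
  have h4 : Nat.Coprime (p ^ j) (Nat.card K) := Nat.Coprime.pow_left j hK.symm
  have h5 : Nat.Coprime (orderOf x) (Nat.card K) := Nat.Coprime.coprime_dvd_left h2 h4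
  have h6 : orderOf x = 1 := Nat.Coprime.eq_one_of_dvd h5 h3
  exact orderOf_eq_one_iff.mp h6

variable [hp : Fact p.Prime]

/-- two `p`-subgroups congruent modulo a normal `p'`-subgroup `K` are conjugate under `K`,
elementwise. -/
theorem conj_of_congr {X : Type*} [Group X] [Finite X] (K : Subgroup X) [hKn : K.Normal]
    (hK : (Nat.card K).Coprime p) (R₁ R₂ : Subgroup X) (h₁ : IsPGroup p R₁) (h₂ : IsPGroup p R₂)
    (hle : R₁ ≤ R₂ ⊔ K) :
    ∃ k ∈ K, ∀ a ∈ R₁, ∀ b ∈ R₂, a⁻¹ * b ∈ K → k * a * k⁻¹ = b := by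
  set H := R₂ ⊔ K with hH
  have hmemH : ∀ t ∈ H, ∃ r ∈ R₂, ∃ k ∈ K, t = r * k := by
    intro t ht
    have h1 : t ∈ ((R₂ ⊔ K : Subgroup X) : Set X) := ht
    rw [Subgroup.mul_normal] at h1
    obtain ⟨r, hr, k, hk, rfl⟩ := h1
    exact ⟨r, hr, k, hk, rfl⟩
  obtain ⟨T, hT, hR₂T⟩ := exists_isSylIn_ge h₂ (le_sup_left : R₂ ≤ H)
  have hTR₂ : T = R₂ := by
    apply le_antisymm _ hR₂T
    intro t ht
    obtain ⟨r, hr, k, hk, rfl⟩ := hmemH t (hT.le ht)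
    have hkT : k ∈ T := by
      have : k = r⁻¹ * (r * k) := by group
      rw [this]
      exact T.mul_mem (T.inv_mem (hR₂T hr)) ht
    have := eq_one_of_mem_pGroup_of_mem_coprime hT.isPGroup hK hkT hk
    rw [this, mul_one]
    exact hr
  rw [hTR₂] at hT
  obtain ⟨h, hhH, hhle⟩ := hT.exists_conj_le h₁ hle
  obtain ⟨r, hr, k, hk, rfl⟩ := hmemH h hhH
  have hkR : ∀ a ∈ R₁, k * a * k⁻¹ ∈ R₂ := by
    intro a ha
    have h1 : (r * k) * a * (r * k)⁻¹ ∈ R₂ := hhle (conj_mem_conj_smul ha)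
    have h2 : k * a * k⁻¹ = r⁻¹ * ((r * k) * a * (r * k)⁻¹) * r := by group
    rw [h2]
    exact R₂.mul_mem (R₂.mul_mem (R₂.inv_mem hr) h1) hr
  refine ⟨k, hk, fun a ha b hb hab => ?_⟩
  have hc := hkR a ha
  have h1 : (k * a * k⁻¹)⁻¹ * b ∈ K := by
    have e : (k * a * k⁻¹)⁻¹ * b = k * (a⁻¹ * b) * (b⁻¹ * k⁻¹ * b) := by group
    rw [e]
    refine K.mul_mem (K.mul_mem hk hab) ?_
    have := hKn.conj_mem k⁻¹ (K.inv_mem hk) b⁻¹
    simpa using this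
  have h2 : (k * a * k⁻¹)⁻¹ * b ∈ R₂ := R₂.mul_mem (R₂.inv_mem hc) hb
  have h3 := eq_one_of_mem_pGroup_of_mem_coprime h₂ hK h2 h1
  exact (inv_mul_eq_one.mp h3)

section model

variable {G : Type*} [Group G] [Finite G] (M S₁ : Subgroup G) (hS₁M : S₁ ≤ M) (K : Subgroup ↥M)
  [hKn : K.Normal]

/-- the map `S₁ → M → M / K`. -/
def quotIota : ↥S₁ →* ↥M ⧸ K := (QuotientGroup.mk' K).comp (Subgroup.inclusion hS₁M)

theorem quotIota_apply (s : ↥S₁) :
    quotIota M S₁ hS₁M K s = QuotientGroup.mk' K ⟨(s : G), hS₁M s.2⟩ := rfl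

theorem quotIota_injective (hS₁ : IsPGroup p S₁) (hK : (Nat.card K).Coprime p) :
    Function.Injective (quotIota M S₁ hS₁M K) := by
  rw [injective_iff_map_eq_one]
  intro s hs
  rw [quotIota_apply] at hs
  have h1 : (⟨(s : G), hS₁M s.2⟩ : ↥M) ∈ K := (QuotientGroup.eq_one_iff _).mp hs
  have h2 : (⟨(s : G), hS₁M s.2⟩ : ↥M) ∈ S₁.subgroupOf M := Subgroup.mem_subgroupOf.mpr s.2
  have h3 := eq_one_of_mem_pGroup_of_mem_coprime (hS₁.comap_subtype (K := M)) hK h2 h1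
  apply Subtype.ext
  have := congrArg Subtype.val h3
  simpa using this

/-- `M / K` realizes `F_{S₁}(M)` for a normal `p'`-subgroup `K` of `M`. -/
theorem quotIota_realizes (hS₁ : IsPGroup p S₁) (hK : (Nat.card K).Coprime p) :
    (fusionSystemOfSubgroup M S₁ hS₁M).IsRealizedBy (quotIota M S₁ hS₁M K) := by
  refine ⟨quotIota_injective M S₁ hS₁M K hS₁ hK, ?_⟩
  intro R hR φ hφ
  constructor
  · rintro ⟨-, -, g, hgM, hg⟩
    refine ⟨QuotientGroup.mk' K ⟨g, hgM⟩, fun x => ?_⟩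
    rw [quotIota_apply, quotIota_apply, ← map_inv, ← map_mul, ← map_mul]
    congr 1
    apply Subtype.ext
    simp only [Subgroup.coe_mul, Subgroup.coe_inv]
    exact hg x
  · rintro ⟨g, hg⟩
    obtain ⟨m, rfl⟩ := QuotientGroup.mk'_surjective K g
    -- the two `p`-subgroups of `M`
    have hRM : R ≤ M := hR.trans hS₁M
    set R₂ : Subgroup ↥M := (R.subgroupOf M).map (MulAut.conj m).toMonoidHom with hR₂
    set R₁ : Subgroup ↥M := (φ.range).subgroupOf M with hR₁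
    have hRp : IsPGroup p R := hS₁.to_le hR
    have hR₂p : IsPGroup p R₂ := (hRp.comap_subtype (K := M)).map _
    have hφr : φ.range ≤ S₁ := by
      rintro _ ⟨x, rfl⟩
      exact hφ x
    have hR₁p : IsPGroup p R₁ := (hS₁.to_le hφr).comap_subtype
    have hb : ∀ x : R, m * ⟨(x : G), hRM x.2⟩ * m⁻¹ ∈ R₂ :=
      fun x => ⟨⟨(x : G), hRM x.2⟩, Subgroup.mem_subgroupOf.mpr x.2, rfl⟩
    have hab : ∀ x : R, (⟨φ x, hS₁M (hφ x)⟩ : ↥M)⁻¹ * (m * ⟨(x : G), hRM x.2⟩ * m⁻¹) ∈ K := by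
      intro x
      have := hg x
      rw [quotIota_apply, quotIota_apply, ← map_inv, ← map_mul, ← map_mul] at this
      exact QuotientGroup.eq.mp this
    have hle : R₁ ≤ R₂ ⊔ K := by
      intro a ha
      rw [hR₁, Subgroup.mem_subgroupOf] at ha
      obtain ⟨x, hx⟩ := ha
      have ha' : a = ⟨φ x, hS₁M (hφ x)⟩ := Subtype.ext hx.symm
      have e : a = (m * ⟨(x : G), hRM x.2⟩ * m⁻¹) *
          ((⟨φ x, hS₁M (hφ x)⟩ : ↥M)⁻¹ * (m * ⟨(x : G), hRM x.2⟩ * m⁻¹))⁻¹ := by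
        rw [ha']; group
      rw [e]
      exact Subgroup.mul_mem _ (Subgroup.mem_sup_left (hb x))
        (Subgroup.mem_sup_right (K.inv_mem (hab x)))
    obtain ⟨k, hk, hkab⟩ := conj_of_congr K hK R₁ R₂ hR₁p hR₂p hle
    refine ⟨hR, hφ, ((k⁻¹ * m : ↥M) : G), (k⁻¹ * m).2, fun x => ?_⟩
    have ha : (⟨φ x, hS₁M (hφ x)⟩ : ↥M) ∈ R₁ := by
      rw [hR₁, Subgroup.mem_subgroupOf]
      exact ⟨x, rfl⟩
    have h1 := hkab _ ha _ (hb x) (hab x)
    have h2 : (⟨φ x, hS₁M (hφ x)⟩ : ↥M) = (k⁻¹ * m) * ⟨(x : G), hRM x.2⟩ * (k⁻¹ * m)⁻¹ := by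
      have : (⟨φ x, hS₁M (hφ x)⟩ : ↥M) = k⁻¹ * (k * ⟨φ x, hS₁M (hφ x)⟩ * k⁻¹) * k := by group
      rw [this, h1]
      group
    have := congrArg Subtype.val h2
    simpa using this

/-- the image of a Sylow subgroup of `M` is a Sylow subgroup of `M / K`. -/
theorem quotIota_sylow (hS : IsSylIn p S₁ M) :
    ∃ T : Sylow p (↥M ⧸ K), (T : Subgroup (↥M ⧸ K)) = (quotIota M S₁ hS₁M K).range := by
  refine ⟨hS.toSylow.mapSurjective (QuotientGroup.mk'_surjective K), ?_⟩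
  rw [Sylow.coe_mapSurjective, hS.coe_toSylow]
  ext y
  constructor
  · rintro ⟨m, hm, rfl⟩
    exact ⟨⟨(m : G), Subgroup.mem_subgroupOf.mp hm⟩, rfl⟩
  · rintro ⟨s, rfl⟩
    exact ⟨⟨(s : G), hS₁M s.2⟩, Subgroup.mem_subgroupOf.mpr s.2, rfl⟩

end model

end Cfsg.Agent.Helper30.QC
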