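import Cfsg.Agent.Lib.Helper30.QdCfgE
import Cfsg.Agent.Lib.Helper30.Cores
import Cfsg.Agent.Lib.Helper33.PComp
import Cfsg.Agent.Lib.Helper46.PCore
import Cfsg.Agent.Lib.Helper54.PxQ

/-!
# `N_G(Q) / O_{p'}(N_G(Q))` is `p`-constrained for a centric, fully normalized `Q`
-/

set_option autoImplicit false
set_option linter.style.haveILetI false
set_option linter.unusedSectionVars false
set_option linter.unusedVariables false

namespace Cfsg.Agent.Helper30.QC

open Cfsg Cfsg.FusionSystem Cfsg.Agent.Helper33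

variable {p : ℕ}

instance instNormalPPrimeCoreQC (p : ℕ) (X : Type*) [Group X] : (Cfsg.pPrimeCore p X).Normal :=
  Cfsg.Agent.Helper54.pPrimeCore_normal' p

theorem normalizer_le_normalizer_centralizer' {G : Type*} [Group G] [Finite G] (Q : Subgroup G) :
    Subgroup.normalizer (Q : Set G) ≤
      Subgroup.normalizer ((Subgroup.centralizer (Q : Set G) : Subgroup G) : Set G) := by
  intro m hm
  apply Subgroup.mem_normalizer_fintype
  intro c hc
  have hc' : ∀ h ∈ Q, h * c = c * h := Subgroup.mem_centralizer_iff.mp hc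
  show m * c * m⁻¹ ∈ Subgroup.centralizer (Q : Set G)
  rw [Subgroup.mem_centralizer_iff]
  intro q hq
  have hq' : m⁻¹ * q * m ∈ Q := by
    have := (Subgroup.mem_normalizer_iff.mp (Subgroup.inv_mem _ hm) q).mp hq
    simpa using this
  have h1 := hc' _ hq'
  have e1 : q * (m * c * m⁻¹) = m * ((m⁻¹ * q * m) * c) * m⁻¹ := by group
  have e2 : m * c * m⁻¹ * q = m * (c * (m⁻¹ * q * m)) * m⁻¹ := by group
  rw [e1, e2, h1]

variable [hp : Fact p.Prime]

/-- For `Q ≤ P` with `N_P(Q)` Sylow in `N_G(Q)` and `C_P(Q) ≤ Q`, the group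
`N_G(Q) / O_{p'}(N_G(Q))` satisfies `C(O_p) ≤ O_p`. -/
theorem model_constrained {G : Type*} [Group G] [Finite G] (P : Subgroup G) (Q : Subgroup G)
    (hQp : IsPGroup p Q)
    (hsyl : IsSylIn p (normalizerIn P Q) (Subgroup.normalizer (Q : Set G)))
    (hcen : centralizerIn P Q ≤ Q) :
    Subgroup.centralizer ((pCore p (↥(Subgroup.normalizer (Q : Set G)) ⧸
        pPrimeCore p ↥(Subgroup.normalizer (Q : Set G))) : Subgroup _) : Set _) ≤
      pCore p (↥(Subgroup.normalizer (Q : Set G)) ⧸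
        pPrimeCore p ↥(Subgroup.normalizer (Q : Set G))) := by
  set M := Subgroup.normalizer (Q : Set G) with hM
  set K := pPrimeCore p ↥M with hK
  have hKcop : (Nat.card K).Coprime p := Cfsg.Agent.Helper30.pPrimeCore_coprime p
  set π := QuotientGroup.mk' K with hπ
  have hπsurj : Function.Surjective π := QuotientGroup.mk'_surjective K
  set Q' : Subgroup ↥M := Q.subgroupOf M with hQ'
  haveI hQ'n : Q'.Normal := Subgroup.normal_in_normalizer
  have hQ'p : IsPGroup p Q' := hQp.comap_subtype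
  have hQbar : Q'.map π ≤ pCore p (↥M ⧸ K) :=
    Cfsg.Agent.Helper46.le_pCore (hQ'n.map π hπsurj) (hQ'p.map π)
  intro cbar hcbar
  obtain ⟨c, rfl⟩ := hπsurj cbar
  have hcomm : ∀ h ∈ pCore p (↥M ⧸ K), h * π c = π c * h := Subgroup.mem_centralizer_iff.mp hcbar
  -- Step 1: `c` centralizes `Q`
  have hcC : (c : G) ∈ Subgroup.centralizer (Q : Set G) := by
    rw [Subgroup.mem_centralizer_iff]
    intro q hq
    set q' : ↥M := ⟨q, Subgroup.le_normalizer hq⟩ with hq'
    have hq'Q : q' ∈ Q' := Subgroup.mem_subgroupOf.mpr hq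
    have h1 := hcomm (π q') (hQbar ⟨q', hq'Q, rfl⟩)
    have h2 : π (c * q' * c⁻¹ * q'⁻¹) = 1 := by
      rw [map_mul, map_mul, map_mul, map_inv, map_inv, ← h1]
      group
    have h3 : c * q' * c⁻¹ * q'⁻¹ ∈ K := (QuotientGroup.eq_one_iff _).mp h2
    have h4 : c * q' * c⁻¹ * q'⁻¹ ∈ Q' := Q'.mul_mem (hQ'n.conj_mem q' hq'Q c) (Q'.inv_mem hq'Q)
    have h5 := eq_one_of_mem_pGroup_of_mem_coprime hQ'p hKcop h4 h3
    have h6 : c * q' = q' * c := by
      have : c * q' = (c * q' * c⁻¹ * q'⁻¹) * (q' * c) := by group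
      rw [this, h5, one_mul]
    have := congrArg Subtype.val h6
    simpa using this.symm
  -- Step 2: the centralizer and its central Sylow subgroup
  set C := Subgroup.centralizer (Q : Set G) with hC
  have hCM : C ≤ M := Subgroup.centralizer_le_normalizer (Q : Set G)
  set Z₁ := normalizerIn P Q ⊓ C with hZ₁
  have hZ₁syl : IsSylIn p Z₁ C := hsyl.inf_normal hCM (normalizer_le_normalizer_centralizer' Q)
  have hZ₁Q : Z₁ ≤ Q := by
    intro z hz
    apply hcen
    exact Subgroup.mem_inf.mpr ⟨(Subgroup.mem_inf.mp (Subgroup.mem_inf.mp hz).1).1,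
      (Subgroup.mem_inf.mp hz).2⟩
  set PX : Sylow p ↥C := hZ₁syl.toSylow with hPX
  have hPXcoe : (PX : Subgroup ↥C) = Z₁.subgroupOf C := hZ₁syl.coe_toSylow
  have hcenter : (PX : Subgroup ↥C) ≤ Subgroup.center ↥C := by
    intro z hz
    rw [hPXcoe, Subgroup.mem_subgroupOf] at hz
    rw [Subgroup.mem_center_iff]
    intro g
    apply Subtype.ext
    have := (Subgroup.mem_centralizer_iff.mp g.2) (z : G) (hZ₁Q hz)
    simpa using this.symm
  obtain ⟨KX, hKXn, hcompl, hKXcop, hall⟩ := exists_normal_pcomplement_of_central_sylow PX hcenter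
  -- Step 4: `KX` lies in `K`
  set K₂ : Subgroup ↥M := (KX.map C.subtype).subgroupOf M with hK₂
  have hKXM : KX.map C.subtype ≤ M := (Subgroup.map_subtype_le KX).trans hCM
  have hK₂n : K₂.Normal := by
    refine ⟨fun n hn g => ?_⟩
    rw [hK₂, Subgroup.mem_subgroupOf] at hn ⊢
    obtain ⟨k, hk, hke⟩ := hn
    have hgC : (g : G) * (k : G) * (g : G)⁻¹ ∈ C := by
      have hgn := normalizer_le_normalizer_centralizer' Q g.2
      exact (Subgroup.mem_normalizer_iff.mp hgn _).mp k.2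
    set k₂ : ↥C := ⟨(g : G) * (k : G) * (g : G)⁻¹, hgC⟩ with hk₂
    have hord : orderOf k₂ = orderOf k := by
      rw [← Subgroup.orderOf_coe k₂, ← Subgroup.orderOf_coe k]
      exact orderOf_conj_eq (g : G) (k : G)
    have hkcop : (orderOf k).Coprime p := by
      have h1 : orderOf k ∣ Nat.card KX := Subgroup.orderOf_dvd_natCard KX hk
      exact Nat.Coprime.coprime_dvd_left h1 hKXcop
    have hk₂K : k₂ ∈ KX := hall k₂ (by rw [hord]; exact hkcop)
    refine ⟨k₂, hk₂K, ?_⟩
    simp only [Subgroup.coe_mul, Subgroup.coe_inv]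
    rw [← hke]
    rfl
  have hK₂card : Nat.card K₂ = Nat.card KX := by
    have e1 : Nat.card K₂ = Nat.card ↥(KX.map C.subtype) :=
      Nat.card_congr (Subgroup.subgroupOfEquivOfLe hKXM).toEquiv
    have e2 : Nat.card ↥(KX.map C.subtype) = Nat.card KX :=
      (Nat.card_congr (KX.equivMapOfInjective C.subtype C.subtype_injective).toEquiv).symm
    rw [e1, e2]
  have hK₂K : K₂ ≤ K := Cfsg.Agent.Helper30.le_pPrimeCore hK₂n (by rw [hK₂card]; exact hKXcop)
  -- Step 5: decompose `c`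
  obtain ⟨⟨k, z⟩, hkz, -⟩ := (Subgroup.isComplement_iff_existsUnique.mp
    (Subgroup.isComplement'_def.mp hcompl)) ⟨(c : G), hcC⟩
  have hkz' : ((k : ↥C) : G) * ((z : ↥C) : G) = (c : G) := by
    have := congrArg Subtype.val hkz
    simpa using this
  set kM : ↥M := ⟨((k : ↥C) : G), hCM (k : ↥C).2⟩ with hkM
  set zM : ↥M := ⟨((z : ↥C) : G), hCM (z : ↥C).2⟩ with hzM
  have hc_eq : c = kM * zM := by
    apply Subtype.ext
    simp only [Subgroup.coe_mul]
    exact hkz'.symm
  have hkMK : kM ∈ K := by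
    apply hK₂K
    rw [hK₂, Subgroup.mem_subgroupOf]
    exact ⟨(k : ↥C), k.2, rfl⟩
  have hzQ : zM ∈ Q' := by
    rw [hQ', Subgroup.mem_subgroupOf]
    apply hZ₁Q
    have h1 : (z : ↥C) ∈ (PX : Subgroup ↥C) := z.2
    have h2 : (z : ↥C) ∈ Z₁.subgroupOf C := hPXcoe ▸ h1
    exact Subgroup.mem_subgroupOf.mp h2
  have hπk : π kM = 1 := (QuotientGroup.eq_one_iff kM).mpr hkMK
  rw [hc_eq, map_mul, hπk, one_mul]
  exact hQbar ⟨zM, hzQ, rfl⟩

end Cfsg.Agent.Helper30.QC
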