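import Cfsg.Agent.Lib.Helper30.QdCfgC
import Cfsg.Agent.Lib.Helper30.QdCfgF
import Cfsg.Agent.Lib.Helper33.Centric
import Cfsg.Agent.Lib.Helper84.GrpFus
import Cfsg.Agent.S5246

/-!
# Moving a configuration into the normalizer of a centric fully normalized subgroup
-/

set_option autoImplicit false
set_option linter.style.haveILetI false
set_option linter.unusedSectionVars false
set_option linter.unusedVariables false

namespace Cfsg.Agent.Helper30.QC

open Cfsg Cfsg.FusionSystem Cfsg.Agent.Helper33 Cfsg.Agent.Helper46 Cfsg.Agent.Helper11.QP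
open scoped Pointwise

variable {p : ℕ}

/-- a strong configuration survives the quotient by a normal `p'`-subgroup -/
theorem StrongCfg.quotient {X : Type*} [Group X] (K : Subgroup X) [K.Normal]
    (hK : (Nat.card K).Coprime p) (h : StrongCfg p X) : QdCfg0 p (X ⧸ K) := by
  obtain ⟨V, V₀, v, w, x, y, hVp, hV₀V, hvV, hwV, hxV, hyV, hpm⟩ := h
  refine ⟨_, _, _, _, _, hpm.map (QuotientGroup.mk' K) ?_⟩
  intro i j hij
  obtain ⟨u, hu, hue⟩ := hij
  have h1 : u⁻¹ * (v ^ i * w ^ j) ∈ K := QuotientGroup.eq.mp hue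
  have h2 : u⁻¹ * (v ^ i * w ^ j) ∈ V :=
    V.mul_mem (V.inv_mem (hV₀V hu)) (V.mul_mem (V.pow_mem hvV i) (V.pow_mem hwV j))
  have h3 := eq_one_of_mem_pGroup_of_mem_coprime hVp hK h2 h1
  have h4 : v ^ i * w ^ j = u := (inv_mul_eq_one.mp h3).symm
  rw [h4]
  exact hu

theorem mem_normalizer_sup {Z : Type*} [Group Z] {A B : Subgroup Z} {g : Z}
    (hA : g ∈ Subgroup.normalizer (A : Set Z)) (hB : g ∈ Subgroup.normalizer (B : Set Z)) :
    g ∈ Subgroup.normalizer ((A ⊔ B : Subgroup Z) : Set Z) := by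
  rw [mem_normalizer_iff_smul_eq] at hA hB ⊢
  rw [Subgroup.smul_sup, hA, hB]

/-- changing `x`, `y` by elements centralizing `V` keeps a pair -/
theorem PairMod.mul_centralizer {Z : Type*} [Group Z] {V V₀ : Subgroup Z} {v w x y cx cy : Z}
    (hV₀V : V₀ ≤ V) (hvV : v ∈ V) (hwV : w ∈ V)
    (hxV : x ∈ Subgroup.normalizer (V : Set Z)) (hyV : y ∈ Subgroup.normalizer (V : Set Z))
    (hcx : cx ∈ Subgroup.centralizer (V : Set Z)) (hcy : cy ∈ Subgroup.centralizer (V : Set Z))
    (h : PairMod p V₀ v w x y) : PairMod p V₀ v w (cx * x) (cy * y) := by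
  obtain ⟨h1, h2, h3, h4, h5, h6, h7, h8, h9, h10, h11, h12⟩ := h
  have hcV₀ : ∀ c ∈ Subgroup.centralizer (V : Set Z), c ∈ Subgroup.normalizer (V₀ : Set Z) := by
    intro c hc
    apply Subgroup.centralizer_le_normalizer (V₀ : Set Z)
    exact Subgroup.centralizer_le (fun z hz => hV₀V hz) hc
  have hconj : ∀ c ∈ Subgroup.centralizer (V : Set Z), ∀ n ∈ Subgroup.normalizer (V : Set Z),
      ∀ u ∈ V, (c * n) * u * (c * n)⁻¹ = n * u * n⁻¹ := by
    intro c hc n hn u hu
    have h0 : n * u * n⁻¹ ∈ V := (Subgroup.mem_normalizer_iff.mp hn u).mp hu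
    have h00 := (Subgroup.mem_centralizer_iff.mp hc) _ h0
    have e : (c * n) * u * (c * n)⁻¹ = c * (n * u * n⁻¹) * c⁻¹ := by group
    rw [e, ← h00]
    group
  refine ⟨h1, h2, Subgroup.mul_mem _ (hcV₀ cx hcx) h3, Subgroup.mul_mem _ (hcV₀ cy hcy) h4,
    h5, h6, h7, h8, ?_, ?_, ?_, ?_⟩
  · rw [hconj cx hcx x hxV v hvV]; exact h9
  · rw [hconj cx hcx x hxV w hwV]; exact h10
  · rw [hconj cy hcy y hyV v hvV]; exact h11
  · rw [hconj cy hcy y hyV w hwV]; exact h12

variable [hp : Fact p.Prime]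

/-- **Localization**: a strong configuration of `G` can be moved into the normalizer of a fully
normalized centric subgroup of the Sylow subgroup `P`. -/
theorem exists_centric_of_strongCfg {G : Type*} [Group G] [Finite G] (P : Sylow p G)
    (h : StrongCfg p G) :
    ∃ Q : Subgroup G, (groupFusionSystem (P : Subgroup G)).IsFullyNormalized Q ∧
      (groupFusionSystem (P : Subgroup G)).IsCentric Q ∧
      StrongCfg p ↥(Subgroup.normalizer (Q : Set G)) := by
  obtain ⟨V, V₀, v, w, x, y, hVp, hV₀V, hvV, hwV, hxV, hyV, hpm⟩ := h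
  -- a Sylow subgroup `R` of `C(V)` normalized by `V`
  set C := Subgroup.centralizer (V : Set G) with hC
  have hVNC : V ≤ Subgroup.normalizer (C : Set G) :=
    Subgroup.le_normalizer.trans (normalizer_le_normalizer_centralizer' V)
  have hVCN : V ⊔ C ≤ Subgroup.normalizer (C : Set G) := sup_le hVNC Subgroup.le_normalizer
  obtain ⟨Q₁, hQ₁, hVQ₁⟩ := exists_isSylIn_ge hVp (le_sup_left : V ≤ V ⊔ C)
  set R := Q₁ ⊓ C with hR
  have hRsyl : IsSylIn p R C := hQ₁.inf_normal le_sup_right hVCN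
  have hVR : V ⊔ R ≤ Q₁ := sup_le hVQ₁ inf_le_left
  have hQ₂p : IsPGroup p ↥(V ⊔ R) := hQ₁.isPGroup.to_le hVR
  -- conjugate to a fully normalized subgroup
  obtain ⟨h, hfn⟩ := Cfsg.Agent.S5246.exists_conj_fullyNormalized P (V ⊔ R) hQ₂p
  set f := (MulAut.conj h).toMonoidHom with hf
  obtain ⟨hVp', hV₀V', hvV', hwV', hxV', hyV', hpm'⟩ :=
    strongData_map f (MulAut.conj h).injective hVp hV₀V hvV hwV hxV hyV hpm
  have hQeq : (V ⊔ R).map f = V.map f ⊔ R.map f := Subgroup.map_sup V R f
  have hRsyl' : IsSylIn p (R.map f) (Subgroup.centralizer ((V.map f : Subgroup G) : Set G)) := by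
    have := hRsyl.conj h
    rw [hC, ← centralizer_conj_smul] at this
    exact this
  set Q := (V ⊔ R).map f with hQ
  generalize V.map f = V at hVp' hV₀V' hvV' hwV' hxV' hyV' hQeq hRsyl'
  generalize V₀.map f = V₀ at hV₀V' hpm'
  generalize f v = v at hvV' hpm'
  generalize f w = w at hwV' hpm'
  generalize f x = x at hxV' hpm'
  generalize f y = y at hyV' hpm'
  generalize R.map f = R at hQeq hRsyl'
  clear_value Q
  subst hQeq
  have hQP : V ⊔ R ≤ (P : Subgroup G) := hfn.1
  refine ⟨V ⊔ R, hfn, ?_, ?_⟩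
  · -- centric
    rw [isCentric_groupFusionSystem_iff]
    refine ⟨hQP, fun g hg => ?_⟩
    set D := (P : Subgroup G) ⊓ Subgroup.centralizer ((MulAut.conj g • (V ⊔ R) : Subgroup G) : Set G)
      with hD
    have hDp : IsPGroup p D := P.isPGroup'.to_le inf_le_left
    have hRg : IsSylIn p (MulAut.conj g • R)
        (Subgroup.centralizer ((MulAut.conj g • V : Subgroup G) : Set G)) := by
      have := hRsyl'.conj g
      rwa [← centralizer_conj_smul] at this
    have hDcent : D ≤ Subgroup.centralizer ((MulAut.conj g • V : Subgroup G) : Set G) := by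
      refine inf_le_right.trans (Subgroup.centralizer_le ?_)
      exact conj_smul_le_conj_smul le_sup_left
    have hDR : D ≤ Subgroup.normalizer ((MulAut.conj g • R : Subgroup G) : Set G) := by
      refine inf_le_right.trans ((Subgroup.centralizer_le ?_).trans
        (Subgroup.centralizer_le_normalizer _))
      exact conj_smul_le_conj_smul le_sup_right
    have hsup : IsPGroup p ↥(D ⊔ MulAut.conj g • R) :=
      IsPGroup.to_sup_of_normal_right' hDp hRg.isPGroup hDR
    have heq := hRg.eq_of_le hsup (sup_le hDcent hRg.le) le_sup_right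
    have hDle : D ≤ MulAut.conj g • R := by
      rw [← heq]
      exact le_sup_left
    exact hDle.trans (conj_smul_le_conj_smul le_sup_right)
  · -- the configuration inside the normalizer
    set C' := Subgroup.centralizer (V : Set G) with hC'
    have hNVC : Subgroup.normalizer (V : Set G) ≤ Subgroup.normalizer (C' : Set G) :=
      normalizer_le_normalizer_centralizer' V
    obtain ⟨cx, hcx, hcxN⟩ := Cfsg.Agent.Helper30.LI.frattini_elt' hRsyl' hNVC x hxV'
    obtain ⟨cy, hcy, hcyN⟩ := Cfsg.Agent.Helper30.LI.frattini_elt' hRsyl' hNVC y hyV'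
    have hCN : C' ≤ Subgroup.normalizer (V : Set G) := Subgroup.centralizer_le_normalizer _
    have hx₂V : cx * x ∈ Subgroup.normalizer (V : Set G) := Subgroup.mul_mem _ (hCN hcx) hxV'
    have hy₂V : cy * y ∈ Subgroup.normalizer (V : Set G) := Subgroup.mul_mem _ (hCN hcy) hyV'
    have hpm₂ := hpm'.mul_centralizer hV₀V' hvV' hwV' hxV' hyV' hcx hcy
    set M := Subgroup.normalizer ((V ⊔ R : Subgroup G) : Set G) with hM
    have hx₂M : cx * x ∈ M := mem_normalizer_sup hx₂V hcxN
    have hy₂M : cy * y ∈ M := mem_normalizer_sup hy₂V hcyN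
    have hVM : V ≤ M := le_sup_left.trans Subgroup.le_normalizer
    refine ⟨V.comap M.subtype, V₀.comap M.subtype, ⟨v, hVM hvV'⟩, ⟨w, hVM hwV'⟩,
      ⟨cx * x, hx₂M⟩, ⟨cy * y, hy₂M⟩, hVp'.comap_subtype, Subgroup.comap_mono hV₀V',
      hvV', hwV', ?_, ?_, ?_⟩
    · exact mem_normalizer_comap M.subtype V hx₂V
    · exact mem_normalizer_comap M.subtype V hy₂V
    · exact PairMod.comap M.subtype hpm₂

end Cfsg.Agent.Helper30.QC
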