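import Mathlib

/-!
# helper80 RPD3 server (S4863): piece (EMB) `pgroup_of_inf_bot`
-/

set_option autoImplicit false

namespace Cfsg.Agent.Helper30.RPD3

universe u

/-- (EMB) if `N ≤ U` meets `K` trivially and `|U : K|` is a power of `p` then `N` is a
`p`-group (`N` embeds in `U / K`) -/
theorem pgroup_of_inf_bot {G : Type u} [Group G] [Finite G] (p : ℕ) [Fact p.Prime]
    (N K U : Subgroup G) (hK : K.Normal) (hNU : N ≤ U) (hKU : K ≤ U)
    (hidx : ∃ a : ℕ, K.relIndex U = p ^ a) (h : N ⊓ K = ⊥) : IsPGroup p ↥N := by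
  haveI : (K.subgroupOf U).Normal := hK.subgroupOf U
  obtain ⟨a, ha⟩ := hidx
  have hQ : IsPGroup p (↥U ⧸ K.subgroupOf U) := by
    apply IsPGroup.of_card (n := a)
    rw [← ha, Subgroup.relIndex, Subgroup.index_eq_card]
  let ϕ : ↥N →* ↥U ⧸ K.subgroupOf U :=
    (QuotientGroup.mk' (K.subgroupOf U)).comp (Subgroup.inclusion hNU)
  apply hQ.of_injective ϕ
  rw [injective_iff_map_eq_one]
  intro n hn
  have h1 : Subgroup.inclusion hNU n ∈ K.subgroupOf U := (QuotientGroup.eq_one_iff _).1 hn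
  rw [Subgroup.mem_subgroupOf] at h1
  have h2 : (n : G) ∈ N ⊓ K := ⟨n.2, h1⟩
  rw [h, Subgroup.mem_bot] at h2
  exact Subtype.ext h2

end Cfsg.Agent.Helper30.RPD3
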