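import Mathlib
import Cfsg.Agent.Lib.Helper41.RPD2GT2

/-!
# helper80 RPD3 server (S4863): piece (HOM) `commute_of_central`
-/

set_option autoImplicit false

namespace Cfsg.Agent.Helper30.RPD3

universe u

/-- (HOM) the homomorphism trick: `N ⊴ G` abelian of odd order prime to `p`, `N ≤ K ⊴ G` with `K`
generated by `2`-elements and centralizing `N`; `T` a `p`-subgroup with `T N ⊴ G`. Then `T`
centralizes `N`. -/
theorem commute_of_central {G : Type u} [Group G] [Finite G] (p : ℕ) [Fact p.Prime]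
    (N K T : Subgroup G) (hN : N.Normal) (hK : K.Normal)
    (hcomm : ∀ a ∈ N, ∀ b ∈ N, a * b = b * a) (hNp : ¬ p ∣ Nat.card ↥N)
    (hNodd : Odd (Nat.card ↥N)) (hNK : N ≤ K)
    (hK2 : Subgroup.closure {g : G | g ∈ K ∧ ∃ k : ℕ, orderOf g = 2 ^ k} = K)
    (hKN : ∀ k ∈ K, ∀ n ∈ N, k * n = n * k) (hT : IsPGroup p ↥T) (hM : (T ⊔ N).Normal) :
    ∀ n ∈ N, ∀ x ∈ T, n * x = x * n := by
  haveI := hN
  haveI := hK
  haveI := hM
  have hp : p.Prime := Fact.out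
  -- orders of elements of `N`
  have hordN : ∀ z ∈ N, orderOf z ∣ Nat.card ↥N := by
    intro z hz
    have h1 := orderOf_dvd_natCard (⟨z, hz⟩ : N)
    rwa [Subgroup.orderOf_mk] at h1
  -- a `p`-element of `N` is trivial
  have hNp1 : ∀ z ∈ N, ∀ m : ℕ, z ^ p ^ m = 1 → z = 1 := by
    intro z hz m hm
    have h1 : orderOf z ∣ p ^ m := orderOf_dvd_of_pow_eq_one hm
    have hcop : (Nat.card ↥N).Coprime (p ^ m) :=
      Nat.Coprime.pow_right m ((Nat.Prime.coprime_iff_not_dvd hp).2 hNp).symm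
    have h3 : (orderOf z).Coprime (p ^ m) := Nat.Coprime.coprime_dvd_left (hordN z hz) hcop
    exact orderOf_eq_one_iff.1 (Nat.Coprime.eq_one_of_dvd h3 h1)
  have hNT : ∀ z ∈ N, z ∈ T → z = 1 := by
    intro z hzN hzT
    obtain ⟨k, hk⟩ := hT ⟨z, hzT⟩
    have hk' : z ^ p ^ k = 1 := by simpa using congrArg Subtype.val hk
    exact hNp1 z hzN k hk'
  -- Dedekind: elements of `K ⊓ (T ⊔ N)`
  have hdec : ∀ d ∈ K, d ∈ T ⊔ N → ∃ t ∈ K ⊓ T, ∃ n ∈ N, d = t * n := by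
    intro d hdK hdTN
    have h1 : d ∈ ((T ⊔ N : Subgroup G) : Set G) := hdTN
    rw [Subgroup.mul_normal] at h1
    obtain ⟨t, ht, n, hn, rfl⟩ := Set.mem_mul.1 h1
    refine ⟨t, ⟨?_, ht⟩, n, hn, rfl⟩
    have e : t = (t * n) * n⁻¹ := by group
    rw [e]
    exact K.mul_mem hdK (K.inv_mem (hNK hn))
  -- `R = K ⊓ T` is normal
  have hRn : (K ⊓ T).Normal := by
    refine ⟨fun y hy g => ?_⟩
    have hyK : g * y * g⁻¹ ∈ K := hK.conj_mem y hy.1 g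
    have hyTN : g * y * g⁻¹ ∈ T ⊔ N := hM.conj_mem y (Subgroup.mem_sup_left hy.2) g
    obtain ⟨t, ht, n, hn, hd⟩ := hdec _ hyK hyTN
    obtain ⟨m, hm⟩ := hT ⟨y, hy.2⟩
    have hm' : y ^ p ^ m = 1 := by simpa using congrArg Subtype.val hm
    have h1 : (g * y * g⁻¹) ^ p ^ m = 1 := by
      rw [conj_pow, hm']
      group
    have htn : Commute t n := hKN t ht.1 n hn
    rw [hd, htn.mul_pow] at h1
    have h2 : n ^ p ^ m = (t ^ p ^ m)⁻¹ := eq_inv_of_mul_eq_one_right h1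
    have h3 : n ^ p ^ m = 1 :=
      hNT _ (N.pow_mem hn _) (by rw [h2]; exact T.inv_mem (T.pow_mem ht.2 _))
    have hn1 : n = 1 := hNp1 n hn m h3
    rw [hd, hn1, mul_one]
    exact ht
  haveI := hRn
  -- a `2`-element of `K` centralizes `T` modulo `R`
  have hstep : ∀ s ∈ K, (∃ k : ℕ, orderOf s = 2 ^ k) → ∀ x ∈ T, s * x * s⁻¹ * x⁻¹ ∈ K ⊓ T := by
    rintro s hsK ⟨k, hsk⟩ x hx
    have hdiv : orderOf ((QuotientGroup.mk' (K ⊓ T)) s) ∣ 2 ^ k :=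
      hsk ▸ orderOf_map_dvd (QuotientGroup.mk' (K ⊓ T)) s
    obtain ⟨j, -, hj⟩ := (Nat.dvd_prime_pow Nat.prime_two).1 hdiv
    have key := Cfsg.Agent.Helper41.RPD2.centralize_of_quotient
      ((QuotientGroup.mk' (K ⊓ T)) s) j hj (T.map (QuotientGroup.mk' (K ⊓ T)))
      (N.map (QuotientGroup.mk' (K ⊓ T))) ?_ ?_ ?_
      ((QuotientGroup.mk' (K ⊓ T)) x) (Subgroup.mem_map_of_mem _ hx)
    · rw [← QuotientGroup.eq_one_iff]
      have e : ((s * x * s⁻¹ * x⁻¹ : G) : G ⧸ (K ⊓ T)) =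
          (QuotientGroup.mk' (K ⊓ T)) s * (QuotientGroup.mk' (K ⊓ T)) x *
            ((QuotientGroup.mk' (K ⊓ T)) s)⁻¹ * ((QuotientGroup.mk' (K ⊓ T)) x)⁻¹ := by
        simp
      rw [e, key]
      group
    · -- hNV
      rintro _ ⟨x', hx', rfl⟩
      have h1 : s * x' * s⁻¹ * x'⁻¹ ∈ K := by
        have e : s * x' * s⁻¹ * x'⁻¹ = s * (x' * s⁻¹ * x'⁻¹) := by group
        rw [e]
        exact K.mul_mem hsK (hK.conj_mem _ (K.inv_mem hsK) x')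
      have h2 : s * x' * s⁻¹ * x'⁻¹ ∈ T ⊔ N :=
        (T ⊔ N).mul_mem (hM.conj_mem _ (Subgroup.mem_sup_left hx') s)
          ((T ⊔ N).inv_mem (Subgroup.mem_sup_left hx'))
      obtain ⟨t, ht, n, hn, hd⟩ := hdec _ h1 h2
      refine ⟨n, hn, ?_⟩
      have e : (QuotientGroup.mk' (K ⊓ T)) s * (QuotientGroup.mk' (K ⊓ T)) x' *
            ((QuotientGroup.mk' (K ⊓ T)) s)⁻¹ * ((QuotientGroup.mk' (K ⊓ T)) x')⁻¹ =
          (QuotientGroup.mk' (K ⊓ T)) (s * x' * s⁻¹ * x'⁻¹) := by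
        simp
      rw [e, hd, map_mul]
      have e2 : (QuotientGroup.mk' (K ⊓ T)) t = 1 := (QuotientGroup.eq_one_iff t).2 ht
      rw [e2, one_mul]
    · -- hV
      rintro _ ⟨n, hn, rfl⟩
      rw [← map_mul, ← map_mul, hKN s hsK n hn]
    · -- hVodd
      rintro _ ⟨n, hn, rfl⟩
      exact Odd.of_dvd_nat hNodd ((orderOf_map_dvd _ n).trans (hordN n hn))
  -- all of `K`
  have hall : ∀ k ∈ K, ∀ x ∈ T, k * x * k⁻¹ * x⁻¹ ∈ K ⊓ T := by
    intro k hk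
    rw [← hK2] at hk
    refine Subgroup.closure_induction (p := fun k _ => ∀ x ∈ T, k * x * k⁻¹ * x⁻¹ ∈ K ⊓ T)
      ?_ ?_ ?_ ?_ hk
    · intro s hs
      exact hstep s hs.1 hs.2
    · intro x _
      have e : (1 : G) * x * 1⁻¹ * x⁻¹ = 1 := by group
      rw [e]
      exact (K ⊓ T).one_mem
    · intro a b _ _ iha ihb x hx
      have e : a * b * x * (a * b)⁻¹ * x⁻¹ =
          a * (b * x * b⁻¹ * x⁻¹) * a⁻¹ * (a * x * a⁻¹ * x⁻¹) := by group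
      rw [e]
      exact (K ⊓ T).mul_mem (hRn.conj_mem _ (ihb x hx) a) (iha x hx)
    · intro a _ iha x hx
      have e : a⁻¹ * x * a⁻¹⁻¹ * x⁻¹ = a⁻¹ * (a * x * a⁻¹ * x⁻¹)⁻¹ * a⁻¹⁻¹ := by group
      rw [e]
      exact hRn.conj_mem _ ((K ⊓ T).inv_mem (iha x hx)) a⁻¹
  -- conclusion
  intro n hn x hx
  have h1 : n * x * n⁻¹ * x⁻¹ ∈ K ⊓ T := hall n (hNK hn) x hx
  have h2 : n * x * n⁻¹ * x⁻¹ ∈ N := by
    have e : n * x * n⁻¹ * x⁻¹ = n * (x * n⁻¹ * x⁻¹) := by group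
    rw [e]
    exact N.mul_mem hn (hN.conj_mem _ (N.inv_mem hn) x)
  have h3 := hNT _ h2 h1.2
  have e : n * x = (n * x * n⁻¹ * x⁻¹) * (x * n) := by group
  rw [e, h3, one_mul]

end Cfsg.Agent.Helper30.RPD3
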