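import Mathlib
import Cfsg.Agent.Lib.Helper93.RU0
import Cfsg.Agent.Lib.Helper82.RUA
import Cfsg.Agent.Lib.Helper12.RW0
import Cfsg.Agent.Lib.Helper30.RWSPQ

set_option autoImplicit false

/-! RW server (helper12, S2279), piece (FC): `full_centre`. -/

namespace Cfsg.Agent.Helper30.RW

open Matrix Cfsg.Agent.Helper93.RU Cfsg.Agent.Helper12.RW

variable {F : Type*} [Field F] {m : ℕ}

theorem h30_Pv_zero : Pv m F 0 = eV (lastI m) := by
  unfold Pv
  rw [zpow_zero, Matrix.SpecialLinearGroup.coe_one, Matrix.one_mulVec]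

/-- a transvection with centre `v` whose axis is a finite sum of axes of transvections of `H` with centre `v`
lies in `H` -/
theorem h30_tvS_sum_mem (H : Subgroup (SLm m F)) (v : Fin (m + 3) → F) {ι : Type*} (s : Finset ι)
    (φ : ι → Fin (m + 3) → F) (h0 : ∀ j ∈ s, φ j ⬝ᵥ v = 0) (hH : ∀ j ∈ s, tvS v (φ j) ∈ H) :
    (∑ j ∈ s, φ j) ⬝ᵥ v = 0 ∧ tvS v (∑ j ∈ s, φ j) ∈ H := by
  classical
  induction s using Finset.induction_on with
  | empty =>
    refine ⟨by simp, ?_⟩
    rw [Finset.sum_empty, Cfsg.Agent.Helper82.RU.tvS_zero]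
    exact H.one_mem
  | insert j s hj ih =>
    obtain ⟨ih0, ihH⟩ := ih (fun i hi => h0 i (Finset.mem_insert_of_mem hi))
      (fun i hi => hH i (Finset.mem_insert_of_mem hi))
    have hj0 := h0 j (Finset.mem_insert_self j s)
    have hjH := hH j (Finset.mem_insert_self j s)
    rw [Finset.sum_insert hj]
    refine ⟨by rw [add_dotProduct, hj0, ih0, add_zero], ?_⟩
    rw [← Cfsg.Agent.Helper82.RU.tvS_mul v _ _ hj0 ih0]
    exact H.mul_mem hjH ihH

/-- (FC) full centre; uses SPQ G7 `tvS_mul` (finite product / induction on a `Finset` sum) -/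
theorem full_centre (H : Subgroup (SLm m F))
    (h : ∀ j : ℕ, j ≤ m + 1 → ∀ a : F, Tk 0 (-(j : ℤ)) a ∈ H) : eV (lastI m) ∈ Wset H := by
  intro φ hφ
  obtain ⟨a, ha⟩ := span_Q φ hφ
  have h0 : ∀ j ∈ (Finset.univ : Finset (Fin (m + 2))),
      (a j • Qv m F (-(j.val : ℤ))) ⬝ᵥ eV (lastI m) = 0 := by
    intro j _
    rw [smul_dotProduct]
    unfold eV
    rw [dotProduct_single_one, h30_Qv_neg_apply]
    have hlt : j.val < (lastI m).val := by
      have := j.isLt
      show j.val < m + 2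
      omega
    rw [Nat.choose_eq_zero_of_lt hlt]
    simp
  have hH : ∀ j ∈ (Finset.univ : Finset (Fin (m + 2))),
      tvS (eV (lastI m)) (a j • Qv m F (-(j.val : ℤ))) ∈ H := by
    intro j _
    have hj := h j.val (by have := j.isLt; omega) (a j)
    unfold Tk at hj
    rwa [h30_Pv_zero] at hj
  have := (h30_tvS_sum_mem H (eV (lastI m)) Finset.univ
    (fun j : Fin (m + 2) => a j • Qv m F (-(j.val : ℤ))) h0 hH).2
  rw [ha]
  exact this

end Cfsg.Agent.Helper30.RW
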