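import Mathlib
import Cfsg.Agent.Lib.Helper93.RU0
import Cfsg.Agent.Lib.Helper82.RUA
import Cfsg.Agent.Lib.Helper12.RW0
import Cfsg.Agent.Lib.Helper76.RWG5

set_option autoImplicit false

/-! RW server (helper12, S2279), piece (G8): `Tk_mul`, `Tk_inv`, `Tk_zero`. -/

namespace Cfsg.Agent.Helper30.RW

open Matrix Cfsg.Agent.Helper93.RU Cfsg.Agent.Helper12.RW

variable {F : Type*} [Field F] {m : ℕ}

/-- the axis condition of `Tk k j a` when `mm (k - j) = 0` -/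
theorem h30_Tk_axis (k j : ℤ) (a : F) (h : mm m F (k - j) = 0) :
    (a • Qv m F j) ⬝ᵥ Pv m F k = 0 := by
  rw [smul_dotProduct, Cfsg.Agent.Helper76.RW.gram, h, smul_zero]

/-- (G8) `Helper82.RU.tvS_mul`, `tvS_inv`, `tvS_zero`, G1 -/
theorem Tk_mul (k j : ℤ) (a b : F) (h : mm m F (k - j) = 0) :
    Tk k j a * Tk k j b = Tk (m := m) k j (a + b) := by
  unfold Tk
  rw [Cfsg.Agent.Helper82.RU.tvS_mul _ _ _ (h30_Tk_axis k j a h) (h30_Tk_axis k j b h), add_smul]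

/-- (G8') -/
theorem Tk_inv (k j : ℤ) (a : F) (h : mm m F (k - j) = 0) :
    (Tk k j a)⁻¹ = Tk (m := m) k j (-a) := by
  unfold Tk
  rw [Cfsg.Agent.Helper82.RU.tvS_inv _ _ (h30_Tk_axis k j a h), neg_smul]

/-- (G8'') -/
theorem Tk_zero (k j : ℤ) : Tk (m := m) (F := F) k j 0 = 1 := by
  unfold Tk
  rw [zero_smul, Cfsg.Agent.Helper82.RU.tvS_zero]

end Cfsg.Agent.Helper30.RW
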