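import Cfsg.Agent.Lib.Helper64.S4017Defs
import Cfsg.Agent.Lib.Helper41.S4017DIH1
import Cfsg.Agent.Lib.Helper41.S4017DIH2
import Cfsg.Agent.Lib.Helper22.S4017S1

/-!
# helper64 S4017M server (S4017): piece (E23) — products of non-commuting involutions are `p`-elements
-/

set_option autoImplicit false

namespace Cfsg.Agent.Helper30.S4017M

open Cfsg.Agent.Helper64.S4017

variable {G : Type*} [Group G] [Finite G] {a p : ℕ} {Q : Subgroup G} {x : G}

/-- (E23) if every involution commuting with `t ∈ Q' \ {1}` lies in `Q'` (all settings), then two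
non-commuting involutions have product a `p`-element. -/
theorem isPel_mul_of_not_comm (h : Setting a p Q x)
    (h2c : ∀ (Q' : Subgroup G) (x' : G), Setting a p Q' x' →
      ∀ t ∈ Q', t ≠ 1 → ∀ u : G, IsInv u → u * t = t * u → u ∈ Q')
    {u v : G} (hu : IsInv u) (hv : IsInv v) (huv : u * v ≠ v * u) : IsPel p (u * v) := by
  have huinv : u⁻¹ = u := inv_eq_of_mul_eq_one_left hu.2
  have hvinv : v⁻¹ = v := inv_eq_of_mul_eq_one_left hv.2
  have hodd : ¬ 2 ∣ orderOf (u * v) := by
    intro heven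
    obtain ⟨z, hz, hzu, hzv⟩ := Cfsg.Agent.Helper41.S4017M.exists_central_inv hu hv heven
    obtain ⟨Q', x', hS', hzQ'⟩ := Cfsg.Agent.Helper22.S4017M.exists_setting h hz
    have huQ : u ∈ Q' := h2c Q' x' hS' z hzQ' hz.1 u hu hzu.symm
    have hvQ : v ∈ Q' := h2c Q' x' hS' z hzQ' hz.1 v hv hzv.symm
    apply huv
    have h1 : (u * v) * (u * v) = 1 := hS'.elem _ (Q'.mul_mem huQ hvQ)
    calc u * v = ((u * v)⁻¹ * ((u * v) * (u * v))) := by group
      _ = (u * v)⁻¹ := by rw [h1, mul_one]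
      _ = v⁻¹ * u⁻¹ := mul_inv_rev u v
      _ = v * u := by rw [huinv, hvinv]
  have hprime : ∀ {r : ℕ}, r.Prime → r ∣ orderOf (u * v) → r = p := by
    intro r hr hdvd
    rcases Cfsg.Agent.Helper41.S4017M.prime_dvd_orderOf_mul h hu hv hr hdvd with h2 | hp
    · exfalso
      subst h2
      exact hodd hdvd
    · exact hp
  exact ⟨_, Nat.eq_prime_pow_of_unique_prime_dvd (orderOf_pos (u * v)).ne' hprime⟩

end Cfsg.Agent.Helper30.S4017M
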