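import Mathlib
import Cfsg.Agent.Lib.Helper31.SCHDefs

/-!
# SCH (helper31 server, S4394): piece (P1c) `fixed_mem_center` (helper30)
-/

set_option autoImplicit false

namespace Cfsg.Agent.Helper30.SCH
open Cfsg Cfsg.Agent.Helper31.SCH

section P
variable {P : Type*} [Group P] [Finite P] {p : ℕ} [Fact p.Prime]

/-- (P1c) [M] fixed points are central. -/
theorem fixed_mem_center (α : MulAut P)
    (hgen : Subgroup.closure {y : P | ∃ x : P, y = α x * x⁻¹} = ⊤)
    (hcf : ∀ x y : P, α (cmt x y) = cmt x y) (c : P) (hc : α c = c) : c ∈ Subgroup.center P := by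
  have key : ∀ x : P, (α x * x⁻¹) * c = c * (α x * x⁻¹) := by
    intro x
    have h1 := hcf x⁻¹ c
    simp only [cmt, map_mul, map_inv, hc, inv_inv] at h1
    have h2 : (α x)⁻¹ * c * α x = x⁻¹ * c * x := mul_right_cancel h1
    calc α x * x⁻¹ * c = α x * (x⁻¹ * c * x) * x⁻¹ := by group
      _ = α x * ((α x)⁻¹ * c * α x) * x⁻¹ := by rw [h2]
      _ = c * (α x * x⁻¹) := by group
  have hle : Subgroup.closure {y : P | ∃ x : P, y = α x * x⁻¹} ≤
      Subgroup.centralizer ({c} : Set P) := by
    rw [Subgroup.closure_le]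
    rintro y ⟨x, rfl⟩
    rw [SetLike.mem_coe, Subgroup.mem_centralizer_iff]
    intro h hh
    rw [Set.mem_singleton_iff] at hh
    subst hh
    exact (key x).symm
  rw [hgen] at hle
  rw [Subgroup.mem_center_iff]
  intro g
  have hg := hle (Subgroup.mem_top g)
  rw [Subgroup.mem_centralizer_iff] at hg
  exact (hg c rfl).symm

end P

end Cfsg.Agent.Helper30.SCH
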