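import Mathlib
import Cfsg.Agent.Lib.Helper31.SCHDefs

/-!
# SCH (helper31 server, S4394): piece (P6) `SA_quot` (helper30)
-/

set_option autoImplicit false

namespace Cfsg.Agent.Helper30.SCH
open Cfsg Cfsg.Agent.Helper31.SCH

section P
variable {P : Type*} [Group P] [Finite P] {p : ℕ} [Fact p.Prime]

/-- if `α x = x * c` with `c` fixed by `α` then `(α ^ k) x = x * c ^ k` -/
theorem h30_pow_apply_of_twist (α : MulAut P) (x c : P) (hx : α x = x * c) (hc : α c = c) (k : ℕ) :
    (α ^ k) x = x * c ^ k := by
  induction k with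
  | zero => simp
  | succ k ih =>
    rw [pow_succ', MulAut.mul_apply, ih, map_mul, map_pow, hx, hc, mul_assoc, ← pow_succ']

/-- a `p`-element killed by a prime `q ≠ p` is trivial -/
theorem h30_eq_one_of_pow_prime (hP : IsPGroup p P) {q : ℕ} (hq : q.Prime) (hqp : q ≠ p) (c : P)
    (hc : c ^ q = 1) : c = 1 := by
  obtain ⟨k, hk⟩ := hP c
  have h1 : orderOf c ∣ q := orderOf_dvd_of_pow_eq_one hc
  have h2 : orderOf c ∣ p ^ k := orderOf_dvd_of_pow_eq_one hk
  have hp : p.Prime := Fact.out
  have hcop : Nat.Coprime q (p ^ k) :=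
    Nat.Coprime.pow_right k ((Nat.coprime_primes hq hp).mpr hqp)
  have h3 : orderOf c = 1 := Nat.eq_one_of_dvd_coprimes hcop h1 h2
  exact orderOf_eq_one_iff.mp h3

/-- (P6) [M] quotients. -/
theorem SA_quot (hP : IsPGroup p P) (α : MulAut P) (h : SA p α) (Y : Subgroup P) [Y.Normal]
    (hY : ∀ y ∈ Y, α y = y) : ∃ β : MulAut (P ⧸ Y), SA p β := by
  have hmap : Y.map (α : P →* P) = Y := by
    ext y
    constructor
    · rintro ⟨z, hz, rfl⟩
      have : (α : P →* P) z = z := hY z hz
      rw [this]; exact hz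
    · intro hy
      exact ⟨y, hy, hY y hy⟩
  let β : MulAut (P ⧸ Y) := QuotientGroup.congr Y Y α hmap
  have hβ : ∀ x : P, β (QuotientGroup.mk x) = QuotientGroup.mk (α x) := fun x => rfl
  have hβpow : ∀ (k : ℕ) (x : P),
      (β ^ k) (QuotientGroup.mk x) = QuotientGroup.mk ((α ^ k) x) := by
    intro k
    induction k with
    | zero => intro x; simp
    | succ k ih =>
      intro x
      rw [pow_succ', pow_succ', MulAut.mul_apply, MulAut.mul_apply, ih, hβ]
  obtain ⟨q, hq, hqp, hαq⟩ := h.ord
  refine ⟨β, ⟨⟨q, hq, hqp, ?_⟩, ?_, ?_⟩⟩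
  · -- order
    apply MulEquiv.ext
    intro xb
    induction xb using QuotientGroup.induction_on with
    | H x =>
      rw [hβpow, hαq]
      rfl
  · -- nontrivial
    intro hβ1
    apply h.ne
    apply MulEquiv.ext
    intro x
    have h1 : (QuotientGroup.mk (α x) : P ⧸ Y) = QuotientGroup.mk x := by
      rw [← hβ, hβ1]; rfl
    have h2 : x⁻¹ * α x ∈ Y := by
      have := QuotientGroup.eq.mp h1.symm
      exact this
    have hc : α (x⁻¹ * α x) = x⁻¹ * α x := hY _ h2
    have hx : α x = x * (x⁻¹ * α x) := by group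
    have h3 := h30_pow_apply_of_twist α x (x⁻¹ * α x) hx hc q
    rw [hαq] at h3
    have h4 : (x⁻¹ * α x) ^ q = 1 := by
      have : x * 1 = x * (x⁻¹ * α x) ^ q := by rw [mul_one]; exact h3
      exact (mul_left_cancel this).symm
    have h5 := h30_eq_one_of_pow_prime hP hq hqp _ h4
    have : α x = x := by
      have := inv_mul_eq_one.mp h5
      exact this.symm
    rw [this]; rfl
  · -- fixing proper invariant subgroups
    intro Rb hRb hinv xb hxb
    let R : Subgroup P := Rb.comap (QuotientGroup.mk' Y)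
    have hR : R ≠ ⊤ := by
      intro hR
      apply hRb
      rw [eq_top_iff]
      intro yb _
      induction yb using QuotientGroup.induction_on with
      | H y =>
        have : y ∈ R := by rw [hR]; exact Subgroup.mem_top y
        exact this
    have hRinv : ∀ x ∈ R, α x ∈ R := by
      intro x hx
      have : β (QuotientGroup.mk x) ∈ Rb := hinv _ hx
      exact this
    have hfix := h.fix R hR hRinv
    induction xb using QuotientGroup.induction_on with
    | H x =>
      have hx : x ∈ R := hxb
      rw [hβ, hfix x hx]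

end P

end Cfsg.Agent.Helper30.SCH
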