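import Mathlib
import Cfsg.Agent.Lib.Helper62.SLN0

/-!
# SLN (helper62 server, S2332): piece (R4) comm_fix_line (helper30)
-/

set_option autoImplicit false

namespace Cfsg.Agent.Helper30.SLN

open Matrix Module Cfsg.Agent.Helper93.U2 Cfsg.Agent.Helper62.SLN

section REPgen

variable {G : Type*} [Group G] {𝓐 : Type*} [AddCommGroup 𝓐] [Fintype 𝓐]
  {V : Type*} [AddCommGroup V] [Module ℂ V] [FiniteDimensional ℂ V]
  (pr : Pairing 𝓐) (el : 𝓐 → G) (ρ : Representation ℂ G V)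

omit [Fintype 𝓐] in
/-- piece R4 : a commutator of two elements stabilising a line acts trivially on it -/
theorem comm_fix_line {G : Type*} [Group G] (ρ : Representation ℂ G V) (W : Submodule ℂ V)
    (hW : finrank ℂ W ≤ 1) (a b : G)
    (ha : ∀ v ∈ W, ρ a v ∈ W) (hb : ∀ v ∈ W, ρ b v ∈ W) : ∀ v ∈ W, ρ (a * b * a⁻¹ * b⁻¹) v = v := by
  intro v hv
  obtain ⟨w0, hw0⟩ := (finrank_le_one_iff (K := ℂ) (V := W)).mp hW
  obtain ⟨c, hc⟩ := hw0 ⟨v, hv⟩
  have hv' : v = c • (w0 : V) := (congrArg Subtype.val hc).symm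
  by_cases h0 : (w0 : V) = 0
  · rw [hv', h0, smul_zero, map_zero]
  · have hinv : ∀ g : G, ∀ x : V, ρ g⁻¹ (ρ g x) = x := by
      intro g x
      rw [← Module.End.mul_apply, ← map_mul, inv_mul_cancel, map_one]
      rfl
    have key : ∀ g : G, (∀ v ∈ W, ρ g v ∈ W) →
        ∃ γ : ℂ, γ ≠ 0 ∧ ρ g (w0 : V) = γ • (w0 : V) ∧ ρ g⁻¹ (w0 : V) = γ⁻¹ • (w0 : V) := by
      intro g hg
      obtain ⟨γ, hγ⟩ := hw0 ⟨ρ g w0, hg _ w0.2⟩
      have hγ' : γ • (w0 : V) = ρ g w0 := congrArg Subtype.val hγ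
      have hγ0 : γ ≠ 0 := by
        rintro rfl
        rw [zero_smul] at hγ'
        have h1 := hinv g (w0 : V)
        rw [← hγ', map_zero] at h1
        exact h0 h1.symm
      refine ⟨γ, hγ0, hγ'.symm, ?_⟩
      have h1 := hinv g (w0 : V)
      rw [← hγ', map_smul] at h1
      calc ρ g⁻¹ (w0 : V) = γ⁻¹ • (γ • ρ g⁻¹ (w0 : V)) := by
            rw [smul_smul, inv_mul_cancel₀ hγ0, one_smul]
        _ = γ⁻¹ • (w0 : V) := by rw [h1]
    obtain ⟨α, hα0, hα, hα'⟩ := key a ha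
    obtain ⟨β, hβ0, hβ, hβ'⟩ := key b hb
    rw [hv', map_smul]
    congr 1
    rw [map_mul, map_mul, map_mul, Module.End.mul_apply, Module.End.mul_apply,
      Module.End.mul_apply, hβ']
    simp only [map_smul, hα', hβ, hα, smul_smul]
    have h1 : β⁻¹ * (α⁻¹ * (β * α)) = 1 := by field_simp
    first
      | rw [h1, one_smul]
      | (have h2 : β⁻¹ * α⁻¹ * β * α = 1 := by field_simp
         rw [h2, one_smul])
      | (have h3 : β⁻¹ * (α⁻¹ * β) * α = 1 := by field_simp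
         rw [h3, one_smul])

end REPgen

end Cfsg.Agent.Helper30.SLN
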