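import Mathlib
import Cfsg.Agent.Lib.Helper62.SLN0

/-!
# SLN (helper62 server, S2332): piece (R6) finrank_fixSp_conj (helper30)
-/

set_option autoImplicit false

namespace Cfsg.Agent.Helper30.SLN

open Matrix Module Cfsg.Agent.Helper93.U2 Cfsg.Agent.Helper62.SLN

section REPgen

variable {G : Type*} [Group G] {𝓐 : Type*} [AddCommGroup 𝓐] [Fintype 𝓐]
  {V : Type*} [AddCommGroup V] [Module ℂ V] [FiniteDimensional ℂ V]
  (pr : Pairing 𝓐) (el : 𝓐 → G) (ρ : Representation ℂ G V)

omit [Fintype 𝓐] in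
/-- piece R6 : conjugate sets have fixed spaces of the same dimension -/
theorem finrank_fixSp_conj {G : Type*} [Group G] (ρ : Representation ℂ G V) (s : G) (S : Set G) :
    finrank ℂ (fixSp ρ ((fun g => s * g * s⁻¹) '' S)) = finrank ℂ (fixSp ρ S) := by
  have hinv : ∀ g : G, ∀ x : V, ρ g⁻¹ (ρ g x) = x := by
    intro g x
    rw [← Module.End.mul_apply, ← map_mul, inv_mul_cancel, map_one]
    rfl
  have hinv' : ∀ g : G, ∀ x : V, ρ g (ρ g⁻¹ x) = x := by
    intro g x
    rw [← Module.End.mul_apply, ← map_mul, mul_inv_cancel, map_one]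
    rfl
  -- the linear equivalence `ρ s`
  let e : V ≃ₗ[ℂ] V :=
    { toFun := ρ s
      map_add' := map_add _
      map_smul' := map_smul _
      invFun := ρ s⁻¹
      left_inv := hinv s
      right_inv := hinv' s }
  have hmap : (fixSp ρ S).map (e : V →ₗ[ℂ] V) = fixSp ρ ((fun g => s * g * s⁻¹) '' S) := by
    ext v
    constructor
    · rintro ⟨x, hx, rfl⟩
      rintro _ ⟨g, hg, rfl⟩
      show ρ (s * g * s⁻¹) (ρ s x) = ρ s x
      rw [map_mul, map_mul, Module.End.mul_apply, Module.End.mul_apply, hinv s x, hx g hg]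
    · intro hv
      refine ⟨ρ s⁻¹ v, ?_, hinv' s v⟩
      intro g hg
      have h1 := hv (s * g * s⁻¹) ⟨g, hg, rfl⟩
      rw [map_mul, map_mul, Module.End.mul_apply, Module.End.mul_apply] at h1
      have h2 := congrArg (ρ s⁻¹) h1
      rw [hinv s] at h2
      exact h2
  rw [← hmap]
  exact LinearEquiv.finrank_map_eq e (fixSp ρ S)

end REPgen

end Cfsg.Agent.Helper30.SLN
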