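import Mathlib
import Cfsg.Agent.S1017
import Cfsg.Agent.Lib.Helper17.Sieve
import Cfsg.Agent.Lib.Helper75.FixKill

/-!
# S0983 exercise order 5148 = 2^2 * 3^2 * 11 * 13 (helper30)

`n_11 = 78`, `|C(P11)| = 33`: `u` of order `3` commutes with `x` of order `11`.  The fixed points of `u` on `Syl_11`
give `|C(u)| = 396`, of index `13`; on the `13` cosets `x` has `2` fixed points, both fixed by `u`, so `u` has
`2 mod 11` and `1 mod 3` fixed points: `13`, i.e. `u = 1`.
-/

set_option autoImplicit false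

namespace Cfsg.Agent.Helper30.SV

open Nat MulAction Cfsg.Agent.Helper17 Cfsg.Agent.Helper17.Sieve Cfsg.Agent.Helper75.FixKill

set_option maxRecDepth 100000 in
/-- the only candidate for the number of Sylow `11`-subgroups is `78` -/
theorem h30_n11_cert_5148 : ∀ d ∈ List.range (468 + 1), d ∣ 468 → d % 11 = 1 →
    ¬ Bad (11 ^ 1 * 468) 11 1 468 d → d = 78 := by
  decide +kernel

/-- no nonabelian simple group of order 5148 -/
theorem no_5148.{u} : NoSimple.{u} 5148 := by
  intro G _ _ _ hna hn0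
  haveI : Fact (Nat.Prime 11) := ⟨by norm_num⟩
  haveI : Fact (Nat.Prime 3) := ⟨by norm_num⟩
  have hn : Nat.card G = 11 ^ 1 * 468 := by rw [hn0]; norm_num
  have hpm : ¬ 11 ∣ 468 := by norm_num
  have h2G : 2 < Nat.card G := by rw [hn0]; norm_num
  obtain ⟨P⟩ : Nonempty (Sylow 11 G) := inferInstance
  have hPc : Nat.card (P : Subgroup G) = 11 := by
    have h0 := sylow_card_eq P hn hpm
    rwa [pow_one] at h0
  obtain ⟨hdm, hdp⟩ := sylow_count (G := G) hn hpm
  have hnb := not_bad hna 11 1 468 one_ne_zero (by norm_num) hn hpm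
  have hdle : Nat.card (Sylow 11 G) ≤ 468 := Nat.le_of_dvd (by norm_num) hdm
  have hd : Nat.card (Sylow 11 G) = 78 :=
    h30_n11_cert_5148 _ (List.mem_range.2 (by omega)) hdm hdp hnb
  have hNd := card_normalizer_mul_sylow_count P
  rw [hd, hn0] at hNd
  have hN : Nat.card ↥(Subgroup.normalizer ((P : Subgroup G) : Set G)) = 66 := by omega
  obtain ⟨e, he1, he2, he3⟩ := exists_e P hPc (by rw [hn0]; norm_num)
  rw [hN] at he3
  have hc : Nat.card ↥(Subgroup.centralizer ((P : Subgroup G) : Set G)) = 33 := by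
    have he10 : e ∣ 10 := he1
    have he66 : e ∣ 66 := ⟨_, by rw [← he3]; ring⟩
    have h3 : e ∣ Nat.gcd 10 66 := Nat.dvd_gcd he10 he66
    have h4 : e ∣ 2 := by
      have : Nat.gcd 10 66 = 2 := by norm_num
      rwa [this] at h3
    rcases (Nat.dvd_prime Nat.prime_two).1 h4 with h | h
    · exact absurd h he2
    · subst h; omega
  -- the two commuting elements
  obtain ⟨u', hu'⟩ := exists_prime_orderOf_dvd_card'
    (G := ↥(Subgroup.centralizer ((P : Subgroup G) : Set G))) 3 (by rw [hc]; norm_num)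
  have hu : orderOf (u' : G) = 3 := by rw [Subgroup.orderOf_coe]; exact hu'
  have huC : (u' : G) ∈ Subgroup.centralizer ((P : Subgroup G) : Set G) := u'.2
  obtain ⟨x', hx'⟩ := exists_prime_orderOf_dvd_card' (G := ↥(P : Subgroup G)) 11 (by rw [hPc])
  have hx : orderOf (x' : G) = 11 := by rw [Subgroup.orderOf_coe]; exact hx'
  have hxP : (x' : G) ∈ (P : Subgroup G) := x'.2
  generalize (u' : G) = u at hu huC
  generalize (x' : G) = x at hx hxP
  have hu1 : u ≠ 1 := Cfsg.Agent.S1017.ne_one_of_orderOf_prime u (by norm_num) hu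
  have hx1 : x ≠ 1 := Cfsg.Agent.S1017.ne_one_of_orderOf_prime x (by norm_num) hx
  have hcomm : Commute x u := Subgroup.mem_centralizer_iff.mp huC x hxP
  -- fixed points of `u` on the Sylow 11-subgroups
  have hd1 : 1 < Nat.card (Sylow 11 G) := by rw [hd]; norm_num
  have hf1 : Nat.card (fixedBy (Sylow 11 G) u) % 11 = 1 % 11 :=
    Cfsg.Agent.S1017.card_fixedBy_sylow_modEq P hPc u huC
  have hf2 : Nat.card (Sylow 11 G) % 3 = Nat.card (fixedBy (Sylow 11 G) u) % 3 :=
    Cfsg.Agent.S1017.card_modEq_card_fixedBy (α := Sylow 11 G) u hu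
  have hf3 := Cfsg.Agent.S1017.card_fixedBy_le (α := Sylow 11 G) u
  have hf4 := Cfsg.Agent.S1017.card_fixedBy_ne (α := Sylow 11 G)
    (Cfsg.Agent.S1017.sylow_action_nontrivial hd1) u hu1
  rw [hd] at hf2 hf3 hf4
  have hbig : Nat.card (Sylow 11 G) - 1 < 11 * (Nat.card (fixedBy (Sylow 11 G) u) - 1) := by
    rw [hd]; omega
  have hcard := Cfsg.Agent.S1017.card_centralizer_eq P hPc u huC hbig
  set f := Nat.card (fixedBy (Sylow 11 G) u) with hf
  set m' := Nat.card ↥(Subgroup.normalizer ((P : Subgroup G) : Set G) ⊓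
      Subgroup.centralizer ({u} : Set G)) with hm'
  have hf12 : f = 12 ∨ f = 45 := by omega
  have hPle : (P : Subgroup G) ≤ Subgroup.normalizer ((P : Subgroup G) : Set G) ⊓
      Subgroup.centralizer ({u} : Set G) :=
    le_inf Subgroup.le_normalizer ((Cfsg.Agent.S1017.le_centralizer_singleton_iff _ u).2 huC)
  have h11m : 11 ∣ m' := by
    conv_lhs => rw [← hPc]
    exact Subgroup.card_dvd_of_le hPle
  have humem : u ∈ Subgroup.normalizer ((P : Subgroup G) : Set G) ⊓
      Subgroup.centralizer ({u} : Set G) := by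
    refine ⟨Subgroup.centralizer_le_normalizer _ huC, ?_⟩
    show u ∈ Subgroup.centralizer ({u} : Set G)
    rw [Subgroup.mem_centralizer_iff]
    intro y hy
    rw [Set.mem_singleton_iff] at hy
    rw [hy]
  have h3m : 3 ∣ m' := by
    rw [← hu]
    exact Subgroup.orderOf_dvd_natCard _ humem
  have h33m : 33 ∣ m' := by
    have hcop : Nat.Coprime 11 3 := by norm_num
    exact hcop.mul_dvd_of_dvd_of_dvd h11m h3m
  have hm66 : m' ∣ 66 := by
    rw [← hN]
    exact Subgroup.card_dvd_of_le inf_le_left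
  have hfm : f * m' ∣ 5148 := by
    rw [← hcard, ← hn0]
    exact Subgroup.card_subgroup_dvd_card _
  have hm33 : m' = 33 ∨ m' = 66 := by
    obtain ⟨k, hk⟩ := h33m
    have hk2 : k ∣ 2 := by
      have : 33 * k ∣ 33 * 2 := by rw [← hk]; exact hm66
      exact Nat.dvd_of_mul_dvd_mul_left (by norm_num) this
    rcases (Nat.dvd_prime Nat.prime_two).1 hk2 with h | h
    · left; rw [hk, h]
    · right; rw [hk, h]
  have hH : Nat.card (Subgroup.centralizer ({u} : Set G)) = 396 := by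
    rw [hcard]
    rcases hf12 with h | h <;> rcases hm33 with h' | h' <;> rw [h, h'] at hfm ⊢
    · exfalso; revert hfm; norm_num
    · exfalso; revert hfm; norm_num
    · exfalso; revert hfm; norm_num
  -- the action on the 13 cosets of `C(u)`
  set H : Subgroup G := Subgroup.centralizer ({u} : Set G) with hHdef
  have hidx : H.index = 13 := by
    have := H.card_mul_index
    rw [hH, hn0] at this
    omega
  have hHtop : H ≠ ⊤ := by
    intro h
    rw [h, Subgroup.index_top] at hidx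
    omega
  have hα : Nat.card (G ⧸ H) = 13 := by rw [← hidx]; rfl
  have hnt := Cfsg.Agent.S1017.coset_action_nontrivial H hHtop
  have hx2 : Nat.card (G ⧸ H) % 11 = Nat.card (fixedBy (G ⧸ H) x) % 11 :=
    Cfsg.Agent.S1017.card_modEq_card_fixedBy (α := G ⧸ H) x hx
  have hx3 := Cfsg.Agent.S1017.card_fixedBy_le (α := G ⧸ H) x
  have hx4 := Cfsg.Agent.S1017.card_fixedBy_ne (α := G ⧸ H) hnt x hx1
  have hu2 : Nat.card (G ⧸ H) % 3 = Nat.card (fixedBy (G ⧸ H) u) % 3 :=
    Cfsg.Agent.S1017.card_modEq_card_fixedBy (α := G ⧸ H) u hu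
  have hu3 := Cfsg.Agent.S1017.card_fixedBy_le (α := G ⧸ H) u
  have hu4 := Cfsg.Agent.S1017.card_fixedBy_ne (α := G ⧸ H) hnt u hu1
  have hi1 : Nat.card (fixedBy (G ⧸ H) u) % 11 =
      Nat.card ↥(fixedBy (G ⧸ H) u ∩ fixedBy (G ⧸ H) x) % 11 :=
    Cfsg.Agent.S1017.card_fixedBy_modEq_inter (α := G ⧸ H) x u hcomm hx
  have hi2 : Nat.card (fixedBy (G ⧸ H) x) % 3 =
      Nat.card ↥(fixedBy (G ⧸ H) x ∩ fixedBy (G ⧸ H) u) % 3 :=
    Cfsg.Agent.S1017.card_fixedBy_modEq_inter (α := G ⧸ H) u x hcomm.symm hu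
  have hi3 := Cfsg.Agent.S1017.card_inter_comm (fixedBy (G ⧸ H) u) (fixedBy (G ⧸ H) x)
  have hi4 := Cfsg.Agent.S1017.card_inter_le_left (fixedBy (G ⧸ H) x) (fixedBy (G ⧸ H) u)
  rw [hα] at hx2 hx3 hx4 hu2 hu3 hu4
  rw [hi3] at hi1
  omega

end Cfsg.Agent.Helper30.SV
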