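import Mathlib
import Cfsg.Prelude.Def_ConjugacyFunctors

/-!
Sections of sections, and isomorphism-invariant `p`-group functors (`Cfsg.IsCharPFunctor`,
`Cfsg.inducedFunctor`): transport of "holds in every section" hypotheses to subgroups and quotients.
-/

set_option autoImplicit false
universe u

namespace Cfsg.Agent.Helper30

open Cfsg

section Sections

/-- A property of groups (in universe `u`) holds in every section `K/R` of `X`. -/
def SectionsHave (P : ∀ (Q : Type u) [Group Q], Prop) (X : Type u) [Group X] : Prop :=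
  ∀ (K R : Subgroup X) [(R.subgroupOf K).Normal], P (↥K ⧸ R.subgroupOf K)

/-- Isomorphism invariance among finite groups. -/
def IsoInvariantFin (P : ∀ (Q : Type u) [Group Q], Prop) : Prop :=
  ∀ (Q R : Type u) [Group Q] [Group R] [Finite Q], (Q ≃* R) → P Q → P R

variable {P : ∀ (Q : Type u) [Group Q], Prop}

theorem SectionsHave.self (hP : IsoInvariantFin P) {X : Type u} [Group X] [Finite X]
    (h : SectionsHave P X) : P X := by
  have hbot : (⊥ : Subgroup X).subgroupOf ⊤ = ⊥ := Subgroup.bot_subgroupOf _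
  have : ((⊥ : Subgroup X).subgroupOf ⊤).Normal := by rw [hbot]; infer_instance
  have e : (↥(⊤ : Subgroup X) ⧸ (⊥ : Subgroup X).subgroupOf ⊤) ≃* X :=
    ((QuotientGroup.quotientMulEquivOfEq hbot).trans QuotientGroup.quotientBot).trans
      Subgroup.topEquiv
  exact hP _ _ e (h ⊤ ⊥)

theorem SectionsHave.subgroup (hP : IsoInvariantFin P) {X : Type u} [Group X] [Finite X]
    (h : SectionsHave P X) (N : Subgroup X) : SectionsHave P ↥N := by
  intro K R hR
  have hinj : Function.Injective N.subtype := N.subtype_injective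
  have hR' : ((R.map N.subtype).subgroupOf (K.map N.subtype)).Normal := by
    constructor
    rintro ⟨n, hn⟩ hnR ⟨g, hg⟩
    rw [Subgroup.mem_subgroupOf] at hnR ⊢
    obtain ⟨r, hr, hrn⟩ := hnR
    obtain ⟨k, hk, hkg⟩ := hg
    obtain ⟨n', hn', hnn⟩ := hn
    have hnr : n' = r := hinj (hnn.trans hrn.symm)
    subst hnr
    have h1 := hR.conj_mem ⟨n', hn'⟩ (by rw [Subgroup.mem_subgroupOf]; exact hr) ⟨k, hk⟩
    rw [Subgroup.mem_subgroupOf] at h1
    refine ⟨k * n' * k⁻¹, h1, ?_⟩
    simp only [map_mul, map_inv, hkg, hnn]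
    rfl
  have e : (↥(K.map N.subtype) ⧸ (R.map N.subtype).subgroupOf (K.map N.subtype)) ≃*
      (↥K ⧸ R.subgroupOf K) := by
    refine (QuotientGroup.congr (R.subgroupOf K)
      ((R.map N.subtype).subgroupOf (K.map N.subtype))
      (K.equivMapOfInjective N.subtype hinj) ?_).symm
    ext ⟨x, hx⟩
    constructor
    · rintro ⟨y, hy, hyx⟩
      rw [Subgroup.mem_subgroupOf]
      rw [SetLike.mem_coe, Subgroup.mem_subgroupOf] at hy
      refine ⟨y.1, hy, ?_⟩
      have := congrArg Subtype.val hyx
      simpa using this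
    · intro hxR
      rw [Subgroup.mem_subgroupOf] at hxR
      obtain ⟨r, hr, hrx⟩ := hxR
      obtain ⟨k, hk, hkx⟩ := hx
      have hkr : k = r := hinj (hkx.trans hrx.symm)
      subst hkr
      refine ⟨⟨k, hk⟩, ?_, ?_⟩
      · rw [SetLike.mem_coe, Subgroup.mem_subgroupOf]; exact hr
      · apply Subtype.ext
        simpa using hkx
  exact hP _ _ e (h (K.map N.subtype) (R.map N.subtype))

theorem SectionsHave.quotient (hP : IsoInvariantFin P) {X : Type u} [Group X] [Finite X]
    (h : SectionsHave P X) (V : Subgroup X) [V.Normal] : SectionsHave P (X ⧸ V) := by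
  intro K R hR
  let π := QuotientGroup.mk' V
  let f : ↥(K.comap π) →* ↥K := π.subgroupComap K
  have hf : Function.Surjective f :=
    π.subgroupComap_surjective_of_surjective K (QuotientGroup.mk'_surjective V)
  have hker : (R.comap π).subgroupOf (K.comap π) = (R.subgroupOf K).comap f := by
    ext x; rfl
  have : ((R.comap π).subgroupOf (K.comap π)).Normal := by rw [hker]; infer_instance
  let g : ↥(K.comap π) →* ↥K ⧸ R.subgroupOf K := (QuotientGroup.mk' (R.subgroupOf K)).comp f
  have hg : Function.Surjective g := (QuotientGroup.mk'_surjective _).comp hf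
  have hkg : g.ker = (R.comap π).subgroupOf (K.comap π) := by
    rw [hker]; ext x
    rw [MonoidHom.mem_ker, Subgroup.mem_comap]
    exact QuotientGroup.eq_one_iff _
  have e : (↥(K.comap π) ⧸ (R.comap π).subgroupOf (K.comap π)) ≃* (↥K ⧸ R.subgroupOf K) :=
    (QuotientGroup.quotientMulEquivOfEq hkg.symm).trans
      (QuotientGroup.quotientKerEquivOfSurjective g hg)
  exact hP _ _ e (h (K.comap π) (R.comap π))

end Sections


section Functor

variable {p : ℕ} (W : ∀ (Q : Type u) [Group Q], Subgroup Q)

theorem inducedFunctor_le {X : Type u} [Group X] (T : Subgroup X) : inducedFunctor W T ≤ T := by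
  rintro _ ⟨y, _, rfl⟩
  exact y.2

theorem inducedFunctor_map_equiv {X Y : Type u} [Group X] [Group Y]
    (hW : IsCharPFunctor.{u} p W) (φ : X ≃* Y) (T : Subgroup X) [Finite ↥T]
    (hT : IsPGroup p ↥T) :
    (inducedFunctor W T).map φ.toMonoidHom = inducedFunctor W (T.map φ.toMonoidHom) := by
  unfold inducedFunctor
  have h := hW.2 ↥T ↥(T.map φ.toMonoidHom) hT (φ.subgroupMap T)
  rw [← h, Subgroup.map_map, Subgroup.map_map]
  congr 1

theorem inducedFunctor_ne_bot {X : Type u} [Group X] (hW : IsCharPFunctor.{u} p W)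
    (T : Subgroup X) [Finite ↥T] (hT : IsPGroup p ↥T) (hne : T ≠ ⊥) :
    inducedFunctor W T ≠ ⊥ := by
  unfold inducedFunctor
  have : Nontrivial ↥T := (Subgroup.nontrivial_iff_ne_bot T).2 hne
  have h := hW.1 ↥T hT this
  intro h0
  apply h
  rw [Subgroup.map_eq_bot_iff_of_injective _ T.subtype_injective] at h0
  exact h0

theorem normalizer_le_normalizer_inducedFunctor {X : Type u} [Group X]
    (hW : IsCharPFunctor.{u} p W) (T : Subgroup X) [Finite ↥T] (hT : IsPGroup p ↥T) :
    Subgroup.normalizer (T : Set X) ≤ Subgroup.normalizer ((inducedFunctor W T : Subgroup X) : Set X) := by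
  intro g hg
  have h1 := inducedFunctor_map_equiv W hW (MulAut.conj g) T hT
  have h2 : T.map (MulAut.conj g).toMonoidHom = T := by
    apply le_antisymm
    · rintro _ ⟨t, ht, rfl⟩
      exact (Subgroup.mem_normalizer_iff.1 hg t).1 ht
    · intro t ht
      refine ⟨g⁻¹ * t * g, ?_, by simp [MulAut.conj_apply, mul_assoc]⟩
      have := (Subgroup.mem_normalizer_iff.1 (inv_mem hg) t).1 ht
      simpa using this
  rw [h2] at h1
  rw [Subgroup.mem_normalizer_iff]
  intro x
  constructor
  · intro hx
    rw [← h1]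
    exact ⟨x, hx, rfl⟩
  · intro hx
    rw [← h1] at hx
    obtain ⟨y, hy, hyx⟩ := hx
    have : y = x := by
      have := hyx
      simp only [MulEquiv.toMonoidHom_eq_coe, MonoidHom.coe_coe, MulAut.conj_apply] at this
      exact mul_left_cancel (mul_right_cancel this)
    exact this ▸ hy

/-- `ControlsTransferIn … ⊤` unfolded. -/
theorem controlsTransferIn_top_iff {X : Type u} [Group X] (F : Subgroup X → Subgroup X) :
    ControlsTransferIn p F ⊤ ↔ ∃ T : Subgroup X, IsPGroup p ↥T ∧ ¬ p ∣ T.index ∧
      T ⊓ commutator X = T ⊓ ⁅Subgroup.normalizer ((F T : Subgroup X) : Set X),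
        Subgroup.normalizer ((F T : Subgroup X) : Set X)⁆ := by
  unfold ControlsTransferIn
  constructor
  · rintro ⟨T, -, hT, hi, he⟩
    refine ⟨T, hT, ?_, ?_⟩
    · rwa [Subgroup.relIndex_top_right] at hi
    · rw [top_inf_eq] at he
      exact he
  · rintro ⟨T, hT, hi, he⟩
    refine ⟨T, le_top, hT, ?_, ?_⟩
    · rwa [Subgroup.relIndex_top_right]
    · rw [top_inf_eq]
      exact he

/-- Control of transfer by an isomorphism-invariant functor is isomorphism invariant. -/
theorem controlsTransferIn_top_isoInvariant (hW : IsCharPFunctor.{u} p W) :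
    IsoInvariantFin (fun (Q : Type u) [Group Q] =>
      ControlsTransferIn p (inducedFunctor (G := Q) W) ⊤) := by
  intro Q R _ _ _ φ h
  rw [controlsTransferIn_top_iff] at h ⊢
  obtain ⟨T, hT, hi, he⟩ := h
  refine ⟨T.map φ.toMonoidHom, hT.map _, ?_, ?_⟩
  · rw [MulEquiv.toMonoidHom_eq_coe, Subgroup.index_map_equiv]; exact hi
  · have hinj : Function.Injective φ.toMonoidHom := φ.injective
    have h1 := congrArg (Subgroup.map φ.toMonoidHom) he
    rw [Subgroup.map_inf _ _ _ hinj, Subgroup.map_inf _ _ _ hinj, Subgroup.map_commutator,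
      Subgroup.map_equiv_normalizer_eq, inducedFunctor_map_equiv W hW φ T hT] at h1
    rw [← h1]
    congr 1
    rw [commutator_def, commutator_def, Subgroup.map_commutator]
    congr 1 <;> exact (Subgroup.map_top_of_surjective φ.toMonoidHom φ.surjective).symm

end Functor

end Cfsg.Agent.Helper30
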