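import Mathlib
import Cfsg.Agent.Lib.Helper84.Sp4Defs

/-!
# helper84 PSP4F server (S5320): piece (NSS) `normalizer_SS`
-/

set_option autoImplicit false

namespace Cfsg.Agent.Helper30.Sp4

open Matrix Cfsg.Agent.Helper84.Sp4

variable {F : Type*} [Field F]

theorem nss_neg_one_mem_Tor : (-1 : SL2 F) ∈ (Tor : Subgroup (SL2 F)) := by
  rw [Tor, Subgroup.mem_centralizer_iff]
  intro h _
  rw [neg_one_mul, mul_neg_one]

theorem nss_neg_one_mem_Q : (-1 : SL2 F) ∈ (Q : Subgroup (SL2 F)) := by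
  apply Subgroup.mem_sup_left
  apply Subgroup.subset_closure
  refine ⟨nss_neg_one_mem_Tor, 1, ?_⟩
  simp

theorem nss_neg_one_ne_one (h2 : (2 : F) ≠ 0) : (-1 : SL2 F) ≠ 1 := by
  intro h
  have h1 := congrArg (fun X : SL2 F => (X : Matrix (Fin 2) (Fin 2) F) 0 0) h
  simp at h1
  apply h2
  linear_combination (-1 : F) * h1

theorem nss_zc_val :
    ((zc : Sp4 F) : Matrix (Fin 2 ⊕ Fin 2) (Fin 2 ⊕ Fin 2) F) = -1 := by
  ext i j
  rcases i with i | i <;> rcases j with j | j <;> fin_cases i <;> fin_cases j <;>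
    simp [zc, embM, Matrix.one_apply]

theorem nss_zc_comm (g : Sp4 F) : zc * g = g * zc := by
  apply Subtype.ext
  show ((zc : Sp4 F) : Matrix (Fin 2 ⊕ Fin 2) (Fin 2 ⊕ Fin 2) F) * g.1 =
    g.1 * ((zc : Sp4 F) : Matrix (Fin 2 ⊕ Fin 2) (Fin 2 ⊕ Fin 2) F)
  rw [nss_zc_val]
  simp

theorem nss_emb_mul (a b c d : SL2 F) :
    (emb (a, b) : Sp4 F) * emb (c, d) = emb (a * c, b * d) := by
  rw [← map_mul, Prod.mk_mul_mk]

theorem nss_emb_inv (a b : SL2 F) : (emb (a, b) : Sp4 F)⁻¹ = emb (a⁻¹, b⁻¹) := by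
  rw [← map_inv, Prod.inv_mk]

theorem nss_emb_one : (emb ((1 : SL2 F), (1 : SL2 F)) : Sp4 F) = 1 := map_one emb

/-- the case `g = emb (a, b)`. -/
theorem nss_emb_case
    (hSS : ∀ g : Sp4 F, g ∈ (SS : Subgroup (Sp4 F)) ↔ ∃ a ∈ (Q : Subgroup (SL2 F)),
      ∃ b ∈ (Q : Subgroup (SL2 F)), g = emb (a, b) ∨ g = emb (a, b) * sw)
    (hinj : Function.Injective (emb : SL2 F × SL2 F → Sp4 F))
    (hne : ∀ X Y : SL2 F × SL2 F, (emb X : Sp4 F) ≠ emb Y * sw)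
    (hsw : ∀ A B : SL2 F, (sw : Sp4 F) * emb (A, B) * sw⁻¹ = emb (B, A))
    (a b : SL2 F)
    (hg : (emb (a, b) : Sp4 F) ∈
      Subgroup.normalizer ((SS : Subgroup (Sp4 F)) : Set (Sp4 F))) :
    ∃ s ∈ (SS : Subgroup (Sp4 F)),
      ∃ c ∈ Subgroup.normalizer ((Q : Subgroup (SL2 F)) : Set (SL2 F)),
        (emb (a, b) : Sp4 F) = s * emb (c, c) := by
  -- (i) conjugation by the second component preserves `Q`
  have key : ∀ a b : SL2 F, (emb (a, b) : Sp4 F) ∈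
      Subgroup.normalizer ((SS : Subgroup (Sp4 F)) : Set (Sp4 F)) →
      ∀ q ∈ (Q : Subgroup (SL2 F)), b * q * b⁻¹ ∈ (Q : Subgroup (SL2 F)) := by
    intro a b hg q hq
    have h1 : (emb ((1 : SL2 F), q) : Sp4 F) ∈ (SS : Subgroup (Sp4 F)) :=
      (hSS _).2 ⟨1, Subgroup.one_mem _, q, hq, Or.inl rfl⟩
    have h2 := (Subgroup.mem_normalizer_iff.1 hg _).1 h1
    rw [nss_emb_inv, nss_emb_mul, nss_emb_mul] at h2
    obtain ⟨a', _, b', hb', h | h⟩ := (hSS _).1 h2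
    · have h3 := hinj h
      rw [Prod.mk.injEq] at h3
      rw [h3.2]
      exact hb'
    · exact absurd h (hne _ _)
  have hbN : b ∈ Subgroup.normalizer ((Q : Subgroup (SL2 F)) : Set (SL2 F)) := by
    rw [Subgroup.mem_normalizer_iff]
    intro q
    constructor
    · exact key a b hg q
    · intro hq
      have hg' : (emb (a⁻¹, b⁻¹) : Sp4 F) ∈
          Subgroup.normalizer ((SS : Subgroup (Sp4 F)) : Set (Sp4 F)) := by
        rw [← nss_emb_inv]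
        exact Subgroup.inv_mem _ hg
      have h1 := key a⁻¹ b⁻¹ hg' _ hq
      have h2 : b⁻¹ * (b * q * b⁻¹) * b⁻¹⁻¹ = q := by group
      rw [h2] at h1
      exact h1
  have hswSS : (sw : Sp4 F) ∈ (SS : Subgroup (Sp4 F)) :=
    (hSS _).2 ⟨1, Subgroup.one_mem _, 1, Subgroup.one_mem _, Or.inr (by rw [nss_emb_one, one_mul])⟩
  have habQ : a * b⁻¹ ∈ (Q : Subgroup (SL2 F)) := by
    have h2 := (Subgroup.mem_normalizer_iff.1 hg _).1 hswSS
    have h3 : (emb (a, b) : Sp4 F) * sw * (emb (a, b))⁻¹ = emb (a * b⁻¹, b * a⁻¹) * sw := by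
      have h4 := hsw a⁻¹ b⁻¹
      have h5 : (sw : Sp4 F) * emb (a⁻¹, b⁻¹) = emb (b⁻¹, a⁻¹) * sw := by
        rw [← h4]
        group
      rw [nss_emb_inv, mul_assoc, h5, ← mul_assoc, nss_emb_mul]
    rw [h3] at h2
    obtain ⟨a', ha', b', _, h | h⟩ := (hSS _).1 h2
    · exact absurd h.symm (hne _ _)
    · have h6 := hinj (mul_right_cancel h)
      rw [Prod.mk.injEq] at h6
      rw [h6.1]
      exact ha'
  refine ⟨emb (a * b⁻¹, 1), (hSS _).2 ⟨a * b⁻¹, habQ, 1, Subgroup.one_mem _, Or.inl rfl⟩, b, hbN, ?_⟩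
  rw [nss_emb_mul]
  simp

/-- (NSS) the normalizer of `SS`. -/
theorem normalizer_SS [Finite F] (h2 : (2 : F) ≠ 0)
    (hcen : ∀ x : Sp4 F, x ∈ (SS : Subgroup (Sp4 F)) →
      (∀ s ∈ (SS : Subgroup (Sp4 F)), x * s * x⁻¹ * s⁻¹ = 1 ∨ x * s * x⁻¹ * s⁻¹ = zc) →
      x = 1 ∨ x = zc ∨ x = tt ∨ x = tt * zc)
    (hctt1 : ∀ g : Sp4 F, g * tt = tt * g → ∃ X : SL2 F × SL2 F, g = emb X)
    (hctt2 : ∀ g : Sp4 F, g * tt * g⁻¹ = tt * zc → ∃ X : SL2 F × SL2 F, g = emb X * sw)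
    (hSS : ∀ g : Sp4 F, g ∈ (SS : Subgroup (Sp4 F)) ↔ ∃ a ∈ (Q : Subgroup (SL2 F)),
      ∃ b ∈ (Q : Subgroup (SL2 F)), g = emb (a, b) ∨ g = emb (a, b) * sw)
    (hinj : Function.Injective (emb : SL2 F × SL2 F → Sp4 F))
    (hne : ∀ X Y : SL2 F × SL2 F, (emb X : Sp4 F) ≠ emb Y * sw)
    (hsw : ∀ A B : SL2 F, (sw : Sp4 F) * emb (A, B) * sw⁻¹ = emb (B, A))
    (g : Sp4 F) (hg : g ∈ Subgroup.normalizer ((SS : Subgroup (Sp4 F)) : Set (Sp4 F))) :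
    ∃ s ∈ (SS : Subgroup (Sp4 F)),
      ∃ a ∈ Subgroup.normalizer ((Q : Subgroup (SL2 F)) : Set (SL2 F)), g = s * emb (a, a) := by
  have hninv : (-1 : SL2 F)⁻¹ = -1 := by
    rw [inv_eq_iff_eq_inv, eq_comm, inv_eq_iff_eq_inv]
    apply eq_inv_of_mul_eq_one_left
    simp
  have httSS : (tt : Sp4 F) ∈ (SS : Subgroup (Sp4 F)) :=
    (hSS _).2 ⟨-1, nss_neg_one_mem_Q, 1, Subgroup.one_mem _, Or.inl rfl⟩
  have hswSS : (sw : Sp4 F) ∈ (SS : Subgroup (Sp4 F)) :=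
    (hSS _).2 ⟨1, Subgroup.one_mem _, 1, Subgroup.one_mem _, Or.inr (by rw [nss_emb_one, one_mul])⟩
  have htt_ne_one : (tt : Sp4 F) ≠ 1 := by
    intro h
    have h1 : (emb ((-1 : SL2 F), (1 : SL2 F)) : Sp4 F) = emb (1, 1) := by
      rw [nss_emb_one]
      exact h
    have h3 := hinj h1
    rw [Prod.mk.injEq] at h3
    exact nss_neg_one_ne_one h2 h3.1
  have htt_ne_zc : (tt : Sp4 F) ≠ zc := by
    intro h
    have h3 := hinj (h : (emb ((-1 : SL2 F), (1 : SL2 F)) : Sp4 F) = emb (-1, -1))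
    rw [Prod.mk.injEq] at h3
    exact nss_neg_one_ne_one h2 h3.2.symm
  -- `tt` is central modulo `zc` in `SS`
  have htt_c : ∀ s ∈ (SS : Subgroup (Sp4 F)),
      tt * s * tt⁻¹ * s⁻¹ = 1 ∨ tt * s * tt⁻¹ * s⁻¹ = zc := by
    intro s hs
    obtain ⟨a, _, b, _, h | h⟩ := (hSS _).1 hs
    · left
      rw [h, tt, nss_emb_inv, nss_emb_inv, nss_emb_mul, nss_emb_mul, nss_emb_mul, hninv]
      have e1 : (-1 : SL2 F) * a * -1 * a⁻¹ = 1 := by simp
      have e2 : (1 : SL2 F) * b * 1⁻¹ * b⁻¹ = 1 := by simp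
      rw [e1, e2, nss_emb_one]
    · right
      have e1 : (sw : Sp4 F) * tt⁻¹ * sw⁻¹ = emb (1, -1) := by
        rw [tt, nss_emb_inv, hsw, hninv, inv_one]
      have e2 : (tt : Sp4 F) * (emb (a, b) * sw) * tt⁻¹ * (emb (a, b) * sw)⁻¹ =
          tt * emb (a, b) * (sw * tt⁻¹ * sw⁻¹) * (emb (a, b))⁻¹ := by group
      rw [h, e2, e1, tt, nss_emb_inv, nss_emb_mul, nss_emb_mul, nss_emb_mul]
      have e3 : (-1 : SL2 F) * a * 1 * a⁻¹ = -1 := by simp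
      have e4 : (1 : SL2 F) * b * -1 * b⁻¹ = -1 := by simp
      rw [e3, e4]
      rfl
  have ht'SS : g * tt * g⁻¹ ∈ (SS : Subgroup (Sp4 F)) :=
    (Subgroup.mem_normalizer_iff.1 hg _).1 httSS
  have ht'_c : ∀ s ∈ (SS : Subgroup (Sp4 F)),
      (g * tt * g⁻¹) * s * (g * tt * g⁻¹)⁻¹ * s⁻¹ = 1 ∨
        (g * tt * g⁻¹) * s * (g * tt * g⁻¹)⁻¹ * s⁻¹ = zc := by
    intro s hs
    have hs' : g⁻¹ * s * g ∈ (SS : Subgroup (Sp4 F)) :=
      (Subgroup.mem_normalizer_iff''.1 hg _).1 hs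
    have e : (g * tt * g⁻¹) * s * (g * tt * g⁻¹)⁻¹ * s⁻¹ =
        g * (tt * (g⁻¹ * s * g) * tt⁻¹ * (g⁻¹ * s * g)⁻¹) * g⁻¹ := by group
    rcases htt_c _ hs' with h | h
    · left
      rw [e, h]
      group
    · right
      rw [e, h, ← nss_zc_comm, mul_inv_cancel_right]
  rcases hcen _ ht'SS ht'_c with h | h | h | h
  · exact absurd (conj_eq_one_iff.1 h) htt_ne_one
  · exfalso
    apply htt_ne_zc
    have : (tt : Sp4 F) = g⁻¹ * (g * tt * g⁻¹) * g := by group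
    rw [this, h, ← nss_zc_comm]
    group
  · have hcomm : g * tt = tt * g := by
      have := congrArg (fun z => z * g) h
      simpa using this
    obtain ⟨⟨a, b⟩, hX⟩ := hctt1 g hcomm
    rw [hX] at hg ⊢
    exact nss_emb_case hSS hinj hne hsw a b hg
  · obtain ⟨⟨a, b⟩, hX⟩ := hctt2 g h
    have hg' : (emb (a, b) : Sp4 F) ∈
        Subgroup.normalizer ((SS : Subgroup (Sp4 F)) : Set (Sp4 F)) := by
      have h1 : (emb (a, b) : Sp4 F) = g * sw⁻¹ := by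
        rw [hX]
        group
      rw [h1]
      exact Subgroup.mul_mem _ hg (Subgroup.inv_mem _ (Subgroup.le_normalizer hswSS))
    obtain ⟨s, hs, c, hc, hsc⟩ := nss_emb_case hSS hinj hne hsw a b hg'
    refine ⟨s * sw, Subgroup.mul_mem _ hs hswSS, c, hc, ?_⟩
    have h5 : (sw : Sp4 F) * emb (c, c) = emb (c, c) * sw := by
      have h4 := hsw c c
      nth_rewrite 2 [← h4]
      group
    rw [hX, hsc, mul_assoc, mul_assoc, h5]

end Cfsg.Agent.Helper30.Sp4
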