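import Mathlib
import Cfsg.Prelude.Def_Transfer
import Cfsg.Prelude.Def_TwoFusion
import Cfsg.Agent.Lib.Helper33.CentricFusion
import Cfsg.Agent.Lib.Helper33.ChainStab
import Cfsg.Agent.Lib.Helper2.Frobenius
import Cfsg.Agent.Lib.Helper66.NilpotentHall
import Cfsg.Agent.Lib.Helper31.GTPNil
import Cfsg.Agent.S4043

/-!
# A Frobenius criterion relative to a strongly closed subgroup

`G` is `p`-nilpotent as soon as `N_G(U)` is `p`-nilpotent for every `U ≤ D` with `C_D(U) ≤ U`, where
`D` is strongly closed in a Sylow `p`-subgroup.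
-/

set_option autoImplicit false

namespace Cfsg.Agent.Helper30.SC

open Cfsg Cfsg.Agent.Helper33
open scoped Pointwise commutatorElement

variable {G : Type*} [Group G]

/-- `p'`-elements of the normalizer of `T` centralize `T`. -/
def PGood (p : ℕ) (T : Subgroup G) : Prop :=
  ∀ y ∈ Subgroup.normalizer (T : Set G), (orderOf y).Coprime p →
    y ∈ Subgroup.centralizer (T : Set G)

theorem mem_of_pow_mem_of_coprime {K : Subgroup G} {y : G} {n : ℕ} (hco : (orderOf y).Coprime n)
    (h : y ^ n ∈ K) : y ∈ K := by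
  obtain ⟨m, hm⟩ := exists_pow_eq_self_of_coprime hco.symm
  rw [← hm]; exact K.pow_mem h m

theorem orderOf_conj_eq (g y : G) : orderOf (g * y * g⁻¹) = orderOf y := by
  have : g * y * g⁻¹ = MulAut.conj g y := by simp
  rw [this, MulEquiv.orderOf_eq]

theorem PGood.conj {p : ℕ} {T : Subgroup G} (h : PGood p T) (g : G) :
    PGood p (MulAut.conj g • T) := by
  intro y hy hco
  rw [normalizer_conj_smul] at hy
  rw [centralizer_conj_smul]
  rw [mem_conj_smul] at hy ⊢
  apply h _ hy
  have := orderOf_conj_eq g⁻¹ y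
  rw [inv_inv] at this
  rwa [this]

section fin

variable [Finite G] {p : ℕ} [Fact p.Prime]

/-- In a `p`-nilpotent subgroup, `p'`-elements centralize normal `p`-subgroups. -/
theorem pn_centralizes {L V : Subgroup G} (hL : HasNormalPComplement p ↥L) (hV : IsPGroup p V)
    (hVL : V ≤ L) (hn : L ≤ Subgroup.normalizer (V : Set G)) {y : G} (hy : y ∈ L)
    (hco : (orderOf y).Coprime p) : y ∈ Subgroup.centralizer (V : Set G) := by
  obtain ⟨K, P, hKL, -, hLK, -, hKcop, -, -, hKall⟩ := Cfsg.Agent.S4043.npc_data L hL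
  have hyK : y ∈ K := hKall y hy hco
  rw [Subgroup.mem_centralizer_iff]
  intro v hv
  have hvV : v ∈ V := hv
  -- the commutator lies in V ⊓ K
  set c := y * v * y⁻¹ * v⁻¹ with hc
  have hcV : c ∈ V := by
    have h1 : y * v * y⁻¹ ∈ V := (Subgroup.mem_normalizer_iff.mp (hn hy) v).mp hvV
    exact V.mul_mem h1 (V.inv_mem hvV)
  have hcK : c ∈ K := by
    have h1 : v * y⁻¹ * v⁻¹ ∈ K :=
      (Subgroup.mem_normalizer_iff.mp (hLK (hVL hvV)) y⁻¹).mp (K.inv_mem hyK)
    have : c = y * (v * y⁻¹ * v⁻¹) := by rw [hc]; group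
    rw [this]; exact K.mul_mem hyK h1
  have hc1 : c = 1 := by
    obtain ⟨k, hk⟩ := (IsPGroup.iff_orderOf.mp hV) ⟨c, hcV⟩
    have hk' : orderOf c = p ^ k := by
      rw [← hk]; exact Subgroup.orderOf_coe (⟨c, hcV⟩ : V)
    have hdvd : orderOf c ∣ Nat.card K := Subgroup.orderOf_dvd_natCard K hcK
    have hco' : (orderOf c).Coprime p := Nat.Coprime.coprime_dvd_left hdvd hKcop
    rw [hk'] at hco'
    have hp : p.Prime := Fact.out
    rcases Nat.eq_zero_or_pos k with h0 | hpos
    · rw [h0, pow_zero] at hk'; exact orderOf_eq_one_iff.mp hk'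
    · exfalso
      have h3 : p ∣ p ^ k := dvd_pow_self p hpos.ne'
      have h4 : p ∣ Nat.gcd (p ^ k) p := Nat.dvd_gcd h3 dvd_rfl
      rw [hco'] at h4
      exact hp.one_lt.ne' (Nat.dvd_one.mp h4)
  have : y * v = v * y := by
    have h2 : y * v * y⁻¹ * v⁻¹ = 1 := hc1
    calc y * v = (y * v * y⁻¹ * v⁻¹) * v * y := by group
      _ = v * y := by rw [h2, one_mul]
  exact this.symm

/-- the centralizer as a (normal) subgroup of the normalizer -/
abbrev cen (T : Subgroup G) : Subgroup ↥(Subgroup.normalizer (T : Set G)) :=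
  (Subgroup.centralizer (T : Set G)).subgroupOf (Subgroup.normalizer (T : Set G))

/-- image of a subgroup of `G` in `N(T)/C(T)` -/
noncomputable def img (T B : Subgroup G) :
    Subgroup (↥(Subgroup.normalizer (T : Set G)) ⧸ cen T) :=
  (B.subgroupOf (Subgroup.normalizer (T : Set G))).map (QuotientGroup.mk' (cen T))

theorem mk_eq_one_iff (T : Subgroup G) (m : ↥(Subgroup.normalizer (T : Set G))) :
    (QuotientGroup.mk' (cen T)) m = 1 ↔ (m : G) ∈ Subgroup.centralizer (T : Set G) := by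
  rw [QuotientGroup.mk'_apply, QuotientGroup.eq_one_iff, Subgroup.mem_subgroupOf]

theorem isPGroup_img {T B : Subgroup G}
    (h : ∀ b ∈ B, b ∈ Subgroup.normalizer (T : Set G) →
      ∃ k : ℕ, b ^ (p ^ k) ∈ Subgroup.centralizer (T : Set G)) : IsPGroup p (img T B) := by
  rintro ⟨x, hx⟩
  obtain ⟨m, hm, rfl⟩ := hx
  obtain ⟨k, hk⟩ := h (m : G) (Subgroup.mem_subgroupOf.mp hm) m.2
  refine ⟨k, ?_⟩
  apply Subtype.ext
  show ((QuotientGroup.mk' (cen T)) m) ^ (p ^ k) = 1
  rw [← map_pow, mk_eq_one_iff]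
  simpa using hk

theorem img_sup {T B₁ B₂ : Subgroup G} (h₁ : B₁ ≤ Subgroup.normalizer (T : Set G))
    (h₂ : B₂ ≤ Subgroup.normalizer (T : Set G)) : img T (B₁ ⊔ B₂) = img T B₁ ⊔ img T B₂ := by
  unfold img
  rw [Subgroup.subgroupOf_sup h₁ h₂, Subgroup.map_sup]

theorem img_normal {T B : Subgroup G}
    (hnorm : Subgroup.normalizer (T : Set G) ≤ Subgroup.normalizer (B : Set G)) :
    (img T B).Normal := by
  have : (B.subgroupOf (Subgroup.normalizer (T : Set G))).Normal :=
    Subgroup.normal_subgroupOf_of_le_normalizer hnorm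
  exact Subgroup.Normal.map this _ (QuotientGroup.mk'_surjective _)

/-- The criterion: `N(T)/C(T)` is a `p`-group as soon as it is generated by a normal `p`-subgroup
and `p`-elements. -/
theorem crit (T B : Subgroup G) (hBN : B ≤ Subgroup.normalizer (T : Set G))
    (hnorm : Subgroup.normalizer (T : Set G) ≤ Subgroup.normalizer (B : Set G))
    (hB : IsPGroup p (img T B))
    (hy : ∀ y ∈ Subgroup.normalizer (T : Set G), (orderOf y).Coprime p →
      ∃ b ∈ B, ∃ k : ℕ, (b * y) ^ (p ^ k) ∈ Subgroup.centralizer (T : Set G)) : PGood p T := by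
  intro y hyN hco
  obtain ⟨b, hb, k, hk⟩ := hy y hyN hco
  have hp : p.Prime := Fact.out
  set π := QuotientGroup.mk' (cen T) with hπ
  set y' : ↥(Subgroup.normalizer (T : Set G)) := ⟨y, hyN⟩ with hy'
  set b' : ↥(Subgroup.normalizer (T : Set G)) := ⟨b, hBN hb⟩ with hb'
  have hn1 : (π (b' * y')) ^ (p ^ k) = 1 := by
    rw [← map_pow, hπ, mk_eq_one_iff]
    simpa using hk
  have hZ : IsPGroup p (Subgroup.zpowers (π (b' * y'))) := by
    have hdvd : orderOf (π (b' * y')) ∣ p ^ k := orderOf_dvd_of_pow_eq_one hn1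
    obtain ⟨j, -, hj⟩ := (Nat.dvd_prime_pow hp).mp hdvd
    apply IsPGroup.of_card (n := j)
    rw [Nat.card_zpowers, hj]
  have hnormal : (img T B).Normal := img_normal hnorm
  have hsup : IsPGroup p (Subgroup.zpowers (π (b' * y')) ⊔ img T B : Subgroup _) :=
    IsPGroup.to_sup_of_normal_right hZ hB
  have hbimg : π b' ∈ img T B := ⟨b', Subgroup.mem_subgroupOf.mpr hb, rfl⟩
  have hymem : π y' ∈ (Subgroup.zpowers (π (b' * y')) ⊔ img T B : Subgroup _) := by
    have : π y' = (π b')⁻¹ * π (b' * y') := by rw [map_mul]; group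
    rw [this]
    exact Subgroup.mul_mem _ (Subgroup.inv_mem _ (Subgroup.mem_sup_right hbimg))
      (Subgroup.mem_sup_left (Subgroup.mem_zpowers _))
  obtain ⟨j, hj⟩ := hsup ⟨π y', hymem⟩
  have hj' : (π y') ^ (p ^ j) = 1 := by
    have := congrArg Subtype.val hj
    simpa using this
  rw [← map_pow, hπ, mk_eq_one_iff] at hj'
  have hj'' : y ^ (p ^ j) ∈ Subgroup.centralizer (T : Set G) := by simpa using hj'
  exact mem_of_pow_mem_of_coprime (Nat.Coprime.pow_right j hco) hj''

/-- Frattini argument, elementwise. -/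
theorem frattini_elt {B R M : Subgroup G} (hR : IsSylIn p R B)
    (hn : M ≤ Subgroup.normalizer (B : Set G)) :
    ∀ m ∈ M, ∃ b ∈ B, b * m ∈ Subgroup.normalizer (R : Set G) := by
  intro m hm
  have hmB : MulAut.conj m • B = B := smul_eq_of_mem_normalizer (hn hm)
  have hR' : IsSylIn p (MulAut.conj m • R) B := by
    have := hR.conj m
    rwa [hmB] at this
  obtain ⟨x, hx, hxR⟩ := hR.exists_conj_eq hR'
  refine ⟨x, hx, ?_⟩
  rw [mem_normalizer_iff_smul_eq, conj_mul_smul]
  exact hxR

/-- product decomposition in a join with a normalized factor -/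
theorem exists_mul_of_mem_sup {K H : Subgroup G} (hn : H ≤ Subgroup.normalizer (K : Set G))
    {x : G} (hx : x ∈ K ⊔ H) : ∃ k ∈ K, ∃ h ∈ H, x = k * h := by
  let Sg : Subgroup G :=
    { carrier := {x | ∃ k ∈ K, ∃ h ∈ H, x = k * h}
      one_mem' := ⟨1, K.one_mem, 1, H.one_mem, by simp⟩
      mul_mem' := by
        rintro _ _ ⟨k, hk, h, hh, rfl⟩ ⟨k', hk', h', hh', rfl⟩
        refine ⟨k * (h * k' * h⁻¹), K.mul_mem hk ?_, h * h', H.mul_mem hh hh', by group⟩
        exact (Subgroup.mem_normalizer_iff.mp (hn hh) k').mp hk'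
      inv_mem' := by
        rintro _ ⟨k, hk, h, hh, rfl⟩
        refine ⟨h⁻¹ * k⁻¹ * h⁻¹⁻¹, ?_, h⁻¹, H.inv_mem hh, by group⟩
        exact (Subgroup.mem_normalizer_iff.mp (hn (H.inv_mem hh)) k⁻¹).mp (K.inv_mem hk) }
  have hle : K ⊔ H ≤ Sg := by
    apply sup_le
    · intro k hk; exact ⟨k, hk, 1, H.one_mem, by simp⟩
    · intro h hh; exact ⟨1, K.one_mem, h, hh, by simp⟩
  exact hle hx

theorem normalizer_le_normalizer_centralizer (T : Subgroup G) :
    Subgroup.normalizer (T : Set G) ≤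
      Subgroup.normalizer ((Subgroup.centralizer (T : Set G) : Subgroup G) : Set G) := by
  intro n hn
  rw [mem_normalizer_iff_smul_eq, ← centralizer_conj_smul, smul_eq_of_mem_normalizer hn]

/-- for a fully normalized `T` whose automizer is a `p`-group, `N(T) = C(T) (S ∩ N(T))` -/
theorem exists_cen_mul_of_pgood (S : Sylow p G) {T : Subgroup G}
    (hfn : IsSylIn p ((S : Subgroup G) ⊓ Subgroup.normalizer (T : Set G))
      (Subgroup.normalizer (T : Set G))) (hgood : PGood p T) :
    ∀ x ∈ Subgroup.normalizer (T : Set G), ∃ c ∈ Subgroup.centralizer (T : Set G),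
      ∃ s ∈ (S : Subgroup G) ⊓ Subgroup.normalizer (T : Set G), x = c * s := by
  have hp : p.Prime := Fact.out
  set N := Subgroup.normalizer (T : Set G) with hN
  set C := Subgroup.centralizer (T : Set G) with hC
  set PN := (S : Subgroup G) ⊓ N with hPN
  have hCN : C ≤ N := Subgroup.centralizer_le_normalizer _
  have hNC : N ≤ Subgroup.normalizer (C : Set G) := normalizer_le_normalizer_centralizer T
  set L := C ⊔ PN with hL
  have hLN : L ≤ N := sup_le hCN inf_le_right
  -- the quotient `N/C` is a `p`-group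
  have hquot : IsPGroup p (↥N ⧸ cen T) := by
    intro x
    obtain ⟨m, rfl⟩ := QuotientGroup.mk'_surjective (cen T) x
    refine ⟨(orderOf (m : G)).factorization p, ?_⟩
    rw [← map_pow, mk_eq_one_iff]
    have h1 := Cfsg.Agent.Helper2.coprime_orderOf_pow_ordProj (p := p) (m : G)
    have h2 : (m : G) ^ (p ^ (orderOf (m : G)).factorization p) ∈ N := N.pow_mem m.2 _
    have := hgood _ h2 h1
    simpa using this
  obtain ⟨k, hk⟩ := IsPGroup.iff_card.mp hquot
  have hCrel : C.relIndex N = p ^ k := by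
    rw [Subgroup.relIndex, Subgroup.index_eq_card]; exact hk
  have h2 : L.relIndex N ∣ p ^ k := by
    rw [← hCrel]; exact Subgroup.relIndex_dvd_of_le_left N le_sup_left
  have h1 : ¬ p ∣ L.relIndex N := by
    intro hdvd
    apply hfn.2.2
    rw [← Subgroup.relIndex_mul_relIndex PN L N le_sup_right hLN]
    exact Dvd.dvd.mul_left hdvd _
  obtain ⟨j, -, hj⟩ := (Nat.dvd_prime_pow hp).mp h2
  have hj0 : j = 0 := by
    by_contra h
    apply h1
    rw [hj]
    exact dvd_pow_self p h
  rw [hj0, pow_zero] at hj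
  have hNL : N ≤ L := Subgroup.relIndex_eq_one.mp hj
  intro x hx
  exact exists_mul_of_mem_sup ((inf_le_right : PN ≤ N).trans hNC) (hNL hx)

theorem conj_mem_of_smul_eq {g x : G} {R : Subgroup G} (h : MulAut.conj g • R = R) (hx : x ∈ R) :
    g * x * g⁻¹ ∈ R := by
  have := conj_mem_conj_smul (g := g) hx
  rwa [h] at this

theorem conj_mem_of_mem_normalizer {g x : G} {R : Subgroup G}
    (h : g ∈ Subgroup.normalizer (R : Set G)) (hx : x ∈ R) : g * x * g⁻¹ ∈ R :=
  conj_mem_of_smul_eq (smul_eq_of_mem_normalizer h) hx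

/-- Lemma 1: under the hypothesis, `p'`-elements normalizing `U ≤ D` centralize it. -/
theorem pgood_of_le_stronglyClosed (S : Sylow p G) {D : Subgroup G}
    (hD : IsStronglyClosed D (S : Subgroup G))
    (H : ∀ U : Subgroup G, U ≤ D → D ⊓ Subgroup.centralizer (U : Set G) ≤ U →
      HasNormalPComplement p ↥(Subgroup.normalizer (U : Set G))) :
    ∀ U : Subgroup G, U ≤ D → PGood p U := by
  intro U hUD
  obtain ⟨h, -, hUS', hfn⟩ := exists_conj_fully_normalized S (hUD.trans hD.1)
  set U' := MulAut.conj h • U with hU'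
  have hU'D : U' ≤ D := by
    intro x hx
    have hxS : x ∈ (S : Subgroup G) := hUS' hx
    rw [hU', mem_conj_smul] at hx
    have := hD.2 (h⁻¹ * x * h) (hUD hx) h (by
      have e : h * (h⁻¹ * x * h) * h⁻¹ = x := by group
      rw [e]; exact hxS)
    have e : h * (h⁻¹ * x * h) * h⁻¹ = x := by group
    rwa [e] at this
  suffices hs : PGood p U' by
    have := hs.conj h⁻¹
    rwa [hU', conj_inv_smul_smul] at this
  set N := Subgroup.normalizer (U' : Set G) with hN
  set C := Subgroup.centralizer (U' : Set G) with hC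
  have hCN : C ≤ N := Subgroup.centralizer_le_normalizer _
  have hNC : N ≤ Subgroup.normalizer (C : Set G) := normalizer_le_normalizer_centralizer U'
  have hR : IsSylIn p (((S : Subgroup G) ⊓ N) ⊓ C) C := hfn.inf_normal hCN hNC
  set R := ((S : Subgroup G) ⊓ N) ⊓ C with hRdef
  have hU'p : IsPGroup p U' := S.isPGroup'.to_le hUS'
  apply crit U' C hCN hNC
  · apply isPGroup_img
    intro b hb _
    exact ⟨0, by simpa using hb⟩
  intro y hyN hco
  obtain ⟨c, hc, hcy⟩ := frattini_elt hR hNC y hyN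
  refine ⟨c, hc, (orderOf (c * y)).factorization p, ?_⟩
  set n := c * y with hn
  have hnN : n ∈ N := N.mul_mem (hCN hc) hyN
  set U₁ := U' ⊔ (D ⊓ C) with hU₁
  have hU₁D : U₁ ≤ D := sup_le hU'D inf_le_left
  have hcen : D ⊓ Subgroup.centralizer (U₁ : Set G) ≤ U₁ := by
    have h1 : Subgroup.centralizer (U₁ : Set G) ≤ C :=
      Subgroup.centralizer_le (by exact_mod_cast (le_sup_left : U' ≤ U₁))
    exact (inf_le_inf_left D h1).trans le_sup_right
  have hpn := H U₁ hU₁D hcen
  have hnDC : n ∈ Subgroup.normalizer ((D ⊓ C : Subgroup G) : Set G) := by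
    apply mem_normalizer_of_conj_smul_le
    rw [conj_smul_le_iff]
    intro x hx
    have hxD : x ∈ D := (Subgroup.mem_inf.mp hx).1
    have hxC : x ∈ C := (Subgroup.mem_inf.mp hx).2
    have hxR : x ∈ R := Subgroup.mem_inf.mpr ⟨Subgroup.mem_inf.mpr ⟨hD.1 hxD, hCN hxC⟩, hxC⟩
    have h1 : n * x * n⁻¹ ∈ R := conj_mem_of_mem_normalizer hcy hxR
    have h1S : n * x * n⁻¹ ∈ (S : Subgroup G) := (Subgroup.mem_inf.mp (Subgroup.mem_inf.mp h1).1).1
    exact Subgroup.mem_inf.mpr ⟨hD.2 x hxD n h1S, (Subgroup.mem_inf.mp h1).2⟩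
  have hnU₁ : n ∈ Subgroup.normalizer (U₁ : Set G) := by
    rw [mem_normalizer_iff_smul_eq, hU₁, Subgroup.smul_sup, smul_eq_of_mem_normalizer hnN,
      smul_eq_of_mem_normalizer hnDC]
  have hk := Cfsg.Agent.Helper2.coprime_orderOf_pow_ordProj (p := p) n
  set L := Subgroup.normalizer (U₁ : Set G) ⊓ N with hL
  have hLpn : HasNormalPComplement p ↥L := Cfsg.Agent.Helper31.GT.pn_mono inf_le_left hpn
  have hU'L : U' ≤ L :=
    le_inf ((le_sup_left : U' ≤ U₁).trans Subgroup.le_normalizer) Subgroup.le_normalizer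
  have hnL : n ^ (p ^ (orderOf n).factorization p) ∈ L :=
    L.pow_mem (Subgroup.mem_inf.mpr ⟨hnU₁, hnN⟩) _
  exact pn_centralizes hLpn hU'p hU'L inf_le_right hnL hk

/-- the stability group of the chain `Q ≥ U ≥ 1` -/
def stab2 (Q U : Subgroup G) : Subgroup G := cmod U Q ⊓ Subgroup.centralizer (U : Set G)

theorem mem_stab2 {Q U : Subgroup G} {a : G} :
    a ∈ stab2 Q U ↔ (a ∈ Subgroup.normalizer (U : Set G) ∧ ∀ q ∈ Q, ⁅a, q⁆ ∈ U) ∧
      a ∈ Subgroup.centralizer (U : Set G) := by
  rw [stab2, Subgroup.mem_inf, mem_cmod]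

theorem commutator_eq_one_of_mem_centralizer {U : Subgroup G} {a u : G}
    (ha : a ∈ Subgroup.centralizer (U : Set G)) (hu : u ∈ U) : ⁅a, u⁆ = 1 := by
  have := ha u hu
  rw [commutatorElement_def]
  calc a * u * a⁻¹ * u⁻¹ = (u * a) * a⁻¹ * u⁻¹ := by rw [this]
    _ = 1 := by group

theorem mem_normalizer_bot (a : G) : a ∈ Subgroup.normalizer ((⊥ : Subgroup G) : Set G) := by
  rw [Subgroup.normalizer_eq_top]; trivial

theorem stab2_pow_mem_centralizer {Q U : Subgroup G} (hUQ : U ≤ Q) {a : G} (ha : a ∈ stab2 Q U) :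
    a ^ (Nat.card Q ^ 2) ∈ Subgroup.centralizer (Q : Set G) := by
  obtain ⟨⟨haU, h1⟩, h2⟩ := mem_stab2.mp ha
  let Cch : ℕ → Subgroup G := fun j => if j = 0 then Q else if j = 1 then U else ⊥
  have hanti : ∀ j, Cch (j + 1) ≤ Cch j := by
    intro j
    rcases j with _ | _ | j
    · simpa [Cch] using hUQ
    · simp [Cch]
    · simp [Cch]
  have hm : Cch 2 = ⊥ := by simp [Cch]
  have hq : ∀ x ∈ Cch 0, x ^ Nat.card Q = 1 := by
    intro x hx
    have hxQ : x ∈ Q := by simpa [Cch] using hx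
    exact orderOf_dvd_iff_pow_eq_one.mp (Subgroup.orderOf_dvd_natCard Q hxQ)
  have hy : a ∈ chainStabG Cch := by
    rw [mem_chainStabG]
    intro j
    rcases j with _ | _ | j
    · simpa [Cch] using ⟨haU, h1⟩
    · refine ⟨by simpa [Cch] using mem_normalizer_bot a, ?_⟩
      intro u hu
      have huU : u ∈ U := by simpa [Cch] using hu
      have : ⁅a, u⁆ = 1 := commutator_eq_one_of_mem_centralizer h2 huU
      simp [Cch, this]
    · refine ⟨by simpa [Cch] using mem_normalizer_bot a, ?_⟩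
      intro u hu
      have hu1 : u = 1 := by simpa [Cch] using hu
      simp [Cch, hu1]
  have := chainStabG_pow_mem_centralizer Cch hanti 2 hm (Nat.card Q) hq hy
  simpa [Cch] using this

theorem commutator_conj (m a q : G) :
    ⁅m * a * m⁻¹, q⁆ = m * ⁅a, m⁻¹ * q * m⁆ * m⁻¹ := by
  simp only [commutatorElement_def]; group

/-- `stab2 Q U` is normalized by everything normalizing `Q` and `U`. -/
theorem stab2_conj_mem {Q U : Subgroup G} {m a : G} (hmQ : m ∈ Subgroup.normalizer (Q : Set G))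
    (hmU : m ∈ Subgroup.normalizer (U : Set G)) (ha : a ∈ stab2 Q U) :
    m * a * m⁻¹ ∈ stab2 Q U := by
  obtain ⟨⟨haU, h1⟩, h2⟩ := mem_stab2.mp ha
  have hmC : m ∈ Subgroup.normalizer ((Subgroup.centralizer (U : Set G) : Subgroup G) : Set G) :=
    normalizer_le_normalizer_centralizer U hmU
  refine mem_stab2.mpr ⟨⟨?_, ?_⟩, conj_mem_of_mem_normalizer hmC h2⟩
  · exact Subgroup.mul_mem _ (Subgroup.mul_mem _ hmU haU) (Subgroup.inv_mem _ hmU)
  · intro q hq
    rw [commutator_conj]
    have hq' : m⁻¹ * q * m ∈ Q := by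
      have := conj_mem_of_mem_normalizer (Subgroup.inv_mem _ hmQ) hq
      simpa using this
    exact conj_mem_of_mem_normalizer hmU (h1 _ hq')

theorem stab2_le_normalizer {Q U : Subgroup G} (hUQ : U ≤ Q) :
    stab2 Q U ≤ Subgroup.normalizer (Q : Set G) := by
  intro a ha
  obtain ⟨⟨-, h1⟩, -⟩ := mem_stab2.mp ha
  apply mem_normalizer_of_conj_smul_le
  rw [conj_smul_le_iff]
  intro q hq
  have h2 : ⁅a, q⁆ ∈ Q := hUQ (h1 q hq)
  have : a * q * a⁻¹ = ⁅a, q⁆ * q := by rw [commutatorElement_def]; group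
  rw [this]
  exact Q.mul_mem h2 hq

/-- the main induction: every fully normalized centric subgroup has a `p`-group as automizer -/
theorem pgood_centricFN (S : Sylow p G) {D : Subgroup G}
    (hD : IsStronglyClosed D (S : Subgroup G))
    (H : ∀ U : Subgroup G, U ≤ D → D ⊓ Subgroup.centralizer (U : Set G) ≤ U →
      HasNormalPComplement p ↥(Subgroup.normalizer (U : Set G))) :
    ∀ n : ℕ, ∀ Q ∈ centricFN S, Nat.card (S : Subgroup G) - Nat.card Q = n → PGood p Q := by
  intro n
  induction n using Nat.strong_induction_on with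
  | _ n ih =>
  intro Q hQ hn
  obtain ⟨⟨hQS, hfn⟩, hcen⟩ := hQ
  have hp : p.Prime := Fact.out
  set M := Subgroup.normalizer (Q : Set G) with hM
  set U₀ := Q ⊓ D with hU₀
  have hQp : IsPGroup p Q := S.isPGroup'.to_le hQS
  have hDnorm : ∀ s ∈ (S : Subgroup G), ∀ d ∈ D, s * d * s⁻¹ ∈ D := by
    intro s hs d hd
    exact hD.2 d hd s ((S : Subgroup G).mul_mem ((S : Subgroup G).mul_mem hs (hD.1 hd))
      ((S : Subgroup G).inv_mem hs))
  have hMU₀ : M ≤ Subgroup.normalizer (U₀ : Set G) := by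
    intro m hm
    apply mem_normalizer_of_conj_smul_le
    rw [conj_smul_le_iff]
    intro x hx
    have hxQ := (Subgroup.mem_inf.mp hx).1
    have hxD := (Subgroup.mem_inf.mp hx).2
    have h1 : m * x * m⁻¹ ∈ Q := conj_mem_of_mem_normalizer hm hxQ
    exact Subgroup.mem_inf.mpr ⟨h1, hD.2 x hxD m (hQS h1)⟩
  by_cases hc : D ⊓ Subgroup.centralizer (U₀ : Set G) ≤ U₀
  · have hpn := H U₀ inf_le_right hc
    have hMpn : HasNormalPComplement p ↥M := Cfsg.Agent.Helper31.GT.pn_mono hMU₀ hpn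
    intro y hy hco
    exact pn_centralizes hMpn hQp Subgroup.le_normalizer le_rfl hy hco
  · set F := D ⊓ Subgroup.centralizer (U₀ : Set G) with hF
    have hFQ : ¬ F ≤ Q := fun h => hc (le_inf h inf_le_left)
    set E := F ⊔ Q with hE
    have hES : E ≤ (S : Subgroup G) := sup_le (inf_le_left.trans hD.1) hQS
    have hEp : IsPGroup p E := S.isPGroup'.to_le hES
    have hQE : Q ≤ E := le_sup_right
    have hne : Q ≠ E := by
      intro h
      apply hFQ
      rw [h]; exact le_sup_left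
    have hgrow := IsSylIn.normalizer_growth hEp hQE hne
    obtain ⟨e, heEN, heQ⟩ := SetLike.exists_of_lt hgrow
    have heE : e ∈ E := (Subgroup.mem_inf.mp heEN).1
    have heM : e ∈ M := (Subgroup.mem_inf.mp heEN).2
    have hQF : Q ≤ Subgroup.normalizer (F : Set G) := by
      intro q hq
      apply mem_normalizer_of_conj_smul_le
      rw [conj_smul_le_iff]
      intro x hx
      have hxD := (Subgroup.mem_inf.mp hx).1
      have hxC := (Subgroup.mem_inf.mp hx).2
      have hqU₀ : q ∈ Subgroup.normalizer (U₀ : Set G) := hMU₀ (Subgroup.le_normalizer hq)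
      exact Subgroup.mem_inf.mpr ⟨hDnorm q (hQS hq) x hxD,
        conj_mem_of_mem_normalizer (normalizer_le_normalizer_centralizer U₀ hqU₀) hxC⟩
    obtain ⟨f, hfF, q, hq, hfq⟩ := exists_mul_of_mem_sup hQF heE
    have hfM : f ∈ M := by
      have : f = e * q⁻¹ := by rw [hfq]; group
      rw [this]; exact M.mul_mem heM (M.inv_mem (Subgroup.le_normalizer hq))
    have hfQ : f ∉ Q := by
      intro h
      apply heQ
      rw [hfq]; exact Q.mul_mem h hq
    have hfD : f ∈ D := (Subgroup.mem_inf.mp hfF).1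
    have hfC : f ∈ Subgroup.centralizer (U₀ : Set G) := (Subgroup.mem_inf.mp hfF).2
    set A₀ := stab2 Q U₀ with hA₀
    have hU₀Q : U₀ ≤ Q := inf_le_left
    have hA₀M : A₀ ≤ M := stab2_le_normalizer hU₀Q
    have hMA₀ : M ≤ Subgroup.normalizer (A₀ : Set G) := by
      intro m hm
      apply mem_normalizer_of_conj_smul_le
      rw [conj_smul_le_iff]
      intro a ha
      exact stab2_conj_mem hm (hMU₀ hm) ha
    have hfA₀ : f ∈ A₀ := by
      refine mem_stab2.mpr ⟨⟨Subgroup.centralizer_le_normalizer _ hfC, ?_⟩, hfC⟩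
      intro q' hq'
      refine Subgroup.mem_inf.mpr ⟨?_, ?_⟩
      · have h1 : f * q' * f⁻¹ ∈ Q := conj_mem_of_mem_normalizer hfM hq'
        have : ⁅f, q'⁆ = (f * q' * f⁻¹) * q'⁻¹ := by rw [commutatorElement_def]
        rw [this]; exact Q.mul_mem h1 (Q.inv_mem hq')
      · have h1 : q' * f⁻¹ * q'⁻¹ ∈ D := hDnorm q' (hQS hq') f⁻¹ (D.inv_mem hfD)
        have : ⁅f, q'⁆ = f * (q' * f⁻¹ * q'⁻¹) := by rw [commutatorElement_def]; group
        rw [this]; exact D.mul_mem hfD h1
    set B := A₀ ⊔ Q with hB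
    have hBM : B ≤ M := sup_le hA₀M Subgroup.le_normalizer
    have hMB : M ≤ Subgroup.normalizer (B : Set G) := by
      intro m hm
      rw [mem_normalizer_iff_smul_eq, hB, Subgroup.smul_sup, smul_eq_of_mem_normalizer (hMA₀ hm),
        smul_eq_of_mem_normalizer hm]
    obtain ⟨e', he'⟩ := IsPGroup.iff_card.mp hQp
    have hBimg : IsPGroup p (img Q B) := by
      rw [hB, img_sup hA₀M Subgroup.le_normalizer]
      have hn1 : (img Q A₀).Normal := img_normal hMA₀
      have h1 : IsPGroup p (img Q A₀) := by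
        apply isPGroup_img
        intro b hb _
        refine ⟨e' * 2, ?_⟩
        have := stab2_pow_mem_centralizer hU₀Q hb
        rwa [he', ← pow_mul] at this
      have h2 : IsPGroup p (img Q Q) := by
        apply isPGroup_img
        intro b hb _
        refine ⟨e', ?_⟩
        have : b ^ (p ^ e') = 1 := by
          rw [← he']; exact orderOf_dvd_iff_pow_eq_one.mp (Subgroup.orderOf_dvd_natCard Q hb)
        rw [this]; exact Subgroup.one_mem _
      exact IsPGroup.to_sup_of_normal_left h1 h2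
    set Q₁ := (S : Subgroup G) ⊓ B with hQ₁
    have hQ₁syl : IsSylIn p Q₁ B := by
      have := hfn.inf_normal hBM hMB
      have e1 : ((S : Subgroup G) ⊓ M) ⊓ B = Q₁ := by
        rw [hQ₁, inf_assoc, inf_eq_right.mpr hBM]
      rwa [e1] at this
    have hQQ₁ : Q ≤ Q₁ := le_inf hQS le_sup_right
    have hfQ₁ : f ∈ Q₁ := Subgroup.mem_inf.mpr ⟨hD.1 hfD, Subgroup.mem_sup_left hfA₀⟩
    have hlt : Q < Q₁ := lt_of_le_of_ne hQQ₁ (fun h => hfQ (h ▸ hfQ₁))
    obtain ⟨h, -, hQ₂S, hfn₂⟩ :=
      exists_conj_fully_normalized S (inf_le_left : Q₁ ≤ (S : Subgroup G))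
    set Q₂ := MulAut.conj h • Q₁ with hQ₂
    have hQ₂mem : Q₂ ∈ centricFN S := ⟨⟨hQ₂S, hfn₂⟩, (hcen.mono hQQ₁).conj h⟩
    have hcard₂ : Nat.card Q₂ = Nat.card Q₁ := card_conj_smul h Q₁
    have hcardlt : Nat.card Q < Nat.card Q₁ := card_lt_of_lt hlt
    have hcardle : Nat.card Q₂ ≤ Nat.card (S : Subgroup G) := Subgroup.card_le_of_le hQ₂S
    have hgood₂ : PGood p Q₂ :=
      ih (Nat.card (S : Subgroup G) - Nat.card Q₂) (by omega) Q₂ hQ₂mem rfl
    have hgood₁ : PGood p Q₁ := by
      have := hgood₂.conj h⁻¹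
      rwa [hQ₂, conj_inv_smul_smul] at this
    apply crit Q B hBM hMB hBimg
    intro y hyM hco
    obtain ⟨b, hb, hby⟩ := frattini_elt hQ₁syl hMB y hyM
    refine ⟨b, hb, (orderOf (b * y)).factorization p, ?_⟩
    have hk := Cfsg.Agent.Helper2.coprime_orderOf_pow_ordProj (p := p) (b * y)
    have h1 := hgood₁ _ (Subgroup.pow_mem _ hby _) hk
    exact Subgroup.centralizer_le (by exact_mod_cast hQQ₁) h1

theorem prod_mem_of_isStepChain {S : Subgroup G} :
    ∀ (l : List G) (A : Set G), IsStepChain (fun s => s ∈ S) (S : Set G) A l → l.prod ∈ S := by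
  intro l
  induction l with
  | nil => intro A _; simp
  | cons x tl ih =>
    intro A h
    rw [List.prod_cons]
    exact S.mul_mem h.1 (ih _ h.2.2)

/-- The criterion: `G` is `p`-nilpotent if `N_G(U)` is for all `U ≤ D` with `C_D(U) ≤ U`. -/
theorem hasNormalPComplement_of_stronglyClosed (S : Sylow p G) {D : Subgroup G}
    (hD : IsStronglyClosed D (S : Subgroup G))
    (H : ∀ U : Subgroup G, U ≤ D → D ⊓ Subgroup.centralizer (U : Set G) ≤ U →
      HasNormalPComplement p ↥(Subgroup.normalizer (U : Set G))) :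
    HasNormalPComplement p G := by
  have hp : p.Prime := Fact.out
  by_cases hS : (S : Subgroup G) = ⊥
  · refine ⟨S, ⊤, inferInstance, ?_⟩
    rw [hS]
    exact Subgroup.isComplement'_top_bot
  · have hdvd : p ∣ Nat.card (S : Subgroup G) := by
      obtain ⟨k, hk⟩ := IsPGroup.iff_card.mp S.isPGroup'
      rcases Nat.eq_zero_or_pos k with h0 | hpos
      · exfalso
        apply hS
        rw [h0, pow_zero] at hk
        exact (Subgroup.card_eq_one).mp hk
      · rw [hk]; exact dvd_pow_self p hpos.ne'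
    apply Cfsg.Agent.Helper66.hasNormalPComplement_of_fusion_p (S : Subgroup G)
      S.isPGroup'.isNilpotent S.card_coprime_index p hdvd
    intro x hx _ g hgx
    set A := Subgroup.zpowers x with hA
    have hAS : A ≤ (S : Subgroup G) := (Subgroup.zpowers_le).mpr hx
    have hg : MulAut.conj (g⁻¹)⁻¹ • A ≤ (S : Subgroup G) := by
      rw [inv_inv, conj_smul_le_iff]
      intro a ha
      obtain ⟨i, rfl⟩ := Subgroup.mem_zpowers_iff.mp ha
      rw [← conj_zpow]
      exact Subgroup.zpow_mem _ hgx i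
    have hreach := reachA_centric S A hAS g⁻¹ hg
    have hgood : Good (fun s => s ∈ (S : Subgroup G)) ((S : Subgroup G) : Set G) (A : Set G) g⁻¹ := by
      apply ReachA.bind _ hreach
      intro T hT n hn y hy
      obtain ⟨c, hc, s, hs, rfl⟩ :=
        exists_cen_mul_of_pgood S hT.1.2 (pgood_centricFN S hD H _ T hT rfl) n hn
      have hsS : s ∈ (S : Subgroup G) := (Subgroup.mem_inf.mp hs).1
      have h1 : Good (fun s => s ∈ (S : Subgroup G)) ((S : Subgroup G) : Set G) (rc y (A : Set G)) s := by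
        apply Good.single hsS
        rintro _ ⟨b, hb, rfl⟩
        exact (S : Subgroup G).mul_mem ((S : Subgroup G).mul_mem ((S : Subgroup G).inv_mem hsS)
          (hT.1.1 (hy hb))) hsS
      apply h1.of_agree
      intro a ha
      have haT : a ∈ T := hy ha
      have hca : c⁻¹ * a * c = a := by
        have := hc a haT
        calc c⁻¹ * a * c = c⁻¹ * (a * c) := by group
          _ = c⁻¹ * (c * a) := by rw [this]
          _ = a := by group
      calc (c * s)⁻¹ * a * (c * s) = s⁻¹ * (c⁻¹ * a * c) * s := by group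
        _ = s⁻¹ * a * s := by rw [hca]
    obtain ⟨l, hl, hla⟩ := hgood
    have hlS : l.prod ∈ (S : Subgroup G) := prod_mem_of_isStepChain l _ hl
    refine ⟨l.prod⁻¹, (S : Subgroup G).inv_mem hlS, ?_⟩
    have := hla x (Subgroup.mem_zpowers x)
    rw [inv_inv] at this ⊢
    exact this

end fin

end Cfsg.Agent.Helper30.SC
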