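import Mathlib
import Cfsg.Prelude.Def_Local
import Cfsg.Agent.Lib.Helper89.TH1Defs
import Cfsg.Agent.Lib.Helper54.Solv

/-!
# TH1 server (helper89, S3797), piece (CA) `caseA` (helper30)
-/

set_option autoImplicit false

namespace Cfsg.Agent.Helper30.TH1

open Cfsg Subgroup Cfsg.Agent.Helper89.TH1
open scoped commutatorElement

universe u

variable {G : Type u} [Group G] [Finite G]

/-- (CA) if no nontrivial element of `W` is centralized by `K` then `|G : O_2(G)|` is odd. -/
theorem caseA {W K : Subgroup G} (hB : Base G W) (hK : KData G K)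
    (hfix : ∀ w ∈ W, (∀ k ∈ K, k * w = w * k) → w = 1) : Odd (pCore 2 G).index := by
  classical
  have hQn : (pCore 2 G).Normal := Subgroup.sSup_normal _ (fun _ h => h.1)
  have hQ2 : IsPGroup 2 (pCore 2 G) := Cfsg.Agent.Helper54.isPGroup_pCore
  -- `Q ⊓ K = ⊥`
  have hQK : ∀ g : G, g ∈ pCore 2 G → g ∈ K → g = 1 := by
    intro g hgQ hgK
    obtain ⟨n, hn⟩ := (IsPGroup.iff_orderOf.mp hQ2) ⟨g, hgQ⟩
    have h1 : orderOf g = 2 ^ n := by
      rw [← hn]; exact (Subgroup.orderOf_mk g hgQ).symm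
    have h2 : orderOf g ∣ Nat.card K := by
      have h := orderOf_dvd_natCard (⟨g, hgK⟩ : K)
      rwa [Subgroup.orderOf_mk] at h
    have hcop : Nat.Coprime (orderOf g) (Nat.card K) := by
      rw [h1]
      exact Nat.Coprime.pow_left n (Nat.coprime_two_left.mpr hK.K_odd)
    have h3 : orderOf g = 1 := Nat.Coprime.eq_one_of_dvd hcop h2
    exact orderOf_eq_one_iff.mp h3
  -- involutions of `H = N(K)` are trivial
  have hinvH : ∀ t ∈ normalizer (K : Set G), t ^ 2 = 1 → t = 1 := by
    intro t htH ht2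
    have htW : t ∈ W := hB.inv_mem t ht2
    have htQ : t ∈ pCore 2 G := hB.W_le htW
    apply hfix t htW
    intro k hk
    have hc : t * k * t⁻¹ * k⁻¹ = 1 := by
      apply hQK
      · have h1 : k * t⁻¹ * k⁻¹ ∈ pCore 2 G := hQn.conj_mem _ ((pCore 2 G).inv_mem htQ) k
        have h2 := (pCore 2 G).mul_mem htQ h1
        have h3 : t * (k * t⁻¹ * k⁻¹) = t * k * t⁻¹ * k⁻¹ := by group
        rw [← h3]; exact h2
      · have h1 : t * k * t⁻¹ ∈ K := (mem_normalizer_iff.mp htH k).mp hk
        exact K.mul_mem h1 (K.inv_mem hk)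
    calc k * t = (t * k * t⁻¹ * k⁻¹)⁻¹ * (t * k) := by group
      _ = t * k := by rw [hc, inv_one, one_mul]
  -- `|H|` is odd
  have hHodd : Odd (Nat.card (normalizer (K : Set G))) := by
    by_contra hne
    rw [Nat.not_odd_iff_even] at hne
    have h2 : 2 ∣ Nat.card (normalizer (K : Set G)) := hne.two_dvd
    obtain ⟨t, ht⟩ := exists_prime_orderOf_dvd_card' 2 h2
    have ht2 : (t : G) ^ 2 = 1 := by
      have h := pow_orderOf_eq_one t
      rw [ht] at h
      have h' := congrArg (fun x : normalizer (K : Set G) => (x : G)) h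
      simpa using h'
    have ht1 : (t : G) = 1 := hinvH t t.2 ht2
    have ht1' : t = 1 := Subtype.ext ht1
    rw [ht1', orderOf_one] at ht
    exact absurd ht (by norm_num)
  -- `H → G ⧸ Q` is onto
  have hsurj : Function.Surjective
      ((QuotientGroup.mk' (pCore 2 G)).comp (normalizer (K : Set G)).subtype) := by
    intro x
    induction x using QuotientGroup.induction_on with
    | H g =>
      obtain ⟨q, hqQ, hqg⟩ := hK.frat g
      refine ⟨⟨q * g, hqg⟩, ?_⟩
      show QuotientGroup.mk' (pCore 2 G) (q * g) = QuotientGroup.mk' (pCore 2 G) g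
      have hq1 : QuotientGroup.mk' (pCore 2 G) q = 1 := (QuotientGroup.eq_one_iff q).mpr hqQ
      rw [map_mul, hq1, one_mul]
  have hdvd : Nat.card (G ⧸ pCore 2 G) ∣ Nat.card (normalizer (K : Set G)) :=
    Subgroup.card_dvd_of_surjective _ hsurj
  rw [Subgroup.index_eq_card]
  exact hHodd.of_dvd_nat hdvd

end Cfsg.Agent.Helper30.TH1
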