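import Mathlib
import Cfsg.Agent.S1782

set_option autoImplicit false

/-!
# TI families of non-elementary subgroups of a 2-subgroup commute (helper30)

* `pow_prime_mem_frattini` : in a finite `p`-group `x ^ p ∈ Φ(P)`.
* `ti_family_commute` : ambient-group form of statement S1782.
-/

namespace Cfsg.Agent.Helper30

open Subgroup

/-- In a finite `p`-group, `p`-th powers lie in the Frattini subgroup. -/
theorem pow_prime_mem_frattini {P : Type*} [Group P] [Finite P] {p : ℕ} [hp : Fact p.Prime]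
    (hP : IsPGroup p P) (x : P) : x ^ p ∈ frattini P := by
  have hnil : Group.IsNilpotent P := hP.isNilpotent
  have hnc : NormalizerCondition P := Group.normalizerCondition_of_isNilpotent
  unfold frattini Order.radical
  rw [Subgroup.mem_iInf]
  intro M
  rw [Subgroup.mem_iInf]
  intro hM
  have hMn : M.Normal := Subgroup.NormalizerCondition.normal_of_coatom M hnc hM
  by_contra hx
  have hlt : M < M ⊔ zpowers (x ^ p) := by
    refine lt_of_le_of_ne le_sup_left ?_
    intro h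
    apply hx
    rw [h]
    exact le_sup_right (a := M) (mem_zpowers _)
  have htop : M ⊔ zpowers (x ^ p) = ⊤ := hM.2 _ hlt
  have hxmem : x ∈ M ⊔ zpowers (x ^ p) := by rw [htop]; exact mem_top x
  rw [← SetLike.mem_coe, Subgroup.normal_mul] at hxmem
  obtain ⟨m, hm, z, hz, hmz⟩ := Set.mem_mul.mp hxmem
  obtain ⟨k, rfl⟩ := mem_zpowers_iff.mp hz
  -- `m = x ^ (1 - p k)`
  have hm' : m = x ^ (1 - (p : ℤ) * k) := by
    have h0 : m = x * ((x ^ p) ^ k)⁻¹ := eq_mul_inv_of_mul_eq hmz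
    rw [h0, ← zpow_natCast x p, ← zpow_mul, ← zpow_neg, ← zpow_one_add]
    congr 1
  obtain ⟨n, hn⟩ := hP x
  have hcop : IsCoprime (1 - (p : ℤ) * k) ((p : ℤ) ^ n) := by
    apply IsCoprime.pow_right
    exact ⟨1, k, by ring⟩
  obtain ⟨u, v, huv⟩ := hcop
  have hxM : x ∈ M := by
    have h1 : x = (x ^ (1 - (p : ℤ) * k)) ^ u * (x ^ ((p : ℤ) ^ n)) ^ v := by
      rw [← zpow_mul, ← zpow_mul, ← zpow_add, mul_comm _ u, mul_comm _ v, huv, zpow_one]
    have h2 : x ^ ((p : ℤ) ^ n) = 1 := by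
      have : ((p : ℤ) ^ n) = ((p ^ n : ℕ) : ℤ) := by push_cast; rfl
      rw [this, zpow_natCast, hn]
    rw [h1, h2, one_zpow, mul_one, ← hm']
    exact M.zpow_mem hm u
  exact hx (M.pow_mem hxM p)

variable {X : Type*} [Group X]

theorem subtype_comp_conj (S : Subgroup X) (s : ↥S) :
    S.subtype.comp (MulAut.conj s).toMonoidHom =
      (MulAut.conj (s : X)).toMonoidHom.comp S.subtype := by
  ext y
  simp [MulAut.conj_apply]

/-- Ambient form of S1782.  Let `S` be a `2`-subgroup of the finite group `X` and `𝒟` a family of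
subgroups of `S`, invariant under conjugation by `S`, of equal orders, pairwise equal or meeting
trivially, each containing an element with nontrivial square.  Then distinct members of `𝒟`
commute elementwise. -/
theorem ti_family_commute [Finite X] (S : Subgroup X) (hS : IsPGroup 2 ↥S)
    (𝒟 : Set (Subgroup X)) (hle : ∀ D ∈ 𝒟, D ≤ S)
    (hinv : ∀ s ∈ S, ∀ D ∈ 𝒟, D.map (MulAut.conj s).toMonoidHom ∈ 𝒟)
    (hsq : ∀ D ∈ 𝒟, ∃ d ∈ D, d ^ 2 ≠ 1)
    (hord : ∀ D ∈ 𝒟, ∀ D' ∈ 𝒟, Nat.card ↥D = Nat.card ↥D')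
    (hti : ∀ D ∈ 𝒟, ∀ D' ∈ 𝒟, D = D' ∨ D ⊓ D' = ⊥) :
    ∀ D ∈ 𝒟, ∀ D' ∈ 𝒟, D ≠ D' → ∀ d ∈ D, ∀ d' ∈ D', d * d' = d' * d := by
  have : Fact (Nat.Prime 2) := ⟨Nat.prime_two⟩
  have hinj : Function.Injective S.subtype := S.subtype_injective
  let Δ : Set (Subgroup ↥S) := {R | R.map S.subtype ∈ 𝒟}
  have hcard : ∀ R : Subgroup ↥S, Nat.card ↥(R.map S.subtype) = Nat.card ↥R := fun R =>
    (Nat.card_congr (R.equivMapOfInjective S.subtype hinj).toEquiv).symm
  have key := Cfsg.Agent.S1782.result hS Δ ?_ ?_ ?_ ?_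
  · intro D hD D' hD' hne d hd d' hd'
    have hDS : (D.subgroupOf S).map S.subtype = D := by
      rw [Subgroup.subgroupOf_map_subtype]; exact inf_eq_left.mpr (hle D hD)
    have hDS' : (D'.subgroupOf S).map S.subtype = D' := by
      rw [Subgroup.subgroupOf_map_subtype]; exact inf_eq_left.mpr (hle D' hD')
    have h1 : D.subgroupOf S ∈ Δ := by show _ ∈ 𝒟; rw [hDS]; exact hD
    have h2 : D'.subgroupOf S ∈ Δ := by show _ ∈ 𝒟; rw [hDS']; exact hD'
    have h3 : D.subgroupOf S ≠ D'.subgroupOf S := by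
      intro h
      apply hne
      rw [← hDS, ← hDS', h]
    have h4 := key _ h1 _ h2 h3
    rw [Subgroup.commutator_eq_bot_iff_le_centralizer] at h4
    have h5 : (⟨d, hle D hD hd⟩ : ↥S) ∈ D.subgroupOf S := Subgroup.mem_subgroupOf.mpr hd
    have h6 : (⟨d', hle D' hD' hd'⟩ : ↥S) ∈ D'.subgroupOf S := Subgroup.mem_subgroupOf.mpr hd'
    have h7 := (Subgroup.mem_centralizer_iff.mp (h4 h5)) _ h6
    exact (congrArg Subtype.val h7).symm
  · -- invariance
    intro s R hR
    show (R.map (MulAut.conj s).toMonoidHom).map S.subtype ∈ 𝒟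
    rw [Subgroup.map_map, subtype_comp_conj, ← Subgroup.map_map]
    exact hinv (s : X) s.2 _ hR
  · -- Frattini subgroups are nontrivial
    intro R hR
    obtain ⟨d, hd, hd2⟩ := hsq _ hR
    obtain ⟨r, hr, rfl⟩ := hd
    have hRp : IsPGroup 2 ↥R := hS.to_subgroup R
    have h1 := pow_prime_mem_frattini hRp (⟨r, hr⟩ : ↥R)
    intro hbot
    rw [hbot, Subgroup.mem_bot] at h1
    apply hd2
    have h2 := congrArg (fun y : ↥R => ((y : ↥S) : X)) h1
    simpa using h2
  · intro R hR T hT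
    rw [← hcard R, ← hcard T]
    exact hord _ hR _ hT
  · intro R hR T hT
    rcases hti _ hR _ hT with h | h
    · left
      exact Subgroup.map_injective hinj h
    · right
      rw [← Subgroup.map_inf _ _ _ hinj] at h
      exact (Subgroup.map_eq_bot_iff_of_injective _ hinj).mp h

end Cfsg.Agent.Helper30
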