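import Mathlib
import Cfsg.Prelude.Def_ConjugacyFunctors
import Cfsg.Agent.Lib.Helper30.SectionFunctor
import Cfsg.Agent.Lib.Helper30.IndexP

/-!
Glauberman: if an isomorphism-invariant functor controls transfer in every section of `G`, `S ≠ 1` and
`N_G(S)/C_G(S)` is a `p`-group, then `G` has a normal subgroup of index `p`.
-/

set_option autoImplicit false
universe u

namespace Cfsg.Agent.Helper30

open Cfsg
open scoped Pointwise commutatorElement

/-- the `N/C` condition: every `p'`-element of `N(S)` centralizes `S`. -/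
def NCPGroup (p : ℕ) {X : Type*} [Group X] (S : Subgroup X) : Prop :=
  ∀ g ∈ Subgroup.normalizer (S : Set X), (orderOf g).Coprime p → g ∈ Subgroup.centralizer (S : Set X)

theorem NCPGroup.conj {p : ℕ} {X : Type*} [Group X] {S : Subgroup X} (h : NCPGroup p S) (g : X) :
    NCPGroup p (MulAut.conj g • S) := by
  intro x hx hox
  have hmem : ∀ y, y ∈ MulAut.conj g • S ↔ g⁻¹ * y * g ∈ S := by
    intro y
    rw [Subgroup.mem_pointwise_smul_iff_inv_smul_mem]
    simp [MulAut.smul_def]
  have hy : g⁻¹ * x * g ∈ Subgroup.normalizer (S : Set X) := by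
    rw [Subgroup.mem_normalizer_iff]
    intro s
    have h1 := (Subgroup.mem_normalizer_iff.1 hx) (g * s * g⁻¹)
    rw [hmem, hmem] at h1
    have e1 : g⁻¹ * (g * s * g⁻¹) * g = s := by group
    have e2 : g⁻¹ * (x * (g * s * g⁻¹) * x⁻¹) * g = g⁻¹ * x * g * s * (g⁻¹ * x * g)⁻¹ := by group
    rw [e1, e2] at h1
    exact h1
  have ho : orderOf (g⁻¹ * x * g) = orderOf x := by
    have := (MulAut.conj g⁻¹).orderOf_eq x
    simpa [MulAut.conj_apply] using this
  have hc := h _ hy (by rw [ho]; exact hox)
  rw [Subgroup.mem_centralizer_iff] at hc ⊢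
  intro t ht
  have ht' : g⁻¹ * t * g ∈ S := (hmem t).1 ht
  have h2 := hc _ ht'
  have h3 := congrArg (fun z => g * z * g⁻¹) h2
  have e3 : g * (g⁻¹ * t * g * (g⁻¹ * x * g)) * g⁻¹ = t * x := by group
  have e4 : g * (g⁻¹ * x * g * (g⁻¹ * t * g)) * g⁻¹ = x * t := by group
  rw [e3, e4] at h3
  exact h3

variable {p : ℕ} [hp : Fact p.Prime] (W : ∀ (Q : Type u) [Group Q], Subgroup Q)

theorem exists_normal_index_p_of_sectionsControlTransfer (hW : IsCharPFunctor.{u} p W) :
    ∀ (n : ℕ) (X : Type u) [Group X] [Finite X], Nat.card X = n →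
      SectionsHave (fun (Q : Type u) [Group Q] =>
        ControlsTransferIn p (inducedFunctor (G := Q) W) ⊤) X →
      ∀ S : Sylow p X, (S : Subgroup X) ≠ ⊥ → NCPGroup p (S : Subgroup X) →
      ∃ N : Subgroup X, N.Normal ∧ N.index = p := by
  intro n
  induction n using Nat.strong_induction_on with
  | _ n ih =>
  intro X _ _ hcard hsec S hS hNC
  have hP := controlsTransferIn_top_isoInvariant (p := p) W hW
  have h0 := hsec.self hP
  rw [controlsTransferIn_top_iff] at h0
  obtain ⟨T, hT, hi, he⟩ := h0
  -- `T` is a Sylow subgroup, conjugate to `S`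
  obtain ⟨T', rfl⟩ : ∃ T' : Sylow p X, (T' : Subgroup X) = T := ⟨hT.toSylow hi, rfl⟩
  obtain ⟨g, hg⟩ := MulAction.exists_smul_eq X S T'
  have hgT : MulAut.conj g • (S : Subgroup X) = (T' : Subgroup X) := by
    rw [← hg, Sylow.coe_subgroup_smul]
  have hTne : (T' : Subgroup X) ≠ ⊥ := by
    rw [← hgT]
    intro h0
    apply hS
    rw [eq_bot_iff] at h0 ⊢
    intro s hs
    have hs' : MulAut.conj g • s ∈ MulAut.conj g • (S : Subgroup X) :=
      Subgroup.smul_mem_pointwise_smul _ _ _ hs
    have h2 := h0 hs'
    rw [Subgroup.mem_bot] at h2 ⊢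
    simpa [MulAut.smul_def] using h2
  have hNCT : NCPGroup p (T' : Subgroup X) := hgT ▸ hNC.conj g
  have hTN : (T' : Subgroup X) ≤ Subgroup.normalizer ((inducedFunctor W (T' : Subgroup X) : Subgroup X) : Set X) :=
    Subgroup.le_normalizer.trans (normalizer_le_normalizer_inducedFunctor W hW (T' : Subgroup X) hT)
  by_cases hN : Subgroup.normalizer ((inducedFunctor W (T' : Subgroup X) : Subgroup X) : Set X) = ⊤
  · -- `W(T)` is normal
    have hFn : (inducedFunctor W (T' : Subgroup X)).Normal := Subgroup.normalizer_eq_top_iff.1 hN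
    have hFne : inducedFunctor W (T' : Subgroup X) ≠ ⊥ := inducedFunctor_ne_bot W hW (T' : Subgroup X) hT hTne
    have hFle : inducedFunctor W (T' : Subgroup X) ≤ (T' : Subgroup X) := inducedFunctor_le W (T' : Subgroup X)
    have hcardlt : Nat.card (X ⧸ inducedFunctor W (T' : Subgroup X)) < n := by
      have h1 := Subgroup.card_eq_card_quotient_mul_card_subgroup (inducedFunctor W (T' : Subgroup X))
      have h2 : 1 < Nat.card ↥(inducedFunctor W (T' : Subgroup X)) := (Subgroup.one_lt_card_iff_ne_bot _).2 hFne
      have h3 : 0 < Nat.card (X ⧸ inducedFunctor W (T' : Subgroup X)) := Nat.card_pos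
      rw [hcard] at h1
      nlinarith
    by_cases hTbar : (T' : Subgroup X).map (QuotientGroup.mk' (inducedFunctor W (T' : Subgroup X))) = ⊥
    · -- `T = W(T)` is normal
      have hTF : (T' : Subgroup X) = inducedFunctor W (T' : Subgroup X) := by
        apply le_antisymm _ hFle
        intro t ht
        have : QuotientGroup.mk' (inducedFunctor W (T' : Subgroup X)) t ∈
            (T' : Subgroup X).map (QuotientGroup.mk' (inducedFunctor W (T' : Subgroup X))) := ⟨t, ht, rfl⟩
        rw [hTbar, Subgroup.mem_bot] at this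
        exact (QuotientGroup.eq_one_iff t).1 this
      have hTn : (T' : Subgroup X).Normal := hTF ▸ hFn
      apply exists_normal_index_p_of_normal_sylow (T' : Subgroup X) hT hi hTne
      intro x hx
      apply hNCT x _ hx
      rw [Subgroup.normalizer_eq_top_iff.2 hTn]
      exact Subgroup.mem_top x
    · -- pass to `X / W(T)`
      apply exists_normal_index_p_of_surjective (QuotientGroup.mk' (inducedFunctor W (T' : Subgroup X)))
        (QuotientGroup.mk'_surjective _)
      have hsecQ := hsec.quotient hP (inducedFunctor W (T' : Subgroup X))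
      refine ih _ hcardlt (X ⧸ inducedFunctor W (T' : Subgroup X)) rfl hsecQ
        (Sylow.mapSurjective (QuotientGroup.mk'_surjective _) T') ?_ ?_
      · rw [Sylow.coe_mapSurjective]
        exact hTbar
      · rw [Sylow.coe_mapSurjective]
        show NCPGroup p ((T' : Subgroup X).map (QuotientGroup.mk' (inducedFunctor W (T' : Subgroup X))))
        have hcomap : ∀ t : X, QuotientGroup.mk' (inducedFunctor W (T' : Subgroup X)) t ∈
            (T' : Subgroup X).map (QuotientGroup.mk' (inducedFunctor W (T' : Subgroup X))) ↔ t ∈ (T' : Subgroup X) := by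
          intro t
          rw [← Subgroup.mem_comap, Subgroup.comap_map_eq, QuotientGroup.ker_mk',
            sup_eq_left.2 hFle]
        intro y hy hoy
        obtain ⟨g₀, rfl⟩ := QuotientGroup.mk'_surjective (inducedFunctor W (T' : Subgroup X)) y
        have hg₀ : g₀ ∈ Subgroup.normalizer ((T' : Subgroup X) : Set X) := by
          rw [Subgroup.mem_normalizer_iff]
          intro t
          rw [← hcomap t, ← hcomap (g₀ * t * g₀⁻¹)]
          have := (Subgroup.mem_normalizer_iff.1 hy) (QuotientGroup.mk' (inducedFunctor W (T' : Subgroup X)) t)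
          simpa only [map_mul, map_inv] using this
        obtain ⟨k, hk1, hk2⟩ := exists_pow_lift_coprime (p := p)
          (QuotientGroup.mk' (inducedFunctor W (T' : Subgroup X))) g₀ hoy
        have hkc := hNCT _ (pow_mem hg₀ k) hk2
        rw [← hk1]
        rw [Subgroup.mem_centralizer_iff] at hkc ⊢
        rintro _ ⟨t, ht, rfl⟩
        rw [← map_mul, ← map_mul, hkc t ht]
  · -- `N = N_X(W(T))` is proper
    obtain ⟨N, hNdef⟩ : ∃ N : Subgroup X,
        N = Subgroup.normalizer ((inducedFunctor W (T' : Subgroup X) : Subgroup X) : Set X) := ⟨_, rfl⟩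
    rw [← hNdef] at hN hTN he
    have hcardlt : Nat.card ↥N < n := by
      have h1 : Nat.card ↥N ≤ Nat.card X := Subgroup.card_le_card_group N
      have h2 : Nat.card ↥N ≠ Nat.card X := fun h => hN (Subgroup.eq_top_of_card_eq N h)
      omega
    have hsecN := hsec.subgroup hP N
    have hTNne : ((T' : Subgroup X).subgroupOf N) ≠ ⊥ := by
      intro h0
      rw [Subgroup.subgroupOf_eq_bot] at h0
      exact hTne (disjoint_self.1 (h0.mono_right hTN))
    have hNCN : NCPGroup p ((T' : Subgroup X).subgroupOf N) := by
      intro x hx hox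
      have hx' : (x : X) ∈ Subgroup.normalizer ((T' : Subgroup X) : Set X) := by
        rw [Subgroup.mem_normalizer_iff]
        intro t
        constructor
        · intro ht
          have := (Subgroup.mem_normalizer_iff.1 hx ⟨t, hTN ht⟩).1
            (by rw [Subgroup.mem_subgroupOf]; exact ht)
          rw [Subgroup.mem_subgroupOf] at this
          simpa using this
        · intro ht
          have hmem : (x : X)⁻¹ * ((x : X) * t * (x : X)⁻¹) * (x : X) ∈ N :=
            N.mul_mem (N.mul_mem (N.inv_mem x.2) (hTN ht)) x.2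
          have htN : t ∈ N := by
            have e : (x : X)⁻¹ * ((x : X) * t * (x : X)⁻¹) * (x : X) = t := by group
            rwa [e] at hmem
          have := (Subgroup.mem_normalizer_iff.1 hx ⟨t, htN⟩).2
            (by rw [Subgroup.mem_subgroupOf]; simpa using ht)
          rw [Subgroup.mem_subgroupOf] at this
          exact this
      have hc := hNCT _ hx' (by rw [Subgroup.orderOf_coe]; exact hox)
      rw [Subgroup.mem_centralizer_iff] at hc ⊢
      intro y hy
      rw [SetLike.mem_coe, Subgroup.mem_subgroupOf] at hy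
      apply Subtype.ext
      simpa using hc _ hy
    obtain ⟨M, hMn, hMi⟩ := ih _ hcardlt ↥N rfl hsecN (T'.subtype hTN)
      (by rw [Sylow.coe_subtype]; exact hTNne) (by rw [Sylow.coe_subtype]; exact hNCN)
    -- the derived subgroup of `N` lies in `M`
    have hcomm : ⁅N, N⁆ ≤ M.map N.subtype := by
      rw [Subgroup.commutator_le]
      intro a ha b hb
      refine ⟨⁅(⟨a, ha⟩ : ↥N), ⟨b, hb⟩⁆, ?_, rfl⟩
      have hQ : Nat.card (↥N ⧸ M) = p := by rw [← Subgroup.index_eq_card, hMi]
      have hcyc : IsCyclic (↥N ⧸ M) := isCyclic_of_prime_card hQ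
      have hcomm' : ∀ u v : ↥N ⧸ M, u * v = v * u := by
        let _ := IsCyclic.commGroup (α := ↥N ⧸ M)
        exact fun u v => mul_comm u v
      rw [SetLike.mem_coe, ← QuotientGroup.eq_one_iff, commutatorElement_def]
      simp only [QuotientGroup.mk_mul, QuotientGroup.mk_inv]
      have key : ∀ u v : ↥N ⧸ M, u * v * u⁻¹ * v⁻¹ = 1 := by
        intro u v
        rw [hcomm' u v]
        group
      exact key _ _
    -- hence `T` is not contained in the derived subgroup of `X`
    apply exists_normal_index_p_of_not_le_commutator (T' : Subgroup X) hT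
    intro hle
    have h1 : (T' : Subgroup X) ≤ M.map N.subtype := by
      have : (T' : Subgroup X) ≤ (T' : Subgroup X) ⊓ commutator X := le_inf le_rfl hle
      rw [he] at this
      exact (this.trans inf_le_right).trans hcomm
    have h2 : (T' : Subgroup X).subgroupOf N ≤ M := by
      intro x hx
      rw [Subgroup.mem_subgroupOf] at hx
      obtain ⟨m, hm, hmx⟩ := h1 hx
      have : m = x := Subtype.ext hmx
      exact this ▸ hm
    have h3 := Subgroup.relIndex_mul_index h2
    have h4 : ¬ p ∣ ((T' : Subgroup X).subgroupOf N).index := by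
      have := (T'.subtype hTN).not_dvd_index
      rwa [Sylow.coe_subtype] at this
    apply h4
    rw [← h3, hMi]
    exact dvd_mul_left p _

end Cfsg.Agent.Helper30
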