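import Mathlib
import Cfsg.Agent.Lib.Helper98.WR0

/-!
# WR (helper98 server, S2347): piece W13 `mulOp_intertwines` (helper30)
-/

set_option autoImplicit false

namespace Cfsg.Agent.Helper30.WR

open Matrix Cfsg.Agent.Helper98.SPE Cfsg.Agent.Helper98.WR

universe u v

section WEYL

variable {F : Type*} [Field F] {n : ℕ} (ψ : AddChar F ℂ)

/-- piece W13 [MED]. -/
theorem mulOp_intertwines (h2 : (2 : F) ≠ 0) (a : Matrix (Fin n) (Fin n) F) (ha : aᵀ = a) :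
    ∃ ε : F, (ε = 1 ∨ ε = -1) ∧ ∀ v : Fin n ⊕ Fin n → F,
      mulOp (fun x : Fin n → F => ψ (ε * (x ⬝ᵥ (a *ᵥ x)) / 2)) * wOp ψ v =
        wOp ψ (aMat a *ᵥ v) * mulOp (fun x : Fin n → F => ψ (ε * (x ⬝ᵥ (a *ᵥ x)) / 2)) := by
  refine ⟨-1, Or.inr rfl, fun v => ?_⟩
  have hinl : (aMat a *ᵥ v) ∘ Sum.inl = v ∘ Sum.inl + a *ᵥ (v ∘ Sum.inr) := by
    unfold aMat
    rw [Matrix.fromBlocks_mulVec, Sum.elim_comp_inl, Matrix.one_mulVec]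
  have hinr : (aMat a *ᵥ v) ∘ Sum.inr = v ∘ Sum.inr := by
    unfold aMat
    rw [Matrix.fromBlocks_mulVec, Sum.elim_comp_inr, Matrix.zero_mulVec, Matrix.one_mulVec,
      zero_add]
  apply LinearMap.ext
  intro f
  funext x
  rw [Module.End.mul_apply, Module.End.mul_apply, mulOp_apply, wOp_apply, wOp_apply, mulOp_apply,
    hinl, hinr]
  rw [← mul_assoc, ← mul_assoc, ← AddChar.map_add_eq_mul, ← AddChar.map_add_eq_mul]
  congr 2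
  -- the algebraic identity
  have s1 : (v ∘ Sum.inr) ⬝ᵥ a *ᵥ x = (a *ᵥ (v ∘ Sum.inr)) ⬝ᵥ x := by
    rw [Matrix.dotProduct_mulVec, ← Matrix.mulVec_transpose, ha]
  have s2 : x ⬝ᵥ a *ᵥ (v ∘ Sum.inr) = (a *ᵥ (v ∘ Sum.inr)) ⬝ᵥ x := dotProduct_comm _ _
  have s3 : (v ∘ Sum.inr) ⬝ᵥ a *ᵥ (v ∘ Sum.inr) = (a *ᵥ (v ∘ Sum.inr)) ⬝ᵥ (v ∘ Sum.inr) :=
    dotProduct_comm _ _
  simp only [Matrix.mulVec_add, add_dotProduct, dotProduct_add]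
  rw [s1, s2, s3]
  field_simp
  ring

end WEYL

end Cfsg.Agent.Helper30.WR
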