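import Mathlib
import Cfsg.Agent.Lib.Helper98.WR0

/-!
# WR (helper98 server, S2347): piece W15 `exists_rep_of_invariant` (helper30)
-/

set_option autoImplicit false

namespace Cfsg.Agent.Helper30.WR

open Matrix Cfsg.Agent.Helper98.SPE Cfsg.Agent.Helper98.WR

universe u v

section GEN

/-- the restriction of a representation to an invariant subspace -/
def h30_restrictRep {G : Type u} [Group G] {V : Type v} [AddCommGroup V] [Module ℂ V]
    (ρ : Representation ℂ G V) (U : Submodule ℂ V) (hU : ∀ g : G, ∀ f ∈ U, ρ g f ∈ U) :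
    Representation ℂ G ↥U where
  toFun g := (ρ g).restrict (hU g)
  map_one' := by
    ext ⟨f, hf⟩
    simp [LinearMap.restrict_apply]
  map_mul' g h := by
    ext ⟨f, hf⟩
    simp [LinearMap.restrict_apply]

theorem h30_restrictRep_apply {G : Type u} [Group G] {V : Type v} [AddCommGroup V] [Module ℂ V]
    (ρ : Representation ℂ G V) (U : Submodule ℂ V) (hU : ∀ g : G, ∀ f ∈ U, ρ g f ∈ U) (g : G)
    (f : ↥U) : ((h30_restrictRep ρ U hU g f : ↥U) : V) = ρ g (f : V) := rfl

theorem h30_restrictRep_eq_one_iff {G : Type u} [Group G] {V : Type v} [AddCommGroup V]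
    [Module ℂ V] (ρ : Representation ℂ G V) (U : Submodule ℂ V)
    (hU : ∀ g : G, ∀ f ∈ U, ρ g f ∈ U) (g : G) :
    h30_restrictRep ρ U hU g = 1 ↔ ∀ f ∈ U, ρ g f = f := by
  constructor
  · intro h f hf
    have := congrArg (fun A : Module.End ℂ ↥U => ((A ⟨f, hf⟩ : ↥U) : V)) h
    simpa [h30_restrictRep_apply] using this
  · intro h
    ext ⟨f, hf⟩
    rw [h30_restrictRep_apply]
    exact h f hf

/-- piece W15 [MED]. -/
theorem exists_rep_of_invariant {G : Type u} [Group G] {V : Type v} [AddCommGroup V] [Module ℂ V]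
    [FiniteDimensional ℂ V] (ρ : Representation ℂ G V) (U : Submodule ℂ V)
    (hU : ∀ g : G, ∀ f ∈ U, ρ g f ∈ U) (d : ℕ) (hd : Module.finrank ℂ ↥U = d) :
    ∃ ρ' : Representation ℂ G (Fin d → ℂ), ∀ g : G, ρ' g = 1 ↔ ∀ f ∈ U, ρ g f = f := by
  have hfr : Module.finrank ℂ ↥U = Module.finrank ℂ (Fin d → ℂ) := by
    rw [hd, Module.finrank_fin_fun]
  let e : ↥U ≃ₗ[ℂ] (Fin d → ℂ) := LinearEquiv.ofFinrankEq _ _ hfr
  let ρ' : Representation ℂ G (Fin d → ℂ) :=
    { toFun := fun g => e.conj (h30_restrictRep ρ U hU g)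
      map_one' := by
        rw [map_one]
        exact LinearEquiv.conj_id e
      map_mul' := fun g h => by
        rw [map_mul]
        exact LinearEquiv.conj_comp e _ _ }
  refine ⟨ρ', fun g => ?_⟩
  rw [← h30_restrictRep_eq_one_iff ρ U hU g]
  show e.conj (h30_restrictRep ρ U hU g) = 1 ↔ _
  constructor
  · intro h
    apply e.conj.injective
    rw [h]
    exact (LinearEquiv.conj_id e).symm
  · intro h
    rw [h]
    exact LinearEquiv.conj_id e

end GEN

end Cfsg.Agent.Helper30.WR
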