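import Mathlib

/-!
# helper98 ZTI server (S4151): piece (B1) `conj_eq_of_cyclic_pgroup`
-/

set_option autoImplicit false

namespace Cfsg.Agent.Helper30.ZTI

universe u

/-- (B1) a `p'`-element normalizing a cyclic `p`-group and centralizing a non-identity element
centralizes it. -/
theorem conj_eq_of_cyclic_pgroup {G : Type u} [Group G] [Finite G] (P : Subgroup G) (p : ℕ)
    (hp : p.Prime) (hP : IsPGroup p P) (hcyc : IsCyclic P) (q : G)
    (hq : q ∈ Subgroup.normalizer (P : Set G)) (hqp : (orderOf q).Coprime p) (x : G) (hx : x ∈ P)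
    (hx1 : x ≠ 1) (hqx : q * x * q⁻¹ = x) : ∀ y ∈ P, q * y * q⁻¹ = y := by
  haveI : Fact p.Prime := ⟨hp⟩
  let K : Subgroup G := Subgroup.zpowers q
  have hKP : K ≤ Subgroup.normalizer (P : Set G) := by
    rw [Subgroup.zpowers_le]
    exact hq
  let _ := MulDistribMulAction.compHom P (P.normalizerMonoidHom.comp (Subgroup.inclusion hKP))
  have hsmul : ∀ (k : K) (g : P), ((k • g : P) : G) = (k : G) * (g : G) * (k : G)⁻¹ :=
    fun k g => rfl
  obtain ⟨n, hn⟩ := hP.exists_card_eq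
  have hGK : (Nat.card P).Coprime (Nat.card K) := by
    rw [hn, Nat.card_zpowers]
    exact (Nat.Coprime.pow_left n hqp.symm)
  let ϕ := MulDistribMulAction.toMonoidHomZModOfIsCyclic P K rfl
  have h (g : P) (k : K) (m : ℤ) (h : ϕ k - 1 = m) : k • g * g⁻¹ = g ^ m := by
    rw [sub_eq_iff_eq_add, ← Int.cast_one, ← Int.cast_add] at h
    rw [MulDistribMulAction.toMonoidHomZModOfIsCyclic_apply rfl k g (m + 1) h,
      zpow_add_one, mul_inv_cancel_right]
  have hG' : ∀ k : K, ϕ k = 1 ∨ IsUnit (ϕ k - 1) := by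
    intro k
    exact ZMod.eq_one_or_isUnit_sub_one hn (ϕ k)
      (hGK.symm.coprime_dvd_left ((orderOf_map_dvd ϕ k).trans (orderOf_dvd_natCard k)))
  let k0 : K := ⟨q, Subgroup.mem_zpowers q⟩
  rcases hG' k0 with h1 | h1
  · intro y hy
    have h2 := h ⟨y, hy⟩ k0 0 (by rw [h1, sub_self, Int.cast_zero])
    rw [zpow_zero, mul_inv_eq_one] at h2
    have h3 := congrArg (fun z : P => (z : G)) h2
    simpa [hsmul] using h3
  · exfalso
    obtain ⟨⟨u, v, -, hvu⟩, hu : u = ϕ k0 - 1⟩ := h1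
    rw [← u.intCast_zmod_cast] at hu hvu
    rw [← v.intCast_zmod_cast, ← Int.cast_mul, ← Int.cast_one, ZMod.intCast_eq_intCast_iff] at hvu
    have h2 := h ⟨x, hx⟩ k0 u.cast hu.symm
    have h3 : k0 • (⟨x, hx⟩ : P) = ⟨x, hx⟩ := by
      apply Subtype.ext
      rw [hsmul]
      exact hqx
    rw [h3, mul_inv_cancel] at h2
    -- `x ^ u = 1` and `v * u ≡ 1`, hence `x = 1`
    have h4 : (⟨x, hx⟩ : P) ^ ((v.cast : ℤ) * (u.cast : ℤ)) = (⟨x, hx⟩ : P) ^ (1 : ℤ) := by
      rw [zpow_eq_zpow_iff_modEq]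
      exact hvu.of_dvd (Int.natCast_dvd_natCast.mpr (orderOf_dvd_natCard _))
    rw [mul_comm, zpow_mul, ← h2, one_zpow, zpow_one] at h4
    apply hx1
    exact (congrArg (fun z : P => (z : G)) h4).symm

end Cfsg.Agent.Helper30.ZTI
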