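import Mathlib

/-!
# helper98 ZTI server (S4151): piece (B4c) `normalizer_le_centralizer_or_normal`
-/

set_option autoImplicit false

namespace Cfsg.Agent.Helper30.ZTI

universe u

/-- (B4c) a Sylow `p`-subgroup `P` of a Z-group `K`: `N_K(P) ≤ C(P)` or `P ⊴ K`. -/
theorem normalizer_le_centralizer_or_normal {G : Type u} [Group G] [Finite G] (K P : Subgroup G)
    (hZ : IsZGroup K) (p : ℕ) (hp : p.Prime) (hPK : P ≤ K)
    (hcard : Nat.card P = p ^ (Nat.card K).factorization p) :
    K ⊓ Subgroup.normalizer (P : Set G) ≤ Subgroup.centralizer (P : Set G) ∨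
      K ≤ Subgroup.normalizer (P : Set G) := by
  haveI : Fact p.Prime := ⟨hp⟩
  haveI := hZ
  have hc' : Nat.card (P.subgroupOf K) = p ^ (Nat.card K).factorization p := by
    rw [← hcard]
    exact Nat.card_congr (Subgroup.subgroupOfEquivOfLe hPK).toEquiv
  let P' : Sylow p K := Sylow.ofCard (P.subgroupOf K) hc'
  have hmemP' : ∀ z : K, z ∈ (P' : Subgroup K) ↔ (z : G) ∈ P := fun z => Subgroup.mem_subgroupOf
  rcases Sylow.normalizer_le_centralizer_or_le_commutator P' with h | h
  · left
    rintro k ⟨hkK, hkN⟩
    rw [Subgroup.mem_centralizer_iff]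
    intro y hy
    have h1 : (⟨k, hkK⟩ : K) ∈ Subgroup.normalizer ((P' : Subgroup K) : Set K) := by
      rw [Subgroup.mem_normalizer_iff]
      intro z
      rw [hmemP', hmemP']
      exact Subgroup.mem_normalizer_iff.1 hkN z
    have h2 := h h1
    rw [Subgroup.mem_centralizer_iff] at h2
    have h3 := h2 ⟨y, hPK hy⟩ ((hmemP' _).2 hy)
    exact congrArg Subtype.val h3
  · right
    haveI : IsCyclic (commutator K) := IsZGroup.isCyclic_commutator K
    have hCcomm : ∀ a ∈ commutator K, ∀ b ∈ commutator K, a * b = b * a := by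
      intro a ha b hb
      have h1 := (IsCyclic.isMulCommutative (α := commutator K)).is_comm.comm ⟨a, ha⟩ ⟨b, hb⟩
      exact congrArg Subtype.val h1
    have hconj : ∀ k : K, ∀ y ∈ (P' : Subgroup K), k * y * k⁻¹ ∈ (P' : Subgroup K) := by
      intro k y hy
      let Pk : Subgroup K := (P' : Subgroup K).map (MulAut.conj k).toMonoidHom
      have hPkC : Pk ≤ commutator K := by
        rintro _ ⟨z, hz, rfl⟩
        exact (inferInstance : (commutator K).Normal).conj_mem z (h hz) k
      have hPkp : IsPGroup p Pk := P'.2.map _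
      have hnorm : (P' : Subgroup K) ≤ Subgroup.normalizer (Pk : Set K) := by
        intro a ha
        have haC : a ∈ commutator K := h ha
        rw [Subgroup.mem_normalizer_iff]
        intro z
        constructor
        · intro hz
          have e : a * z * a⁻¹ = z := by
            rw [hCcomm a haC z (hPkC hz), mul_inv_cancel_right]
          rw [e]
          exact hz
        · intro hz
          have e : a⁻¹ * (a * z * a⁻¹) * a = a * z * a⁻¹ := by
            rw [hCcomm a⁻¹ ((commutator K).inv_mem haC) _ (hPkC hz), inv_mul_cancel_right]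
          have e2 : a⁻¹ * (a * z * a⁻¹) * a = z := by group
          rw [e2] at e
          rw [e]
          exact hz
      have hsup : IsPGroup p ((P' : Subgroup K) ⊔ Pk : Subgroup K) :=
        P'.2.to_sup_of_normal_right' hPkp hnorm
      have heq := P'.is_maximal' hsup le_sup_left
      have hle : Pk ≤ (P' : Subgroup K) := by
        rw [← heq]
        exact le_sup_right
      exact hle ⟨y, hy, rfl⟩
    have hconjG : ∀ k ∈ K, ∀ y ∈ P, k * y * k⁻¹ ∈ P := by
      intro k hk y hy
      have h1 := hconj ⟨k, hk⟩ ⟨y, hPK hy⟩ ((hmemP' _).2 hy)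
      exact (hmemP' _).1 h1
    intro k hk
    rw [Subgroup.mem_normalizer_iff]
    intro y
    constructor
    · exact hconjG k hk y
    · intro hy
      have h1 := hconjG k⁻¹ (K.inv_mem hk) _ hy
      have e : k⁻¹ * (k * y * k⁻¹) * k⁻¹⁻¹ = y := by group
      rw [e] at h1
      exact h1

end Cfsg.Agent.Helper30.ZTI
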